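import Groth.Agent.H2.FlatPow

set_option autoImplicit false
universe u
open scoped TensorProduct
open Function (Injective Surjective Exact)

namespace Groth.Agent.H2

variable {R S M : Type u} [CommRing R] [CommRing S] [Algebra R S]
  [AddCommGroup M] [Module R M] [Module S M] [IsScalarTower R S M]

/-- Local criterion of flatness, general form: `R → S` a map of Noetherian rings, `M` a finite
`S`-module, `I` an ideal of `R` with `IS` in the Jacobson radical of `S`.  If `I ⊗ M → M` is
injective and `M/IM` is flat over `R/I` then `M` is flat over `R`. -/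
theorem flat_of_rTensor_injective_of_flat_quotient [IsNoetherianRing R] [IsNoetherianRing S]
    [Module.Finite S M] (I : Ideal R) (hI : I.map (algebraMap R S) ≤ Ideal.jacobson ⊥)
    (hT : Injective (I.subtype.rTensor M)) [Module.Flat (R ⧸ I) ((R ⧸ I) ⊗[R] M)] :
    Module.Flat R M := by
  have hT' : Tor1Zero R (R ⧸ I) M := (tor1Zero_quotient_iff I).mpr hT
  refine flat_of_lTensor_injective_quotient_pow (S := S) I hI ?_
  intro n _ Jbar
  have hkill : (I ^ n) • (⊤ : Submodule R ((R ⧸ I ^ n) ⧸ Jbar)) = ⊥ := by
    rw [eq_bot_iff, Submodule.smul_le]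
    intro a ha x _
    rw [Submodule.mem_bot, ← algebraMap_smul (R ⧸ I ^ n) a x]
    have : algebraMap R (R ⧸ I ^ n) a = 0 := by
      rw [Ideal.Quotient.algebraMap_eq, Ideal.Quotient.eq_zero_iff_mem]
      exact ha
    rw [this, zero_smul]
  have h'' : Tor1Zero R ((R ⧸ I ^ n) ⧸ Jbar) M :=
    tor1Zero_of_pow_smul_eq_bot I hT' n _ hkill
  exact lTensor_injective_of_tor1Zero ((Submodule.subtype Jbar).restrictScalars R)
    ((Submodule.mkQ Jbar).restrictScalars R) (Submodule.injective_subtype Jbar)
    (LinearMap.exact_subtype_mkQ Jbar) (Submodule.mkQ_surjective Jbar) h''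

end Groth.Agent.H2
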