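import Groth.Agent.H2.Tor1

set_option autoImplicit false
universe u
open scoped TensorProduct
open Function (Injective Surjective Exact)

namespace Groth.Agent.H2

variable {R S M : Type u} [CommRing R] [CommRing S] [Algebra R S]
  [AddCommGroup M] [Module S M] [Module R M] [IsScalarTower R S M]

/-- The natural additive map `I ⊗_R M → (IS) ⊗_S M`. -/
noncomputable def idealMapTensor (I : Ideal R) :
    (I ⊗[R] M) →+ ((I.map (algebraMap R S) : Ideal S) ⊗[S] M) :=
  TensorProduct.liftAddHom
    { toFun := fun a =>
        { toFun := fun m => (⟨algebraMap R S a, Ideal.mem_map_of_mem _ a.2⟩ :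
            (I.map (algebraMap R S) : Ideal S)) ⊗ₜ[S] m
          map_zero' := by simp
          map_add' := fun m m' => by simp [TensorProduct.tmul_add] }
      map_zero' := by
        ext m
        simp only [ZeroMemClass.coe_zero, map_zero, AddMonoidHom.coe_mk, ZeroHom.coe_mk,
          AddMonoidHom.zero_apply]
        rw [show (⟨0, _⟩ : (I.map (algebraMap R S) : Ideal S)) = 0 from rfl, TensorProduct.zero_tmul]
      map_add' := fun a b => by
        ext m
        simp only [AddMonoidHom.coe_mk, ZeroHom.coe_mk, AddMonoidHom.add_apply]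
        rw [← TensorProduct.add_tmul]
        congr 1
        ext
        simp }
    (by
      intro r a m
      simp only [AddMonoidHom.coe_mk, ZeroHom.coe_mk]
      have : (⟨algebraMap R S ((r • a : I) : R), Ideal.mem_map_of_mem _ (r • a).2⟩ :
          (I.map (algebraMap R S) : Ideal S)) =
          (algebraMap R S r) • ⟨algebraMap R S a, Ideal.mem_map_of_mem _ a.2⟩ := by
        ext
        simp [Algebra.smul_def]
      rw [this, TensorProduct.smul_tmul, algebraMap_smul])

@[simp]
theorem idealMapTensor_tmul (I : Ideal R) (a : I) (m : M) :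
    idealMapTensor (S := S) I (a ⊗ₜ[R] m) =
      (⟨algebraMap R S a, Ideal.mem_map_of_mem _ a.2⟩ :
        (I.map (algebraMap R S) : Ideal S)) ⊗ₜ[S] m := rfl

theorem idealMapTensor_surjective (I : Ideal R) :
    Surjective (idealMapTensor (S := S) (M := M) I) := by
  intro z
  induction z using TensorProduct.induction_on with
  | zero => exact ⟨0, map_zero _⟩
  | add x y hx hy =>
    obtain ⟨x', rfl⟩ := hx
    obtain ⟨y', rfl⟩ := hy
    exact ⟨x' + y', map_add _ _ _⟩
  | tmul j m =>
    obtain ⟨j, hj⟩ := j
    revert m
    refine Submodule.span_induction (p := fun j hj => ∀ m : M,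
      ∃ a, idealMapTensor (S := S) (M := M) I a = (⟨j, hj⟩ : (I.map (algebraMap R S) : Ideal S)) ⊗ₜ[S] m)
      ?_ ?_ ?_ ?_ hj
    · rintro _ ⟨a, ha, rfl⟩ m
      exact ⟨(⟨a, ha⟩ : I) ⊗ₜ[R] m, rfl⟩
    · intro m
      refine ⟨0, ?_⟩
      rw [map_zero, show (⟨0, _⟩ : (I.map (algebraMap R S) : Ideal S)) = 0 from rfl,
        TensorProduct.zero_tmul]
    · intro x y hx hy ihx ihy m
      obtain ⟨a, ha⟩ := ihx m
      obtain ⟨b, hb⟩ := ihy m
      refine ⟨a + b, ?_⟩
      rw [map_add, ha, hb, ← TensorProduct.add_tmul]
      rfl
    · intro s x hx ih m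
      obtain ⟨a, ha⟩ := ih (s • m)
      refine ⟨a, ?_⟩
      rw [ha, ← TensorProduct.smul_tmul]
      rfl

/-- If `M` is an `S`-module which is flat over `R`, then `(IS) ⊗_S M → M` is injective. -/
theorem rTensor_map_injective_of_flat [Module.Flat R M] (I : Ideal R) :
    Injective ((I.map (algebraMap R S)).subtype.rTensor M) := by
  have hR : Injective (I.subtype.rTensor M) :=
    Module.Flat.rTensor_preserves_injective_linearMap I.subtype (Submodule.injective_subtype I)
  -- compare after identifying `R ⊗_R M` and `S ⊗_S M` with `M`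
  have hcomm : ∀ y : I ⊗[R] M,
      TensorProduct.lid S M ((I.map (algebraMap R S)).subtype.rTensor M (idealMapTensor I y)) =
        TensorProduct.lid R M (I.subtype.rTensor M y) := by
    intro y
    induction y using TensorProduct.induction_on with
    | zero => simp
    | tmul a m => simp
    | add x y hx hy => simp only [map_add, hx, hy]
  rw [injective_iff_map_eq_zero]
  intro z hz
  obtain ⟨y, rfl⟩ := idealMapTensor_surjective (S := S) (M := M) I z
  have h1 := hcomm y
  rw [hz, map_zero] at h1
  have h2 : y = 0 := by
    apply hR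
    apply (TensorProduct.lid R M).injective
    rw [← h1, map_zero, map_zero]
  rw [h2, map_zero]

end Groth.Agent.H2
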