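import Groth.Agent.H2.LocalCrit
import Mathlib.RingTheory.Flat.FaithfullyFlat.Basic
import Mathlib.RingTheory.Flat.FaithfullyFlat.Algebra

set_option autoImplicit false
universe u
open scoped TensorProduct
open Function (Injective Surjective Exact)

namespace Groth.Agent.H2

/-- If `M` is a faithfully flat `S`-module which is flat over `R`, then `S` is flat over `R`. -/
theorem flat_of_faithfullyFlat_module (R S M : Type u) [CommRing R] [CommRing S] [Algebra R S]
    [AddCommGroup M] [Module R M] [Module S M] [IsScalarTower R S M]
    [Module.FaithfullyFlat S M] [Module.Flat R M] : Module.Flat R S := by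
  rw [Module.Flat.iff_lTensor_preserves_injective_linearMap]
  intro N P _ _ _ _ f hf
  have h1 : Injective (f.lTensor M) := Module.Flat.lTensor_preserves_injective_linearMap f hf
  let g : S ⊗[R] N →ₗ[S] S ⊗[R] P := TensorProduct.AlgebraTensorModule.map (A := S) LinearMap.id f
  have hg : Injective g := by
    rw [← Module.FaithfullyFlat.lTensor_injective_iff_injective S M]
    have hcomm : ∀ z : M ⊗[S] (S ⊗[R] N),
        TensorProduct.AlgebraTensorModule.cancelBaseChange R S S M P (g.lTensor M z) =
          f.lTensor M (TensorProduct.AlgebraTensorModule.cancelBaseChange R S S M N z) := by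
      intro z
      induction z using TensorProduct.induction_on with
      | zero => simp
      | add x y hx hy => simp only [map_add, hx, hy]
      | tmul m y =>
        induction y using TensorProduct.induction_on with
        | zero => simp
        | add x y hx hy => simp only [TensorProduct.tmul_add, map_add, hx, hy]
        | tmul s n => simp [g]
    intro z z' hzz'
    apply (TensorProduct.AlgebraTensorModule.cancelBaseChange R S S M N).injective
    apply h1
    rw [← hcomm, ← hcomm, hzz']
  exact hg

end Groth.Agent.H2
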