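import Mathlib
import Groth.Prelude.Def_CAlg
import Groth.Agent.H72.DepthExt
import Groth.Agent.H34.Depth

set_option autoImplicit false
set_option linter.unusedSectionVars false
universe u

open CategoryTheory Abelian Groth.Agent.H15 Groth.Agent.H72.DepthExt IsLocalRing
open scoped Pointwise

namespace Groth.Agent.H2.HartshorneConn

variable {R : Type u} [CommRing R] [IsLocalRing R]

/-- algebraic core of Hartshorne's connectedness theorem -/
lemma eq_bot_or_eq_bot_of_regular (I J : Ideal R) (hIJ : I * J = ⊥) (x y : R)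
    (hx : x ∈ I ⊔ J) (hy : y ∈ I ⊔ J) (hxr : IsSMulRegular R x)
    (hyr : IsSMulRegular (QuotSMulTop x R) y) : I = ⊥ ∨ J = ⊥ := by
  obtain ⟨a, ha, b, hb, rfl⟩ := Submodule.mem_sup.mp hx
  obtain ⟨a', ha', b', hb', rfl⟩ := Submodule.mem_sup.mp hy
  have hzero : ∀ {s t : R}, s ∈ I → t ∈ J → s * t = 0 := by
    intro s t hs ht
    have := Ideal.mul_mem_mul hs ht
    rwa [hIJ, Ideal.mem_bot] at this
  have hab := hzero ha hb
  have hab' := hzero ha hb'
  have ha'b := hzero ha' hb
  -- `y • mk a = 0`
  have h1 : (a' + b') • (Submodule.Quotient.mk a : QuotSMulTop (a + b) R) = 0 := by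
    rw [← Submodule.Quotient.mk_smul, Submodule.Quotient.mk_eq_zero]
    have : (a' + b') • a = (a + b) • a' := by
      simp only [smul_eq_mul]
      linear_combination hab' - ha'b
    rw [this]
    exact Submodule.smul_mem_pointwise_smul _ _ _ Submodule.mem_top
  have h2 := hyr.right_eq_zero_of_smul h1
  rw [Submodule.Quotient.mk_eq_zero] at h2
  obtain ⟨c, hc⟩ := (Groth.Agent.H34.mem_smul_top_iff R (a + b) a).mp h2
  simp only [smul_eq_mul] at hc
  -- `c` is idempotent
  have h3 : (a + b) * ((a + b) * (c - c * c)) = 0 := by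
    linear_combination (a + b - (a + b) * c - a) * hc + hab
  have h4 : c - c * c = 0 :=
    hxr.right_eq_zero_of_smul (hxr.right_eq_zero_of_smul (by simpa using h3))
  have h5 : c * (1 - c) = 0 := by linear_combination h4
  rcases IsLocalRing.isUnit_or_isUnit_one_sub_self c with hu | hu
  · -- c = 1, b = 0, x ∈ I, so J = ⊥
    have hc1 : 1 - c = 0 := by
      have := hu.mul_left_cancel (by rw [h5, mul_zero] : c * (1 - c) = c * 0)
      exact this
    have hb0 : b = 0 := by linear_combination (a + b) * hc1 + hc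
    right
    rw [eq_bot_iff]
    intro j hj
    have h6 : (a + b) * j = 0 := by
      rw [hb0, add_zero]
      exact hzero ha hj
    exact hxr.right_eq_zero_of_smul (by simpa using h6)
  · -- c = 0, a = 0, x ∈ J, so I = ⊥
    have hc0 : c = 0 := by
      have := hu.mul_left_cancel (by rw [mul_comm, h5, mul_zero] : (1 - c) * c = (1 - c) * 0)
      exact this
    have ha0 : a = 0 := by rw [← hc, hc0, mul_zero]
    left
    rw [eq_bot_iff]
    intro i hi
    have h6 : (a + b) * i = 0 := by
      rw [ha0, zero_add, mul_comm]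
      exact hzero hi hb
    exact hxr.right_eq_zero_of_smul (by simpa using h6)

variable [IsNoetherianRing R]

lemma smul_top_ne_top_self (K : Ideal R) (hK : K ≠ ⊤) : K • (⊤ : Submodule R R) ≠ ⊤ := by
  rw [smul_eq_mul, Ideal.mul_top]
  exact hK

/-- depth w.r.t. an `𝔪`-primary ideal is at least the depth (case of the ring, bound 2). -/
lemma two_le_idealDepth_of_pow_le (h : 2 ≤ LocCoh.depth R R) (K : Ideal R) (hK : K ≠ ⊤) (n : ℕ)
    (hn : (maximalIdeal R) ^ n ≤ K) : 2 ≤ LocCoh.idealDepth K R := by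
  have hne𝔪 : maximalIdeal R • (⊤ : Submodule R R) ≠ ⊤ :=
    smul_top_ne_top_self _ (Ideal.IsMaximal.ne_top inferInstance)
  have hneK := smul_top_ne_top_self K hK
  have t := ModuleCat.exists_isRegular_tfae (maximalIdeal R) 2 (ModuleCat.of R R)
    (lt_top_iff_ne_top.mpr hne𝔪)
  have h2 := (le_idealDepth_iff_ext (maximalIdeal R) R hne𝔪 2).mp (by exact_mod_cast h)
  have h1 := (t.out 1 0).mp h2
  have hnt : Nontrivial (R ⧸ K) := Ideal.Quotient.nontrivial_iff.mpr hK
  have hnt' : Nontrivial (Shrink.{u} (R ⧸ K)) := (Shrink.linearEquiv R (R ⧸ K)).toEquiv.nontrivial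
  have hfin : Module.Finite R (Shrink.{u} (R ⧸ K)) :=
    Module.Finite.equiv (Shrink.linearEquiv R (R ⧸ K)).symm
  have hsupp : Module.support R (Shrink.{u} (R ⧸ K)) ⊆
      PrimeSpectrum.zeroLocus (maximalIdeal R : Set R) := by
    rw [(Shrink.linearEquiv R _).support_eq, Module.support_eq_zeroLocus,
      Ideal.annihilator_quotient, PrimeSpectrum.zeroLocus_subset_zeroLocus_iff]
    intro x hx
    exact ⟨n, hn (Ideal.pow_mem_pow hx n)⟩
  have h3 := h1 (testObj K) hnt' hfin hsupp
  have := (le_idealDepth_iff_ext K R hneK 2).mpr h3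
  exact_mod_cast this

/-- **Hartshorne's connectedness theorem** (for the ring itself). -/
theorem isConnected_punctured (h : 2 ≤ LocCoh.depth R R) :
    _root_.IsConnected {x : PrimeSpectrum R | x.asIdeal ≠ maximalIdeal R} := by
  have hne𝔪 : maximalIdeal R • (⊤ : Submodule R R) ≠ ⊤ :=
    smul_top_ne_top_self _ (Ideal.IsMaximal.ne_top inferInstance)
  constructor
  · -- nonempty
    obtain ⟨x, hx𝔪, hxr⟩ := Groth.Agent.H34.exists_regular_of_one_le_idealDepth (maximalIdeal R) R
      hne𝔪 (le_trans (by norm_num) h)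
    obtain ⟨p, hp, hp𝔪⟩ := Ideal.exists_minimalPrimes_le (bot_le : (⊥ : Ideal R) ≤ maximalIdeal R)
    have hpprime : p.IsPrime := hp.1.1
    refine ⟨⟨p, hpprime⟩, ?_⟩
    intro hpe
    change p = maximalIdeal R at hpe
    have hpm : p ∈ minimalPrimes R := hp
    have hdisj := Ideal.disjoint_nonZeroDivisors_of_mem_minimalPrimes hpm
    have hxnzd : x ∈ nonZeroDivisors R := by
      rw [mem_nonZeroDivisors_iff_right]
      intro z hz
      exact hxr.right_eq_zero_of_smul (by simpa [mul_comm] using hz)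
    exact Set.disjoint_left.mp hdisj (hpe ▸ hx𝔪) hxnzd
  · rw [isPreconnected_iff_subset_of_disjoint_closed]
    intro u v hu hv huv hdis
    obtain ⟨I, rfl⟩ := (PrimeSpectrum.isClosed_iff_zeroLocus_ideal u).mp hu
    obtain ⟨J, rfl⟩ := (PrimeSpectrum.isClosed_iff_zeroLocus_ideal v).mp hv
    by_cases hI : I = ⊤
    · right
      intro x hx
      rcases huv hx with h' | h'
      · rw [hI] at h'
        simp at h'
      · exact h'
    by_cases hJ : J = ⊤
    · left
      intro x hx
      rcases huv hx with h' | h'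
      · exact h'
      · rw [hJ] at h'
        simp at h'
    have hI𝔪 : I ≤ maximalIdeal R := IsLocalRing.le_maximalIdeal hI
    have hJ𝔪 : J ≤ maximalIdeal R := IsLocalRing.le_maximalIdeal hJ
    -- `I * J` is nilpotent
    have hcover : PrimeSpectrum.zeroLocus ((I * J : Ideal R) : Set R) = Set.univ := by
      rw [PrimeSpectrum.zeroLocus_mul, Set.eq_univ_iff_forall]
      intro x
      by_cases hx : x.asIdeal = maximalIdeal R
      · left
        rw [PrimeSpectrum.mem_zeroLocus, hx]
        exact hI𝔪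
      · exact huv hx
    rw [PrimeSpectrum.zeroLocus_eq_univ_iff] at hcover
    obtain ⟨k, hk⟩ := Ideal.exists_pow_le_of_le_radical_of_fg
      (show I * J ≤ (⊥ : Ideal R).radical from hcover) (IsNoetherian.noetherian _)
    -- `I ⊔ J` is `𝔪`-primary
    have hprim : maximalIdeal R ≤ (I ^ (k + 1) ⊔ J ^ (k + 1) : Ideal R).radical := by
      rw [← PrimeSpectrum.zeroLocus_subset_zeroLocus_iff, PrimeSpectrum.zeroLocus_sup,
        PrimeSpectrum.zeroLocus_pow _ (Nat.succ_ne_zero k),
        PrimeSpectrum.zeroLocus_pow _ (Nat.succ_ne_zero k)]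
      intro x hx
      rw [PrimeSpectrum.mem_zeroLocus]
      by_contra hcon
      have hxU : x ∈ {x : PrimeSpectrum R | x.asIdeal ≠ maximalIdeal R} := by
        intro hxe
        apply hcon
        rw [hxe]
      have : x ∈ {x : PrimeSpectrum R | x.asIdeal ≠ maximalIdeal R} ∩
          (PrimeSpectrum.zeroLocus (I : Set R) ∩ PrimeSpectrum.zeroLocus (J : Set R)) := ⟨hxU, hx⟩
      rw [hdis] at this
      exact this
    obtain ⟨n, hn⟩ := Ideal.exists_pow_le_of_le_radical_of_fg hprim (IsNoetherian.noetherian _)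
    set I' := I ^ (k + 1) with hI'
    set J' := J ^ (k + 1) with hJ'
    have hIJ' : I' * J' = ⊥ := by
      rw [hI', hJ', ← mul_pow, eq_bot_iff]
      exact (Ideal.pow_le_pow_right (Nat.le_succ k)).trans hk
    have hK : I' ⊔ J' ≠ ⊤ := by
      intro htop
      have : I' ⊔ J' ≤ maximalIdeal R :=
        sup_le ((Ideal.pow_le_self (Nat.succ_ne_zero k)).trans hI𝔪)
          ((Ideal.pow_le_self (Nat.succ_ne_zero k)).trans hJ𝔪)
      rw [htop] at this
      exact (Ideal.IsMaximal.ne_top inferInstance) (top_le_iff.mp this)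
    have hdepth := two_le_idealDepth_of_pow_le h (I' ⊔ J') hK n hn
    obtain ⟨x, hx, y, hy, hxr, hyr⟩ := Groth.Agent.H34.exists_regular_of_two_le_idealDepth
      (I' ⊔ J') R (smul_top_ne_top_self _ hK) hdepth
    rcases eq_bot_or_eq_bot_of_regular I' J' hIJ' x y hx hy hxr hyr with h0 | h0
    · left
      have : PrimeSpectrum.zeroLocus (I : Set R) = Set.univ := by
        rw [← PrimeSpectrum.zeroLocus_pow I (Nat.succ_ne_zero k), ← hI', h0]
        exact PrimeSpectrum.zeroLocus_bot
      rw [this]
      exact Set.subset_univ _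
    · right
      have : PrimeSpectrum.zeroLocus (J : Set R) = Set.univ := by
        rw [← PrimeSpectrum.zeroLocus_pow J (Nat.succ_ne_zero k), ← hJ', h0]
        exact PrimeSpectrum.zeroLocus_bot
      rw [this]
      exact Set.subset_univ _

end Groth.Agent.H2.HartshorneConn
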