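import Groth.Agent.H2.FlatBase
import Mathlib.RingTheory.Filtration
import Mathlib.RingTheory.TensorProduct.Finite
import Mathlib.LinearAlgebra.TensorProduct.Pi
import Mathlib.RingTheory.Finiteness.Cardinality

set_option autoImplicit false
universe u
open scoped TensorProduct
open Function (Injective Surjective Exact)

namespace Groth.Agent.H2

section quotientFlat

variable {R M : Type u} [CommRing R] [AddCommGroup M] [Module R M]

/-- If `A ⊗ M` is flat over the `R`-algebra `A`, then `- ⊗_R M` preserves injections between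
`A`-modules. -/
theorem rTensor_injective_of_algebra_flat (A : Type u) [CommRing A] [Algebra R A]
    [Module.Flat A (A ⊗[R] M)] {N' N : Type u} [AddCommGroup N'] [Module R N'] [Module A N']
    [IsScalarTower R A N'] [AddCommGroup N] [Module R N] [Module A N] [IsScalarTower R A N]
    (g : N' →ₗ[A] N) (hg : Injective g) : Injective ((g.restrictScalars R).rTensor M) := by
  have key : Injective (g.rTensor (A ⊗[R] M)) :=
    Module.Flat.rTensor_preserves_injective_linearMap g hg
  let e' := TensorProduct.AlgebraTensorModule.cancelBaseChange R A A N' M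
  let e := TensorProduct.AlgebraTensorModule.cancelBaseChange R A A N M
  have hcomm : ∀ x, (g.restrictScalars R).rTensor M (e' x) = e (g.rTensor (A ⊗[R] M) x) := by
    intro x
    induction x using TensorProduct.induction_on with
    | zero => simp
    | tmul n y =>
      induction y using TensorProduct.induction_on with
      | zero => simp
      | tmul a k => simp [e, e']
      | add y z hy hz => simp only [TensorProduct.tmul_add, map_add, hy, hz]
    | add x y hx hy => simp only [map_add, hx, hy]
  intro x y hxy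
  obtain ⟨x', rfl⟩ := e'.surjective x
  obtain ⟨y', rfl⟩ := e'.surjective y
  rw [hcomm, hcomm] at hxy
  rw [key (e.injective hxy)]

theorem lTensor_injective_of_algebra_flat (A : Type u) [CommRing A] [Algebra R A]
    [Module.Flat A (A ⊗[R] M)] {N' N : Type u} [AddCommGroup N'] [Module R N'] [Module A N']
    [IsScalarTower R A N'] [AddCommGroup N] [Module R N] [Module A N] [IsScalarTower R A N]
    (g : N' →ₗ[A] N) (hg : Injective g) : Injective ((g.restrictScalars R).lTensor M) :=
  (LinearMap.lTensor_inj_iff_rTensor_inj _ _).mpr (rTensor_injective_of_algebra_flat A g hg)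

end quotientFlat

section main

variable {R S M : Type u} [CommRing R] [CommRing S] [Algebra R S]
  [AddCommGroup M] [Module R M] [Module S M] [IsScalarTower R S M]

/-- `M ⊗_R N` is a finite `S`-module if `M` is finite over `S` and `N` is finite over `R`. -/
theorem finite_tensorProduct_of_finite {N : Type u} [AddCommGroup N] [Module R N]
    [Module.Finite S M] [Module.Finite R N] : Module.Finite S (M ⊗[R] N) := by
  classical
  obtain ⟨k, π, hπ⟩ := Module.Finite.exists_fin' R N
  let e := TensorProduct.piScalarRight R S M (Fin k)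
  let φ : (Fin k → M) →ₗ[S] M ⊗[R] N :=
    (TensorProduct.AlgebraTensorModule.lTensor S M π) ∘ₗ e.symm.toLinearMap
  refine Module.Finite.of_surjective φ ?_
  intro x
  obtain ⟨y, rfl⟩ := LinearMap.lTensor_surjective M hπ x
  exact ⟨e y, by simp [φ]⟩

/-- The image of `M ⊗ (I^n • J)` in `M ⊗ J` is contained in `(IS)^n • ⊤`. -/
theorem lTensor_inclusion_mem_smul_top (I : Ideal R) (n : ℕ) (J : Ideal R) (J' : Ideal R)
    (hJ' : J' ≤ I ^ n • J) (hle : J' ≤ J) (y : M ⊗[R] J') :
    (Submodule.inclusion hle).lTensor M y ∈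
      ((I.map (algebraMap R S)) ^ n • (⊤ : Submodule S (M ⊗[R] J))) := by
  induction y using TensorProduct.induction_on with
  | zero => simp
  | add x y hx hy => rw [map_add]; exact Submodule.add_mem _ hx hy
  | tmul m b =>
    obtain ⟨b, hb⟩ := b
    have hb' : b ∈ I ^ n • J := hJ' hb
    rw [LinearMap.lTensor_tmul]
    -- induct on the membership of `b` in `I^n • J`
    have : ∀ (b : R) (_ : b ∈ I ^ n • J), ∃ hbJ : b ∈ J, m ⊗ₜ[R] (⟨b, hbJ⟩ : J) ∈
        ((I.map (algebraMap R S)) ^ n • (⊤ : Submodule S (M ⊗[R] J))) := by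
      intro b hb
      refine Submodule.smul_induction_on hb ?_ ?_
      · intro a ha j hj
        refine ⟨J.smul_mem a hj, ?_⟩
        have : m ⊗ₜ[R] (⟨a • j, J.smul_mem a hj⟩ : J) =
            (algebraMap R S a) • (m ⊗ₜ[R] (⟨j, hj⟩ : J)) := by
          rw [TensorProduct.smul_tmul', algebraMap_smul,
            show (⟨a • j, J.smul_mem a hj⟩ : J) = a • (⟨j, hj⟩ : J) from rfl,
            TensorProduct.tmul_smul, TensorProduct.smul_tmul']
        rw [this]
        refine Submodule.smul_mem_smul ?_ trivial
        rw [← Ideal.map_pow]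
        exact Ideal.mem_map_of_mem _ ha
      · rintro x y ⟨hxJ, hx⟩ ⟨hyJ, hy⟩
        refine ⟨J.add_mem hxJ hyJ, ?_⟩
        have : m ⊗ₜ[R] (⟨x + y, J.add_mem hxJ hyJ⟩ : J) =
            m ⊗ₜ[R] (⟨x, hxJ⟩ : J) + m ⊗ₜ[R] (⟨y, hyJ⟩ : J) := by
          rw [← TensorProduct.tmul_add]
          rfl
        rw [this]
        exact Submodule.add_mem _ hx hy
    obtain ⟨_, h⟩ := this b hb'
    exact h

/-- Flatness from a weak form of flatness modulo all powers of `I` (Artin–Rees and Krull
intersection). -/
theorem flat_of_lTensor_injective_quotient_pow [IsNoetherianRing R] [IsNoetherianRing S]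
    [Module.Finite S M] (I : Ideal R) (hI : I.map (algebraMap R S) ≤ Ideal.jacobson ⊥)
    (h : ∀ n : ℕ, 0 < n → ∀ Jbar : Ideal (R ⧸ I ^ n),
      Injective (((Submodule.subtype Jbar).restrictScalars R).lTensor M)) : Module.Flat R M := by
  rw [Module.Flat.iff_lTensor_injective']
  intro J
  rw [injective_iff_map_eq_zero]
  intro x hx
  have hfin : Module.Finite S (M ⊗[R] J) := finite_tensorProduct_of_finite
  have hkrull := Ideal.iInf_pow_smul_eq_bot_of_le_jacobson (I.map (algebraMap R S))
    (M := M ⊗[R] J) hI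
  suffices hx' : x ∈ (⨅ i : ℕ, (I.map (algebraMap R S)) ^ i • ⊤ : Submodule S (M ⊗[R] J)) by
    rw [hkrull] at hx'
    exact (Submodule.mem_bot S).mp hx'
  rw [Submodule.mem_iInf]
  intro n
  -- Artin–Rees
  obtain ⟨c, hc⟩ := Ideal.exists_pow_inf_eq_pow_smul I (J : Submodule R R)
  set k := n + c + 1 with hk_def
  have hkpos : 0 < k := by omega
  have hk : I ^ k ⊓ J ≤ I ^ n • J := by
    have h1 := hc k (by omega)
    have h2 : I ^ k ⊓ J = I ^ k • (⊤ : Submodule R R) ⊓ J := by
      rw [show I ^ k • (⊤ : Submodule R R) = I ^ k from by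
        rw [Ideal.smul_eq_mul, Ideal.mul_top]]
    rw [h2, h1]
    calc I ^ (k - c) • (I ^ c • (⊤ : Submodule R R) ⊓ J) ≤ I ^ (k - c) • J :=
          Submodule.smul_mono le_rfl inf_le_right
      _ ≤ I ^ n • J := Submodule.smul_mono_left (Ideal.pow_le_pow_right (by omega))
  -- flatness over `A = R / I^k`
  let A := R ⧸ I ^ k
  let Jbar : Ideal A := J.map (Ideal.Quotient.mk (I ^ k))
  let π : J →ₗ[R] Jbar :=
    { toFun := fun j => ⟨Ideal.Quotient.mk (I ^ k) j, Ideal.mem_map_of_mem _ j.2⟩
      map_add' := fun a b => by ext; simp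
      map_smul' := fun r a => by
        ext
        simp only [SetLike.val_smul, smul_eq_mul, map_mul, RingHom.id_apply]
        rfl }
  let g : Jbar →ₗ[A] A := Submodule.subtype Jbar
  have hg : Injective g := Submodule.injective_subtype Jbar
  have hG : Injective ((g.restrictScalars R).lTensor M) := h k hkpos Jbar
  let q : R →ₗ[R] A := (Ideal.Quotient.mkₐ R (I ^ k)).toLinearMap
  have hsq : (g.restrictScalars R) ∘ₗ π = q ∘ₗ J.subtype := by
    ext j
    rfl
  have hπx : π.lTensor M x = 0 := by
    apply hG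
    rw [map_zero, ← LinearMap.comp_apply, ← LinearMap.lTensor_comp, hsq, LinearMap.lTensor_comp,
      LinearMap.comp_apply, hx, map_zero]
  -- exactness
  let ι : (I ^ k ⊓ J : Ideal R) →ₗ[R] J := Submodule.inclusion inf_le_right
  have hex : Exact ι π := by
    intro j
    constructor
    · intro hj
      have : Ideal.Quotient.mk (I ^ k) (j : R) = 0 := congrArg Subtype.val hj
      rw [Ideal.Quotient.eq_zero_iff_mem] at this
      exact ⟨⟨j, ⟨this, j.2⟩⟩, rfl⟩
    · rintro ⟨y, rfl⟩
      apply Subtype.ext
      change Ideal.Quotient.mk (I ^ k) (y : R) = 0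
      rw [Ideal.Quotient.eq_zero_iff_mem]
      exact y.2.1
  have hπsurj : Surjective π := by
    rintro ⟨a, ha⟩
    obtain ⟨j, hj, rfl⟩ := (Ideal.mem_map_iff_of_surjective _ Ideal.Quotient.mk_surjective).mp ha
    exact ⟨⟨j, hj⟩, rfl⟩
  obtain ⟨y, rfl⟩ := (lTensor_exact M hex hπsurj x).mp hπx
  exact lTensor_inclusion_mem_smul_top I n J (I ^ k ⊓ J) hk inf_le_right y

/-- Flatness from flatness modulo all powers of `I` (Artin–Rees and Krull intersection). -/
theorem flat_of_flat_quotient_pow [IsNoetherianRing R] [IsNoetherianRing S] [Module.Finite S M]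
    (I : Ideal R) (hI : I.map (algebraMap R S) ≤ Ideal.jacobson ⊥)
    (h : ∀ n : ℕ, 0 < n → Module.Flat (R ⧸ I ^ n) ((R ⧸ I ^ n) ⊗[R] M)) : Module.Flat R M := by
  refine flat_of_lTensor_injective_quotient_pow (S := S) I hI ?_
  intro n hn Jbar
  have := h n hn
  exact lTensor_injective_of_algebra_flat (R ⧸ I ^ n) (Submodule.subtype Jbar)
    (Submodule.injective_subtype Jbar)

end main

end Groth.Agent.H2
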