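import Mathlib
import Groth.Prelude.Def_CAlg
import Groth.Agent.H72.DepthExt

set_option autoImplicit false
universe u

open CategoryTheory Abelian Groth.Agent.H15 Groth.Agent.H72.DepthExt

namespace Groth.Agent.H2.DepthExtIso

/-- `Ext` in the first variable only depends on the isomorphism class (subsingleton version). -/
theorem subsingleton_ext_of_iso {C : Type*} [Category C] [Abelian C] [HasExt C] {X Y : C}
    (e : X ≅ Y) (M : C) (i : ℕ) (h : Subsingleton (Ext X M i)) : Subsingleton (Ext Y M i) := by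
  let φ : Ext Y M i → Ext X M i := fun x => (Ext.mk₀ e.hom).comp x (zero_add i)
  have hφ : Function.Injective φ := by
    intro x y hxy
    have h1 : (Ext.mk₀ e.inv).comp (φ x) (zero_add i) = (Ext.mk₀ e.inv).comp (φ y) (zero_add i) := by
      rw [hxy]
    simpa [φ, ← Ext.comp_assoc_of_second_deg_zero, Ext.mk₀_comp_mk₀] using h1
  exact hφ.subsingleton

theorem subsingleton_ext_iff_of_iso {C : Type*} [Category C] [Abelian C] [HasExt C] {X Y : C}
    (e : X ≅ Y) (M : C) (i : ℕ) : Subsingleton (Ext X M i) ↔ Subsingleton (Ext Y M i) :=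
  ⟨subsingleton_ext_of_iso e M i, subsingleton_ext_of_iso e.symm M i⟩

variable {R : Type u} [CommRing R]

/-- the iso between the `Shrink` test object and `R ⧸ I` -/
noncomputable def testObjIso (I : Ideal R) : testObj I ≅ ModuleCat.of R (R ⧸ I) :=
  (Shrink.linearEquiv R (R ⧸ I)).toModuleIso

/-- Rees, with the unshrunk test object. -/
theorem le_idealDepth_iff_ext' [IsNoetherianRing R] (I : Ideal R) (M : Type u) [AddCommGroup M]
    [Module R M] [Module.Finite R M] (hne : I • (⊤ : Submodule R M) ≠ ⊤) (n : ℕ) :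
    (n : ℕ∞) ≤ LocCoh.idealDepth I M ↔
      ∀ i < n, Subsingleton (Ext (ModuleCat.of R (R ⧸ I)) (ModuleCat.of R M) i) := by
  rw [le_idealDepth_iff_ext I M hne n]
  exact forall₂_congr fun i _ => subsingleton_ext_iff_of_iso (testObjIso I) _ i

theorem idealDepth_eq_iff_ext [IsNoetherianRing R] (I : Ideal R) (M : Type u) [AddCommGroup M]
    [Module R M] [Module.Finite R M] (hIM : I • (⊤ : Submodule R M) ≠ ⊤) (n : ℕ) :
    LocCoh.idealDepth I M = n ↔
      ((∀ i : ℕ, i < n → Subsingleton (Ext (ModuleCat.of R (R ⧸ I)) (ModuleCat.of R M) i)) ∧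
        Nontrivial (Ext (ModuleCat.of R (R ⧸ I)) (ModuleCat.of R M) n)) := by
  constructor
  · intro h
    have h1 := (le_idealDepth_iff_ext' I M hIM n).mp (le_of_eq h.symm)
    refine ⟨h1, ?_⟩
    rw [← not_subsingleton_iff_nontrivial]
    intro hsub
    have h2 : ((n + 1 : ℕ) : ℕ∞) ≤ LocCoh.idealDepth I M := by
      rw [le_idealDepth_iff_ext' I M hIM (n + 1)]
      intro i hi
      rcases Nat.lt_succ_iff_lt_or_eq.mp hi with h' | rfl
      · exact h1 i h'
      · exact hsub
    rw [h] at h2
    have : (n + 1 : ℕ) ≤ n := by exact_mod_cast h2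
    omega
  · rintro ⟨h1, h2⟩
    have hle := (le_idealDepth_iff_ext' I M hIM n).mpr h1
    refine le_antisymm ?_ hle
    by_contra hcon
    push Not at hcon
    have h3 : ((n + 1 : ℕ) : ℕ∞) ≤ LocCoh.idealDepth I M := by
      have := Order.add_one_le_of_lt hcon
      simpa using this
    have := (le_idealDepth_iff_ext' I M hIM (n + 1)).mp h3 n (Nat.lt_succ_self n)
    exact not_subsingleton_iff_nontrivial.mpr h2 this

end Groth.Agent.H2.DepthExtIso
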