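import Mathlib
import Groth.Agent.H29.GlDim

/-!
# Injective dimension of a finite module over a Noetherian local ring via `Ext^i(κ, M)`

(helper2)  Mirror image of `H29.GlDimL`: the second variable is fixed.
-/

set_option autoImplicit false

namespace Groth.Agent.H2.InjDimResidue

universe u

open CategoryTheory Abelian

variable {A : Type u} [CommRing A]

/-- `Ext^i(N, M) = 0` for all `i ≥ n`. -/
def ExtVanishGE (M : ModuleCat.{u} A) (n : ℕ) (N : Type u) [AddCommGroup N] [Module A N] : Prop :=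
  ∀ i, n ≤ i → Subsingleton (Ext (ModuleCat.of A N) M i)

variable (M : ModuleCat.{u} A)

theorem subsingleton_of_forall_eq_zero {G : Type*} [Zero G] (h : ∀ x : G, x = 0) :
    Subsingleton G := ⟨fun a b => by rw [h a, h b]⟩

theorem extVanishGE_of_exact (n : ℕ) {N₁ N₂ N₃ : Type u} [AddCommGroup N₁] [Module A N₁]
    [AddCommGroup N₂] [Module A N₂] [AddCommGroup N₃] [Module A N₃]
    (f : N₁ →ₗ[A] N₂) (g : N₂ →ₗ[A] N₃) (hf : Function.Injective f) (hg : Function.Surjective g)
    (hfg : Function.Exact f g) (h1 : ExtVanishGE M n N₁) (h3 : ExtVanishGE M n N₃) :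
    ExtVanishGE M n N₂ := by
  intro i hi
  have hS := Groth.Agent.H29.GlDimL.shortExact_of_exact f g hf hg hfg
  have s1 : Subsingleton (Ext (ModuleCat.of A N₁) M i) := h1 i hi
  have s3 : Subsingleton (Ext (ModuleCat.of A N₃) M i) := h3 i hi
  refine subsingleton_of_forall_eq_zero fun w => ?_
  obtain ⟨w3, hw3⟩ := Ext.contravariant_sequence_exact₂ hS M w (Subsingleton.elim _ _)
  rw [← hw3, Subsingleton.elim w3 0, Ext.comp_zero]

theorem extVanishGE_of_subsingleton (n : ℕ) (N : Type u) [AddCommGroup N] [Module A N]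
    [Subsingleton N] : ExtVanishGE M n N := by
  intro i _
  refine subsingleton_of_forall_eq_zero fun w => ?_
  have h0 : 𝟙 (ModuleCat.of A N) = 0 := by
    ext a
    exact Subsingleton.elim _ _
  rw [← Ext.mk₀_id_comp w, h0, Ext.mk₀_zero, Ext.zero_comp]

theorem subsingleton_ext_of_equiv {N N' : Type u} [AddCommGroup N] [Module A N]
    [AddCommGroup N'] [Module A N'] (e : N ≃ₗ[A] N') (i : ℕ)
    (h : Subsingleton (Ext (ModuleCat.of A N) M i)) :
    Subsingleton (Ext (ModuleCat.of A N') M i) := by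
  refine subsingleton_of_forall_eq_zero fun w => ?_
  have h1 : (Ext.mk₀ e.toModuleIso.inv).comp ((Ext.mk₀ e.toModuleIso.hom).comp w (zero_add i))
      (zero_add i) = w := by
    rw [← Ext.comp_assoc_of_second_deg_zero, Ext.mk₀_comp_mk₀, e.toModuleIso.inv_hom_id,
      Ext.mk₀_id_comp]
  rw [← h1, Subsingleton.elim ((Ext.mk₀ e.toModuleIso.hom).comp w (zero_add i)) 0, Ext.comp_zero]

theorem extVanishGE_of_equiv (n : ℕ) {N N' : Type u} [AddCommGroup N] [Module A N]
    [AddCommGroup N'] [Module A N'] (e : N ≃ₗ[A] N') (h : ExtVanishGE M n N) :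
    ExtVanishGE M n N' :=
  fun i hi => subsingleton_ext_of_equiv M e i (h i hi)

section Noeth

/-- devissage over the primes containing `J` -/
theorem extVanishGE_of_forall_prime [IsNoetherianRing A] (n : ℕ) (J : Ideal A)
    (h : ∀ q : PrimeSpectrum A, J ≤ q.asIdeal → ExtVanishGE M n (A ⧸ q.asIdeal))
    (N : Type u) [AddCommGroup N] [Module A N] [hN : Module.Finite A N]
    (hJ : ∀ a ∈ J, ∀ z : N, a • z = 0) : ExtVanishGE M n N := by
  refine IsNoetherianRing.induction_on_isQuotientEquivQuotientPrime A hN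
    (motive := fun N _ _ _ => (∀ a ∈ J, ∀ z : N, a • z = 0) → ExtVanishGE M n N) ?_ ?_ ?_ hJ
  · intro N _ _ _ _ _
    exact extVanishGE_of_subsingleton M n N
  · intro N _ _ _ p f hJ
    apply extVanishGE_of_equiv M n f.symm
    apply h p
    intro a ha
    have h1 := hJ a ha (f.symm (Ideal.Quotient.mk _ 1))
    rw [← map_smul, LinearEquiv.map_eq_zero_iff] at h1
    have h2 : a • (Ideal.Quotient.mk p.asIdeal 1) = Ideal.Quotient.mk p.asIdeal a := by
      rw [Algebra.smul_def, Ideal.Quotient.algebraMap_eq, ← map_mul, mul_one]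
    rw [h2] at h1
    exact Ideal.Quotient.eq_zero_iff_mem.mp h1
  · intro N₁ _ _ _ N₂ _ _ _ N₃ _ _ _ f g hf hg hfg h₁ h₃ hJ
    refine extVanishGE_of_exact M n f g hf hg hfg (h₁ fun a ha z => hf ?_) (h₃ fun a ha z => ?_)
    · rw [map_smul, hJ a ha, map_zero]
    · obtain ⟨y, rfl⟩ := hg z
      rw [← map_smul, hJ a ha, map_zero]

variable [IsNoetherianRing A] [IsLocalRing A] [Module.Finite A M]

open Pointwise in
theorem extVanishGE_quotient_prime_of_gt (n : ℕ) (p : PrimeSpectrum A)
    (hp : p.asIdeal ≠ IsLocalRing.maximalIdeal A)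
    (h : ∀ q : PrimeSpectrum A, p.asIdeal < q.asIdeal → ExtVanishGE M n (A ⧸ q.asIdeal)) :
    ExtVanishGE M n (A ⧸ p.asIdeal) := by
  obtain ⟨x, hxm, hxp⟩ := SetLike.exists_of_lt
    (lt_of_le_of_ne (IsLocalRing.le_maximalIdeal p.2.ne_top) hp)
  have hreg : IsSMulRegular (A ⧸ p.asIdeal) x := by
    intro a b hab
    simp only [Algebra.smul_def, Ideal.Quotient.algebraMap_eq] at hab
    refine mul_left_cancel₀ ?_ hab
    rwa [Ne, Ideal.Quotient.eq_zero_iff_mem]
  have hQ : ExtVanishGE M n (QuotSMulTop x (A ⧸ p.asIdeal)) := by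
    refine extVanishGE_of_forall_prime M n (p.asIdeal ⊔ Ideal.span {x}) (fun q hq => h q ?_) _ ?_
    · refine lt_of_le_of_ne (le_sup_left.trans hq) ?_
      intro heq
      apply hxp
      rw [heq]
      exact hq (Ideal.mem_sup_right (Ideal.mem_span_singleton_self x))
    · intro a ha z
      obtain ⟨a₁, ha₁, a₂, ha₂, rfl⟩ := Submodule.mem_sup.mp ha
      obtain ⟨c, rfl⟩ := Ideal.mem_span_singleton'.mp ha₂
      obtain ⟨y, rfl⟩ := Submodule.mkQ_surjective _ z
      obtain ⟨b, rfl⟩ := Ideal.Quotient.mk_surjective y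
      rw [add_smul]
      have e1 : a₁ • (Submodule.mkQ _ (Ideal.Quotient.mk p.asIdeal b) :
          QuotSMulTop x (A ⧸ p.asIdeal)) = 0 := by
        rw [← map_smul]
        have : a₁ • (Ideal.Quotient.mk p.asIdeal b) = 0 := by
          rw [Algebra.smul_def, Ideal.Quotient.algebraMap_eq, ← map_mul,
            Ideal.Quotient.eq_zero_iff_mem]
          exact Ideal.mul_mem_right _ _ ha₁
        rw [this, map_zero]
      have e2 : (c * x) • (Submodule.mkQ _ (Ideal.Quotient.mk p.asIdeal b) :
          QuotSMulTop x (A ⧸ p.asIdeal)) = 0 := by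
        rw [mul_smul]
        have := Module.mem_annihilator.mp (QuotSMulTop.mem_annihilator (A ⧸ p.asIdeal) x)
          (Submodule.mkQ _ (Ideal.Quotient.mk p.asIdeal b))
        rw [this, smul_zero]
      rw [e1, e2, add_zero]
  intro i hi
  by_contra ntr
  rw [not_subsingleton_iff_nontrivial] at ntr
  let M' : ModuleCat.{u} A := ModuleCat.of A (A ⧸ p.asIdeal)
  let S := M'.smulShortComplex x
  have hS : S.ShortExact := IsSMulRegular.smulShortComplex_shortExact (M := M') hreg
  have zero : Subsingleton (Ext (ModuleCat.of A (QuotSMulTop x M')) M (i + 1)) :=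
    hQ (i + 1) (by omega)
  have exac := Ext.contravariant_sequence_exact₁' hS M i (i + 1) (add_comm 1 i)
  have epi := exac.epi_f ((@AddCommGrpCat.isZero_of_subsingleton _ zero).eq_zero_of_tgt _)
  have hf : S.f = x • 𝟙 M' := rfl
  simp only [S, hf, AddCommGrpCat.epi_iff_surjective, AddCommGrpCat.hom_ofHom] at epi
  have hx : x ∈ (Module.annihilator A (Ext M' M i)).jacobson :=
    (IsLocalRing.maximalIdeal_le_jacobson _) hxm
  apply Submodule.top_ne_pointwise_smul_of_mem_jacobson_annihilator hx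
  rw [eq_comm, eq_top_iff]
  intro y _
  rcases epi y with ⟨z, hz⟩
  have hz' : y = x • z := by
    rw [← hz]
    change (Ext.mk₀ (x • 𝟙 M')).comp z (zero_add i) = _
    rw [Ext.mk₀_smul, Ext.smul_comp, Ext.mk₀_id_comp]
    rfl
  rw [hz']
  exact Submodule.smul_mem_pointwise_smul _ _ ⊤ trivial

theorem extVanishGE_quotient_prime (n : ℕ)
    (hk : ExtVanishGE M n (IsLocalRing.ResidueField A)) :
    ∀ p : PrimeSpectrum A, ExtVanishGE M n (A ⧸ p.asIdeal) := by
  have key : ∀ J : Ideal A, ∀ p : PrimeSpectrum A, p.asIdeal = J →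
      ExtVanishGE M n (A ⧸ p.asIdeal) := by
    intro J
    induction J using WellFoundedGT.induction with
    | ind J ih =>
      intro p hp
      by_cases hm : p.asIdeal = IsLocalRing.maximalIdeal A
      · have h0 : ExtVanishGE M n (A ⧸ IsLocalRing.maximalIdeal A) := hk
        exact extVanishGE_of_equiv M n (Submodule.quotEquivOfEq _ _ hm.symm) h0
      · exact extVanishGE_quotient_prime_of_gt M n p hm
          (fun q hq => ih q.asIdeal (hp ▸ hq) q rfl)
  exact fun p => key _ p rfl

/-- If `Ext^i(κ, M) = 0` for `i ≥ n` then `Ext^i(N, M) = 0` for `i ≥ n` and all finite `N`. -/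
theorem extVanishGE_of_finite (n : ℕ)
    (hk : ExtVanishGE M n (IsLocalRing.ResidueField A))
    (N : Type u) [AddCommGroup N] [Module A N] [Module.Finite A N] : ExtVanishGE M n N :=
  extVanishGE_of_forall_prime M n ⊥ (fun q _ => extVanishGE_quotient_prime M n hk q) N
    (fun a ha z => by rw [(Submodule.mem_bot A).mp ha, zero_smul])

/-- If `Ext^i(κ, M) = 0` for all `i ≥ n + 1`, then `M` has injective dimension `< n + 1`. -/
theorem hasInjectiveDimensionLT_of_residueField (n : ℕ)
    (hk : ∀ i, n + 1 ≤ i → Subsingleton (Ext (ModuleCat.of A (IsLocalRing.ResidueField A)) M i)) :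
    HasInjectiveDimensionLT M (n + 1) :=
  Groth.Agent.H29.InjDimL.hasInjectiveDimensionLT_of_ext A n M
    (fun I => extVanishGE_of_finite M (n + 1) hk (A ⧸ I) (n + 1) le_rfl)

/-- If `Ext^i(κ, M) = 0` for all `i`, then `M = 0`. -/
theorem isZero_of_residueField
    (hk : ∀ i, Subsingleton (Ext (ModuleCat.of A (IsLocalRing.ResidueField A)) M i)) :
    Limits.IsZero M := by
  have h := extVanishGE_of_finite M 0 (fun i _ => hk i) M 0 le_rfl
  have : (𝟙 M : M ⟶ M) = 0 := by
    apply Ext.mk₀_bijective M M |>.injective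
    exact Subsingleton.elim _ _
  exact (Limits.IsZero.iff_id_eq_zero M).mpr this

end Noeth

end Groth.Agent.H2.InjDimResidue
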