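import Mathlib
import Groth.Agent.H58.InjHullQuot
import Groth.Agent.H29.GlDim

/-!
# `x`-torsion as a functor to modules over `A ⧸ (x)`  (helper2)

For an `A`-module `C`, `T x C = C[x]` is a module over `A ⧸ (x)`.  This is the concrete model of
`Hom_A(A/x, -)`.  It preserves injectives (H58), is left exact, and is exact on short exact
sequences whose kernel is `x`-divisible.
-/

set_option autoImplicit false

namespace Groth.Agent.H2.TorsionQuot

universe u

variable {A : Type u} [CommRing A] (x : A)

/-- the `x`-torsion of `C` -/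
abbrev T (C : Type u) [AddCommGroup C] [Module A C] : Submodule A C :=
  Submodule.torsionBySet A C (Ideal.span {x} : Set A)

section basic

variable {C D E : Type u} [AddCommGroup C] [Module A C] [AddCommGroup D] [Module A D]
  [AddCommGroup E] [Module A E]

theorem mem_T_iff (c : C) : c ∈ T x C ↔ x • c = 0 := by
  rw [Submodule.mem_torsionBySet_iff]
  constructor
  · intro h
    exact h ⟨x, Ideal.mem_span_singleton_self x⟩
  · rintro h ⟨a, ha⟩
    obtain ⟨b, rfl⟩ := Ideal.mem_span_singleton'.mp ha
    show (b * x) • c = 0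
    rw [mul_smul, h, smul_zero]

theorem smul_T (c : T x C) : x • (c : C) = 0 := (mem_T_iff x _).mp c.2

theorem mk_smul_coe (r : A) (c : T x C) :
    ((Ideal.Quotient.mk (Ideal.span {x}) r • c : T x C) : C) = r • (c : C) := rfl

/-- restriction of a linear map to the `x`-torsion, as a map of `A ⧸ (x)`-modules -/
def Tmap (f : C →ₗ[A] D) : T x C →ₗ[A ⧸ Ideal.span {x}] T x D where
  toFun c := ⟨f c.1, by rw [mem_T_iff, ← map_smul, smul_T, map_zero]⟩
  map_add' a b := by ext; simp
  map_smul' r c := by
    obtain ⟨r, rfl⟩ := Ideal.Quotient.mk_surjective r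
    ext
    simp

@[simp] theorem Tmap_coe (f : C →ₗ[A] D) (c : T x C) : ((Tmap x f c : T x D) : D) = f c := rfl

theorem Tmap_injective (f : C →ₗ[A] D) (hf : Function.Injective f) :
    Function.Injective (Tmap x f) := by
  intro a b h
  ext
  exact hf (congrArg Subtype.val h)

theorem Tmap_exact (f : C →ₗ[A] D) (g : D →ₗ[A] E) (hf : Function.Injective f)
    (hfg : Function.Exact f g) : Function.Exact (Tmap x f) (Tmap x g) := by
  intro d
  constructor
  · intro h
    have h1 : g d.1 = 0 := congrArg Subtype.val h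
    obtain ⟨c, hc⟩ := (hfg d.1).mp h1
    refine ⟨⟨c, ?_⟩, ?_⟩
    · rw [mem_T_iff]
      apply hf
      rw [map_smul, hc, smul_T, map_zero]
    · ext
      exact hc
  · rintro ⟨c, rfl⟩
    ext
    exact (hfg _).mpr ⟨c.1, rfl⟩

/-- `C` is `x`-divisible -/
def Divisible (C : Type u) [AddCommGroup C] [Module A C] : Prop := ∀ c : C, ∃ c' : C, x • c' = c

theorem Tmap_surjective (f : C →ₗ[A] D) (g : D →ₗ[A] E) (hg : Function.Surjective g)
    (hfg : Function.Exact f g) (hC : Divisible x C) : Function.Surjective (Tmap x g) := by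
  intro e
  obtain ⟨d, hd⟩ := hg e.1
  have h1 : g (x • d) = 0 := by rw [map_smul, hd, smul_T]
  obtain ⟨c, hc⟩ := (hfg _).mp h1
  obtain ⟨c', rfl⟩ := hC c
  refine ⟨⟨d - f c', ?_⟩, ?_⟩
  · rw [mem_T_iff, smul_sub, ← map_smul, hc, sub_self]
  · ext
    show g (d - f c') = e.1
    rw [map_sub, hd, (hfg _).mpr ⟨c', rfl⟩, sub_zero]

theorem Divisible.of_surjective (g : D →ₗ[A] E) (hg : Function.Surjective g) (hD : Divisible x D) :
    Divisible x E := by
  intro e
  obtain ⟨d, rfl⟩ := hg e
  obtain ⟨d', rfl⟩ := hD d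
  exact ⟨g d', (map_smul _ _ _).symm⟩

/-- injective modules are divisible by a non-zero-divisor -/
theorem Divisible.of_injective (hx : IsSMulRegular A x) (J : Type u) [AddCommGroup J] [Module A J]
    [Module.Injective A J] : Divisible x J := by
  intro j
  obtain ⟨g, hg⟩ := Module.Injective.extension_property A J A A (LinearMap.lsmul A A x) hx
    (LinearMap.toSpanSingleton A J j)
  refine ⟨g 1, ?_⟩
  have := LinearMap.congr_fun hg 1
  rw [← map_smul, smul_eq_mul, mul_one]
  simpa using this

instance injective_T (J : Type u) [AddCommGroup J] [Module A J] [Module.Injective A J] :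
    Module.Injective (A ⧸ Ideal.span {x}) (T x J) :=
  Groth.Agent.H58.InjHullQuot.injective_torsionBySet (Ideal.span {x}) J

end basic

section sigma

variable {J C : Type u} [AddCommGroup J] [Module A J] [AddCommGroup C] [Module A C]
  (f : A →ₗ[A] J) (g : J →ₗ[A] C) (hf : Function.Injective f) (hg : Function.Surjective g)
  (hfg : Function.Exact f g)

theorem exact_subtype_lsmul (C : Type u) [AddCommGroup C] [Module A C] :
    Function.Exact (T x C).subtype (LinearMap.lsmul A C x) := by
  intro c
  rw [LinearMap.lsmul_apply, ← mem_T_iff]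
  simp

theorem exact_lsmul_mkQ : Function.Exact (LinearMap.lsmul A A x) (Ideal.span {x}).mkQ := by
  intro a
  rw [Submodule.mkQ_apply, Submodule.Quotient.mk_eq_zero]
  constructor
  · intro h
    obtain ⟨b, rfl⟩ := Ideal.mem_span_singleton'.mp h
    exact ⟨b, by simp [mul_comm]⟩
  · rintro ⟨b, rfl⟩
    simp only [LinearMap.lsmul_apply, smul_eq_mul]
    exact Ideal.mul_mem_right _ _ (Ideal.mem_span_singleton_self x)

include hf hg hfg in
/-- the connecting map `C[x] → A/x` for `0 → A → J → C → 0` -/
theorem exists_delta (hx : IsSMulRegular A x) (hJ : Divisible x J) :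
    ∃ δ : T x C →ₗ[A ⧸ Ideal.span {x}] (A ⧸ Ideal.span {x}),
      Function.Surjective δ ∧ Function.Exact (Tmap x g) δ ∧ Function.Injective (Tmap x g) := by
  have h₁ : f.comp (LinearMap.lsmul A A x) = (LinearMap.lsmul A J x).comp f := by
    ext
    simp only [LinearMap.coe_comp, Function.comp_apply, LinearMap.lsmul_apply, smul_eq_mul,
      mul_one]
    rw [← map_smul, smul_eq_mul, mul_one]
  have h₂ : g.comp (LinearMap.lsmul A J x) = (LinearMap.lsmul A C x).comp g := by
    ext; simp
  let δA : T x C →ₗ[A] (A ⧸ Ideal.span {x}) :=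
    SnakeLemma.δ' (LinearMap.lsmul A A x) (LinearMap.lsmul A J x) (LinearMap.lsmul A C x)
      f g hfg f g hfg h₁ h₂ (T x C).subtype (exact_subtype_lsmul x C)
      (Ideal.span {x}).mkQ (exact_lsmul_mkQ x) hg hf
  have hinj : Function.Injective (Tmap x g) := by
    intro a b hab
    have h0 : g (a.1 - b.1) = 0 := by
      rw [map_sub, sub_eq_zero]
      exact congrArg Subtype.val hab
    obtain ⟨c, hc⟩ := (hfg _).mp h0
    have h1 : f (x • c) = 0 := by
      rw [map_smul, hc, smul_sub, smul_T, smul_T, sub_zero]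
    have h2 : x • c = 0 := hf (by rw [h1, map_zero])
    have h3 : c = 0 := hx (by show x • c = x • 0; rw [h2, smul_zero])
    rw [h3, map_zero] at hc
    ext
    exact (sub_eq_zero.mp hc.symm)
  -- right exactness
  have hr : Function.Exact ((Tmap x g).restrictScalars A) δA :=
    SnakeLemma.exact_δ'_right (LinearMap.lsmul A A x) (LinearMap.lsmul A J x)
      (LinearMap.lsmul A C x) f g hfg f g hfg h₁ h₂ (T x J).subtype (exact_subtype_lsmul x J)
      (T x C).subtype (exact_subtype_lsmul x C)
      (Ideal.span {x}).mkQ (exact_lsmul_mkQ x) hg hf ((Tmap x g).restrictScalars A)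
      (by ext; rfl) Subtype.val_injective
  have hl : Function.Exact δA (0 : (A ⧸ Ideal.span {x}) →ₗ[A] PUnit.{u+1}) :=
    SnakeLemma.exact_δ'_left (LinearMap.lsmul A A x) (LinearMap.lsmul A J x)
      (LinearMap.lsmul A C x) f g hfg f g hfg h₁ h₂
      (T x C).subtype (exact_subtype_lsmul x C)
      (Ideal.span {x}).mkQ (exact_lsmul_mkQ x) (0 : J →ₗ[A] PUnit.{u+1})
      (by
        intro j
        simp only [LinearMap.zero_apply, true_iff]
        obtain ⟨j', rfl⟩ := hJ j
        exact ⟨j', rfl⟩) hg hf 0 (by ext) (Submodule.mkQ_surjective _)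
  have hsurj : Function.Surjective δA := by
    intro a
    exact (hl a).mp rfl
  refine ⟨δA.extendScalarsOfSurjective Ideal.Quotient.mk_surjective, hsurj, ?_, hinj⟩
  intro c
  exact hr c

end sigma
end Groth.Agent.H2.TorsionQuot
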