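import Mathlib
import Groth.Agent.H2.TorsionQuot
import Groth.Agent.H2.InjDimResidue
import Groth.Agent.H2.DepthExtIso

/-!
# Injective dimension and quotient by a non-zero-divisor  (helper2)

`id_{A/x}(A/x) < n` if `id_A(A) < n + 1`, for `x` a non-zero-divisor of `A`.
-/

set_option autoImplicit false

namespace Groth.Agent.H2.InjDimQuot

universe u

open CategoryTheory Abelian Groth.Agent.H2.TorsionQuot

variable {A : Type u} [CommRing A] (x : A)

section ses

variable {C D E : Type u} [AddCommGroup C] [Module A C] [AddCommGroup D] [Module A D]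
  [AddCommGroup E] [Module A E]

theorem shortExact_T (f : C →ₗ[A] D) (g : D →ₗ[A] E) (hf : Function.Injective f)
    (hg : Function.Surjective g) (hfg : Function.Exact f g) (hC : Divisible x C) :
    (ModuleCat.shortComplexOfCompEqZero (Tmap x f) (Tmap x g)
      (Tmap_exact x f g hf hfg).linearMap_comp_eq_zero).ShortExact :=
  Groth.Agent.H29.GlDimL.shortExact_of_exact _ _ (Tmap_injective x f hf)
    (Tmap_surjective x f g hg hfg hC) (Tmap_exact x f g hf hfg)

end ses

section fromShortExact

variable {S : ShortComplex (ModuleCat.{u} A)} (hS : S.ShortExact)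

include hS

theorem injective_f : Function.Injective S.f.hom :=
  (ModuleCat.mono_iff_injective S.f).mp hS.mono_f

theorem surjective_g : Function.Surjective S.g.hom :=
  (ModuleCat.epi_iff_surjective S.g).mp hS.epi_g

theorem exact_fg : Function.Exact S.f.hom S.g.hom :=
  (ShortComplex.ShortExact.moduleCat_exact_iff_function_exact S).mp hS.exact

end fromShortExact

/-- the standard short exact sequence `0 → C → J → D → 0` with `J` injective -/
noncomputable abbrev injSC (C : ModuleCat.{u} A) : ShortComplex (ModuleCat.{u} A) :=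
  ShortComplex.mk (Injective.ι C) (Limits.cokernel.π (Injective.ι C)) (Limits.cokernel.condition _)

theorem injSC_shortExact (C : ModuleCat.{u} A) : (injSC C).ShortExact :=
  { exact := ShortComplex.exact_cokernel (Injective.ι C) }

theorem divisible_of_injective_object (hx : IsSMulRegular A x) (J : ModuleCat.{u} A)
    [Injective J] : Divisible x J := by
  have : Module.Injective A J := Module.injective_module_of_injective_object A J
  exact Divisible.of_injective x hx J

theorem hasInjectiveDimensionLT_T (hx : IsSMulRegular A x) (n : ℕ) :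
    ∀ (C : ModuleCat.{u} A), Divisible x C → HasInjectiveDimensionLT C n →
      HasInjectiveDimensionLT (ModuleCat.of (A ⧸ Ideal.span {x}) (T x C)) n := by
  induction n using Nat.twoStepInduction with
  | zero =>
    intro C _ h
    have hz : Limits.IsZero C := isZero_of_hasInjectiveDimensionLT_zero C
    have : Subsingleton C := ModuleCat.subsingleton_of_isZero hz
    exact (ModuleCat.isZero_of_subsingleton _).hasInjectiveDimensionLT_zero
  | one =>
    intro C _ h
    have : Injective C := injective_iff_hasInjectiveDimensionLT_one.mpr h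
    have : Module.Injective A C := Module.injective_module_of_injective_object A C
    have : Injective (ModuleCat.of (A ⧸ Ideal.span {x}) (T x C)) :=
      Module.injective_object_of_injective_module _ _
    infer_instance
  | more n _ ih =>
    intro C hC h
    have hS := injSC_shortExact C
    have hJinj : Injective (injSC C).X₂ := inferInstanceAs (Injective (Injective.under C))
    have hJ : Divisible x (injSC C).X₂ := divisible_of_injective_object x hx _
    have hD : Divisible x (injSC C).X₃ :=
      Divisible.of_surjective x (injSC C).g.hom (surjective_g hS) hJ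
    have h3 : HasInjectiveDimensionLT (injSC C).X₃ (n + 1) :=
      hS.hasInjectiveDimensionLT_X₃ (n + 1) (hasInjectiveDimensionLT_of_ge _ 1 _ (by omega)) h
    have h3' := ih (injSC C).X₃ hD h3
    have hS' := shortExact_T x (injSC C).f.hom (injSC C).g.hom (injective_f hS) (surjective_g hS)
      (exact_fg hS) hC
    have : Module.Injective A (injSC C).X₂ :=
      Module.injective_module_of_injective_object A _
    have : Injective (ModuleCat.of (A ⧸ Ideal.span {x}) (T x (injSC C).X₂)) :=
      Module.injective_object_of_injective_module _ _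
    exact hS'.hasInjectiveDimensionLT_X₁ (n + 1) h3'
      (hasInjectiveDimensionLT_of_ge _ 1 _ (by omega))

/-- `id_{A/x}(A/x) < n` if `id_A(A) < n+1` for `x` a non-zero-divisor. -/
theorem hasInjectiveDimensionLT_quotient (hx : IsSMulRegular A x) (n : ℕ)
    (h : HasInjectiveDimensionLT (ModuleCat.of A A) (n + 1)) :
    HasInjectiveDimensionLT (ModuleCat.of (A ⧸ Ideal.span {x}) (A ⧸ Ideal.span {x})) n := by
  have hS := injSC_shortExact (ModuleCat.of A A)
  have hJinj : Injective (injSC (ModuleCat.of A A)).X₂ :=
    inferInstanceAs (Injective (Injective.under (ModuleCat.of A A)))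
  have hJ : Divisible x (injSC (ModuleCat.of A A)).X₂ := divisible_of_injective_object x hx _
  have hD : Divisible x (injSC (ModuleCat.of A A)).X₃ :=
    Divisible.of_surjective x (injSC (ModuleCat.of A A)).g.hom (surjective_g hS) hJ
  cases n with
  | zero =>
    have : Injective (ModuleCat.of A A) := injective_iff_hasInjectiveDimensionLT_one.mpr h
    have : Module.Injective A A := Module.injective_module_of_injective_object A (ModuleCat.of A A)
    obtain ⟨y, hy⟩ := Divisible.of_injective x hx A (1 : A)
    have : Subsingleton (A ⧸ Ideal.span {x}) := by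
      rw [Ideal.Quotient.subsingleton_iff, Ideal.eq_top_iff_one, ← hy, smul_eq_mul]
      exact Ideal.mul_mem_right _ _ (Ideal.mem_span_singleton_self x)
    exact (ModuleCat.isZero_of_subsingleton _).hasInjectiveDimensionLT_zero
  | succ n =>
    have h3 : HasInjectiveDimensionLT (injSC (ModuleCat.of A A)).X₃ (n + 1) :=
      hS.hasInjectiveDimensionLT_X₃ (n + 1) (hasInjectiveDimensionLT_of_ge _ 1 _ (by omega)) h
    have h3' := hasInjectiveDimensionLT_T x hx (n + 1) _ hD h3
    obtain ⟨δ, hδs, hδe, hδi⟩ := exists_delta x (injSC (ModuleCat.of A A)).f.hom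
      (injSC (ModuleCat.of A A)).g.hom (injective_f hS) (surjective_g hS) (exact_fg hS) hx hJ
    have hS' := Groth.Agent.H29.GlDimL.shortExact_of_exact _ _ hδi hδs hδe
    have : Module.Injective A (injSC (ModuleCat.of A A)).X₂ :=
      Module.injective_module_of_injective_object A _
    have : Injective (ModuleCat.of (A ⧸ Ideal.span {x}) (T x (injSC (ModuleCat.of A A)).X₂)) :=
      Module.injective_object_of_injective_module _ _
    exact hS'.hasInjectiveDimensionLT_X₃ (n + 1) h3'
      (hasInjectiveDimensionLT_of_ge _ 1 _ (by omega))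

/-- restriction of scalars along `A → A/x` -/
noncomputable abbrev F : ModuleCat.{u} (A ⧸ Ideal.span {x}) ⥤ ModuleCat.{u} A :=
  ModuleCat.restrictScalars (Ideal.Quotient.mk (Ideal.span {x}))

/-- inclusion `F(C[x]) → C` -/
noncomputable def incl (C : ModuleCat.{u} A) :
    (F x).obj (ModuleCat.of (A ⧸ Ideal.span {x}) (T x C)) ⟶ C :=
  ModuleCat.ofHom
    { toFun := fun c => ((c : T x C) : C)
      map_add' := fun _ _ => rfl
      map_smul' := fun _ _ => rfl }

theorem incl_naturality {C D : ModuleCat.{u} A} (g : C ⟶ D) :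
    (F x).map (ModuleCat.ofHom (Tmap x g.hom)) ≫ incl x D = incl x C ≫ g := by
  ext c
  rfl

theorem exists_eq_map_comp_incl (N : ModuleCat.{u} (A ⧸ Ideal.span {x})) (C : ModuleCat.{u} A)
    (φ : (F x).obj N ⟶ C) :
    ∃ ψ : N ⟶ ModuleCat.of (A ⧸ Ideal.span {x}) (T x C), (F x).map ψ ≫ incl x C = φ := by
  have hmem : ∀ n : N, φ.hom n ∈ T x C := by
    intro n
    rw [mem_T_iff, ← map_smul]
    have : x • (show (F x).obj N from n) = 0 := by
      rw [ModuleCat.restrictScalars.smul_def]
      have : (Ideal.Quotient.mk (Ideal.span {x})) x = 0 :=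
        Ideal.Quotient.eq_zero_iff_mem.mpr (Ideal.mem_span_singleton_self x)
      rw [this, zero_smul]
      rfl
    rw [this, map_zero]
  refine ⟨ModuleCat.ofHom
    { toFun := fun n => ⟨φ.hom n, hmem n⟩
      map_add' := fun a b => by ext; exact map_add φ.hom a b
      map_smul' := fun q n => by
        obtain ⟨r, rfl⟩ := Ideal.Quotient.mk_surjective q
        ext
        exact map_smul φ.hom r (show (F x).obj N from n) }, ?_⟩
  ext n
  rfl


/-- the image under `T` of the standard sequence `0 → C → J → D → 0`, for divisible `C` -/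
theorem injSC_T_shortExact (C : ModuleCat.{u} A) (hC : Divisible x C) :
    (ModuleCat.shortComplexOfCompEqZero (Tmap x (injSC C).f.hom) (Tmap x (injSC C).g.hom)
      (Tmap_exact x _ _ (injective_f (injSC_shortExact C))
        (exact_fg (injSC_shortExact C))).linearMap_comp_eq_zero).ShortExact :=
  shortExact_T x _ _ (injective_f (injSC_shortExact C)) (surjective_g (injSC_shortExact C))
    (exact_fg (injSC_shortExact C)) hC

theorem subsingleton_ext_restrictScalars (hx : IsSMulRegular A x)
    (N : ModuleCat.{u} (A ⧸ Ideal.span {x})) :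
    ∀ (i : ℕ) (C : ModuleCat.{u} A), Divisible x C →
      Subsingleton (Ext N (ModuleCat.of (A ⧸ Ideal.span {x}) (T x C)) (i + 1)) →
      Subsingleton (Ext ((F x).obj N) C (i + 1)) := by
  intro i
  induction i with
  | zero =>
    intro C hC hsub
    have hS := injSC_shortExact C
    have hS' := injSC_T_shortExact x C hC
    have hJinj : Injective (injSC C).X₂ := inferInstanceAs (Injective (Injective.under C))
    refine InjDimResidue.subsingleton_of_forall_eq_zero fun z => ?_
    obtain ⟨z₃, rfl⟩ := Ext.covariant_sequence_exact₁ _ hS z (Ext.eq_zero_of_injective _)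
      (zero_add 1)
    obtain ⟨φ, rfl⟩ := (Ext.mk₀_bijective _ _).surjective z₃
    obtain ⟨ψ, rfl⟩ := exists_eq_map_comp_incl x N _ φ
    obtain ⟨y₂, hy₂⟩ := Ext.covariant_sequence_exact₃ _ hS' (Ext.mk₀ ψ) (zero_add 1)
      (Subsingleton.elim _ _)
    obtain ⟨ψ₂, rfl⟩ := (Ext.mk₀_bijective _ _).surjective y₂
    rw [Ext.mk₀_comp_mk₀] at hy₂
    have hψ : ψ = ψ₂ ≫ ModuleCat.ofHom (Tmap x (injSC C).g.hom) :=
      ((Ext.mk₀_bijective _ _).injective hy₂).symm
    have h1 : (F x).map ψ ≫ incl x (injSC C).X₃ =
        ((F x).map ψ₂ ≫ incl x (injSC C).X₂) ≫ (injSC C).g := by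
      rw [hψ, Functor.map_comp, Category.assoc, Category.assoc]
      congr 1
    rw [h1, ← Ext.mk₀_comp_mk₀, Ext.comp_assoc_of_second_deg_zero, hS.comp_extClass,
      Ext.comp_zero]
  | succ i ih =>
    intro C hC hsub
    have hS := injSC_shortExact C
    have hS' := injSC_T_shortExact x C hC
    have hJinj : Injective (injSC C).X₂ := inferInstanceAs (Injective (Injective.under C))
    have hJ : Divisible x (injSC C).X₂ := divisible_of_injective_object x hx _
    have hD : Divisible x (injSC C).X₃ :=
      Divisible.of_surjective x (injSC C).g.hom (surjective_g hS) hJ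
    have : Module.Injective A (injSC C).X₂ := Module.injective_module_of_injective_object A _
    have hTJ : Injective (ModuleCat.of (A ⧸ Ideal.span {x}) (T x (injSC C).X₂)) :=
      Module.injective_object_of_injective_module _ _
    have hsubD : Subsingleton (Ext N (ModuleCat.of (A ⧸ Ideal.span {x}) (T x (injSC C).X₃))
        (i + 1)) := by
      refine InjDimResidue.subsingleton_of_forall_eq_zero fun y => ?_
      obtain ⟨y₂, rfl⟩ := Ext.covariant_sequence_exact₃ _ hS' y (rfl : i + 1 + 1 = i + 1 + 1)
        (Subsingleton.elim _ _)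
      have : y₂ = 0 := @Ext.eq_zero_of_injective _ _ _ _ _ _ _ hTJ y₂
      rw [this, Ext.zero_comp]
    have hD' := ih _ hD hsubD
    refine InjDimResidue.subsingleton_of_forall_eq_zero fun z => ?_
    obtain ⟨z₃, rfl⟩ := Ext.covariant_sequence_exact₁ _ hS z (Ext.eq_zero_of_injective _)
      (rfl : i + 1 + 1 = i + 1 + 1)
    rw [Subsingleton.elim z₃ 0, Ext.zero_comp]

theorem subsingleton_ext_succ_of_quotient (hx : IsSMulRegular A x)
    (N : ModuleCat.{u} (A ⧸ Ideal.span {x})) (i : ℕ)
    (h : Subsingleton (Ext N (ModuleCat.of (A ⧸ Ideal.span {x}) (A ⧸ Ideal.span {x})) (i + 1))) :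
    Subsingleton (Ext ((F x).obj N) (ModuleCat.of A A) (i + 2)) := by
  have hS := injSC_shortExact (ModuleCat.of A A)
  have hJinj : Injective (injSC (ModuleCat.of A A)).X₂ :=
    inferInstanceAs (Injective (Injective.under (ModuleCat.of A A)))
  have hJ : Divisible x (injSC (ModuleCat.of A A)).X₂ := divisible_of_injective_object x hx _
  have hD : Divisible x (injSC (ModuleCat.of A A)).X₃ :=
    Divisible.of_surjective x (injSC (ModuleCat.of A A)).g.hom (surjective_g hS) hJ
  obtain ⟨δ, hδs, hδe, hδi⟩ := exists_delta x (injSC (ModuleCat.of A A)).f.hom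
    (injSC (ModuleCat.of A A)).g.hom (injective_f hS) (surjective_g hS) (exact_fg hS) hx hJ
  have hS' := Groth.Agent.H29.GlDimL.shortExact_of_exact _ _ hδi hδs hδe
  have : Module.Injective A (injSC (ModuleCat.of A A)).X₂ :=
    Module.injective_module_of_injective_object A _
  have hTJ : Injective (ModuleCat.of (A ⧸ Ideal.span {x}) (T x (injSC (ModuleCat.of A A)).X₂)) :=
    Module.injective_object_of_injective_module _ _
  have h1 : Subsingleton (Ext N (ModuleCat.of (A ⧸ Ideal.span {x})
      (T x (injSC (ModuleCat.of A A)).X₃)) (i + 1)) := by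
    refine InjDimResidue.subsingleton_of_forall_eq_zero fun y => ?_
    obtain ⟨y₁, rfl⟩ := Ext.covariant_sequence_exact₂ _ hS' y (Subsingleton.elim _ _)
    have : y₁ = 0 := @Ext.eq_zero_of_injective _ _ _ _ _ _ _ hTJ y₁
    rw [this, Ext.zero_comp]
  have h2 := subsingleton_ext_restrictScalars x hx N i _ hD h1
  refine InjDimResidue.subsingleton_of_forall_eq_zero fun z => ?_
  obtain ⟨z₃, rfl⟩ := Ext.covariant_sequence_exact₁ _ hS z (Ext.eq_zero_of_injective _)
    (rfl : i + 1 + 1 = i + 2)
  rw [Subsingleton.elim z₃ 0, Ext.zero_comp]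

/-- if `x` kills `C` then `F(C[x]) ≅ C` -/
noncomputable def inclIso (C : ModuleCat.{u} A) (hC : ∀ c : C, x • c = 0) :
    (F x).obj (ModuleCat.of (A ⧸ Ideal.span {x}) (T x C)) ≅ C :=
  (LinearEquiv.ofBijective (incl x C).hom
    ⟨fun _ _ h => Subtype.ext h, fun c => ⟨⟨c, (mem_T_iff x c).mpr (hC c)⟩, rfl⟩⟩).toModuleIso

variable [IsLocalRing A] [IsNoetherianRing A]

/-- `id_A(A) < n + 2` if `id_{A/x}(A/x) < n + 1`, for `x` a non-zero-divisor in the maximal
ideal. -/
theorem hasInjectiveDimensionLT_of_quotient (hx : IsSMulRegular A x)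
    (hxm : x ∈ IsLocalRing.maximalIdeal A) (n : ℕ)
    (h : HasInjectiveDimensionLT
      (ModuleCat.of (A ⧸ Ideal.span {x}) (A ⧸ Ideal.span {x})) (n + 1)) :
    HasInjectiveDimensionLT (ModuleCat.of A A) (n + 2) := by
  apply InjDimResidue.hasInjectiveDimensionLT_of_residueField (ModuleCat.of A A) (n + 1)
  intro i hi
  obtain ⟨j, rfl⟩ : ∃ j, i = j + 2 := ⟨i - 2, by omega⟩
  have hk : ∀ c : ModuleCat.of A (IsLocalRing.ResidueField A), x • c = 0 := by
    intro c
    obtain ⟨a, rfl⟩ := IsLocalRing.residue_surjective c
    show x • IsLocalRing.residue A a = 0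
    rw [Algebra.smul_def]
    show IsLocalRing.residue A x * IsLocalRing.residue A a = 0
    rw [(IsLocalRing.residue_eq_zero_iff _).mpr hxm, zero_mul]
  have h1 := HasInjectiveDimensionLT.subsingleton
    (ModuleCat.of (A ⧸ Ideal.span {x}) (A ⧸ Ideal.span {x})) (n + 1) (j + 1) (by omega)
    (ModuleCat.of (A ⧸ Ideal.span {x}) (T x (ModuleCat.of A (IsLocalRing.ResidueField A))))
  have h2 := subsingleton_ext_succ_of_quotient x hx _ j h1
  exact DepthExtIso.subsingleton_ext_of_iso (inclIso x _ hk) _ _ h2


/-- quotient of a local ring by an element of the maximal ideal is local -/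
theorem isLocalRing_quotient (hxm : x ∈ IsLocalRing.maximalIdeal A) :
    IsLocalRing (A ⧸ Ideal.span {x}) := by
  have : Nontrivial (A ⧸ Ideal.span {x}) := by
    rw [Ideal.Quotient.nontrivial_iff]
    intro h
    have h1 : Ideal.span {x} ≤ IsLocalRing.maximalIdeal A :=
      (Ideal.span_singleton_le_iff_mem _).mpr hxm
    exact (IsLocalRing.maximalIdeal.isMaximal A).ne_top (top_le_iff.mp (h ▸ h1))
  exact IsLocalRing.of_surjective' (Ideal.Quotient.mk _) Ideal.Quotient.mk_surjective

end Groth.Agent.H2.InjDimQuot
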