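import Mathlib
import Groth.Prelude.Def_CAlg
import Groth.Agent.H2.InjDimQuot
import Groth.Agent.H29.CM
import Groth.Agent.H72.DepthFinite

/-!
# Gorenstein local rings are Cohen–Macaulay  (helper2)
-/

set_option autoImplicit false

namespace Groth.Agent.H2.GorensteinCM

universe u

open CategoryTheory Abelian IsLocalRing

variable {A : Type u} [CommRing A] [IsLocalRing A] [IsNoetherianRing A]

/-- depth zero: if the maximal ideal contains no non-zero-divisor there is a socle element -/
theorem exists_socle_of_not_exists_regular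
    (h : ¬ ∃ x ∈ maximalIdeal A, IsSMulRegular A x) :
    ∃ a : A, a ≠ 0 ∧ ∀ y ∈ maximalIdeal A, y * a = 0 := by
  push Not at h
  have hexist : ∃ p ∈ associatedPrimes A A, maximalIdeal A ≤ p := by
    rcases associatedPrimes.nonempty A A with ⟨Ia, hIa⟩
    apply (Ideal.subset_union_prime_finite (associatedPrimes.finite A A) Ia Ia _).mp
    · rw [biUnion_associatedPrimes_eq_compl_regular A A]
      exact fun r hr ↦ h r hr
    · exact fun I hin _ _ ↦ IsAssociatedPrime.isPrime hin
  obtain ⟨p, hpass, hap⟩ := hexist
  obtain ⟨hprime, m₀, hm₀⟩ := isAssociatedPrime_iff.mp (AssociatedPrimes.mem_iff.mp hpass)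
  refine ⟨m₀, ?_, ?_⟩
  · rintro rfl
    apply hprime.ne_top
    rw [hm₀, eq_top_iff]
    intro r _
    simp [Submodule.mem_colon_singleton]
  · intro y hy
    have := hap hy
    rw [hm₀] at this
    simpa [Submodule.mem_colon_singleton] using this

section socle

variable (a : A) (ha0 : a ≠ 0) (ha : ∀ y ∈ maximalIdeal A, y * a = 0)

/-- the embedding `κ → A` given by a socle element -/
noncomputable def socleMap : ResidueField A →ₗ[A] A :=
  Submodule.liftQ (maximalIdeal A) (LinearMap.toSpanSingleton A A a) (by
    intro y hy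
    rw [LinearMap.mem_ker, LinearMap.toSpanSingleton_apply, smul_eq_mul]
    exact ha y hy)

include ha0 in
theorem socleMap_injective : Function.Injective (socleMap a ha) := by
  rw [← LinearMap.ker_eq_bot]
  apply Submodule.ker_liftQ_eq_bot
  intro y hy
  rw [LinearMap.mem_ker, LinearMap.toSpanSingleton_apply, smul_eq_mul] at hy
  by_contra hym
  have hu : IsUnit y := by
    by_contra hnu
    exact hym ((mem_maximalIdeal y).mpr hnu)
  exact ha0 (hu.mul_right_eq_zero.mp hy)

include ha0 ha in
/-- with a socle element, injective dimension can be lowered -/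
theorem hasInjectiveDimensionLT_of_succ (r : ℕ)
    (h : HasInjectiveDimensionLT (ModuleCat.of A A) (r + 2)) :
    HasInjectiveDimensionLT (ModuleCat.of A A) (r + 1) := by
  apply InjDimResidue.hasInjectiveDimensionLT_of_residueField (ModuleCat.of A A) r
  intro i hi
  rcases Nat.lt_or_ge i (r + 2) with hlt | hge
  · obtain rfl : i = r + 1 := by omega
    have hS := Groth.Agent.H29.GlDimL.shortExact_of_exact (socleMap a ha)
      (LinearMap.range (socleMap a ha)).mkQ (socleMap_injective a ha0 ha)
      (Submodule.mkQ_surjective _) (LinearMap.exact_map_mkQ_range _)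
    refine InjDimResidue.subsingleton_of_forall_eq_zero fun z => ?_
    have h0 : hS.extClass.comp z (rfl : 1 + (r + 1) = 1 + (r + 1)) = 0 :=
      Ext.eq_zero_of_hasInjectiveDimensionLT _ (r + 2) (by omega)
    obtain ⟨z₂, rfl⟩ := Ext.contravariant_sequence_exact₁ hS _ z rfl h0
    have : Projective (ModuleCat.of A A) := ModuleCat.projective_of_categoryTheory_projective _
    rw [Ext.eq_zero_of_projective z₂, Ext.comp_zero]
  · exact HasInjectiveDimensionLT.subsingleton (ModuleCat.of A A) (r + 2) i hge _

end socle

section socle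
variable (a : A) (ha0 : a ≠ 0) (ha : ∀ y ∈ maximalIdeal A, y * a = 0)

include ha0 ha in
theorem injective_of_socle (n : ℕ) (h : HasInjectiveDimensionLT (ModuleCat.of A A) (n + 1)) :
    Module.Injective A A := by
  have key : HasInjectiveDimensionLT (ModuleCat.of A A) 1 := by
    induction n with
    | zero => exact h
    | succ n ih => exact ih (hasInjectiveDimensionLT_of_succ a ha0 ha n h)
  have : Injective (ModuleCat.of A A) := injective_iff_hasInjectiveDimensionLT_one.mpr key
  exact Module.injective_module_of_injective_object A (ModuleCat.of A A)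

include ha0 ha in
/-- a self-injective Noetherian local ring with a socle element has only one prime -/
theorem eq_maximalIdeal_of_injective [Module.Injective A A] (p : Ideal A) [hp : p.IsPrime] :
    p = maximalIdeal A := by
  by_contra hne
  obtain ⟨x, hxm, hxp⟩ := SetLike.exists_of_lt
    (lt_of_le_of_ne (IsLocalRing.le_maximalIdeal hp.ne_top) hne)
  -- `N = A[p]`
  let N : Submodule A A := Submodule.torsionBySet A A (p : Set A)
  have hmemN : ∀ b : A, b ∈ N ↔ ∀ r ∈ p, r * b = 0 := by
    intro b
    rw [Submodule.mem_torsionBySet_iff]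
    constructor
    · intro h r hr
      exact h ⟨r, hr⟩
    · rintro h ⟨r, hr⟩
      exact h r hr
  have haN : a ∈ N := (hmemN a).mpr fun r hr => ha r (IsLocalRing.le_maximalIdeal hp.ne_top hr)
  have hreg : Function.Injective (LinearMap.lsmul A (A ⧸ p) x) := by
    intro u v huv
    simp only [LinearMap.lsmul_apply, Algebra.smul_def, Ideal.Quotient.algebraMap_eq] at huv
    refine mul_left_cancel₀ ?_ huv
    rwa [Ne, Ideal.Quotient.eq_zero_iff_mem]
  have hle : N ≤ maximalIdeal A • N := by
    intro b hb
    let φ : A ⧸ p →ₗ[A] A := Submodule.liftQ p (LinearMap.toSpanSingleton A A b) (by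
      intro r hr
      rw [LinearMap.mem_ker, LinearMap.toSpanSingleton_apply, smul_eq_mul]
      exact (hmemN b).mp hb r hr)
    obtain ⟨ψ, hψ⟩ := Module.Injective.extension_property A A (A ⧸ p) (A ⧸ p)
      (LinearMap.lsmul A (A ⧸ p) x) hreg φ
    have h1 : b = x • ψ (Submodule.Quotient.mk 1) := by
      have := LinearMap.congr_fun hψ (Submodule.Quotient.mk 1)
      simp only [LinearMap.coe_comp, Function.comp_apply, LinearMap.lsmul_apply, map_smul] at this
      rw [this]
      show b = (LinearMap.toSpanSingleton A A b) 1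
      simp
    have h2 : ψ (Submodule.Quotient.mk 1) ∈ N := by
      rw [hmemN]
      intro r hr
      rw [← smul_eq_mul, ← map_smul, ← Submodule.Quotient.mk_smul, smul_eq_mul, mul_one,
        (Submodule.Quotient.mk_eq_zero p).mpr hr, map_zero]
    rw [h1]
    exact Submodule.smul_mem_smul hxm h2
  have hbot : N = ⊥ := Submodule.eq_bot_of_le_smul_of_le_jacobson_bot (maximalIdeal A) N
    (IsNoetherian.noetherian N) hle (IsLocalRing.maximalIdeal_le_jacobson _)
  rw [hbot] at haN
  exact ha0 haN

end socle

section depthquot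
open Pointwise
variable {A : Type u} [CommRing A] [IsLocalRing A] [IsNoetherianRing A]

/-- depth of `A/x` over itself and over `A` -/
theorem depth_quotient_self (x : A)
    [IsLocalRing (A ⧸ Ideal.span {x})] :
    LocCoh.depth (A ⧸ Ideal.span {x}) (A ⧸ Ideal.span {x}) =
      LocCoh.depth A (A ⧸ Ideal.span {x}) := by
  unfold LocCoh.depth
  rw [Groth.Agent.H72.DepthFinite.idealDepth_eq_idealDepth_map (B := A ⧸ Ideal.span {x})
    (maximalIdeal A) (A ⧸ Ideal.span {x})]
  congr 1
  exact (map_maximalIdeal_of_surjective (algebraMap A (A ⧸ Ideal.span {x}))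
    Ideal.Quotient.mk_surjective).symm

theorem depth_eq_depth_quotient_add_one (x : A) (hxm : x ∈ maximalIdeal A)
    (hreg : IsSMulRegular A x) [IsLocalRing (A ⧸ Ideal.span {x})] :
    LocCoh.depth A A = LocCoh.depth (A ⧸ Ideal.span {x}) (A ⧸ Ideal.span {x}) + 1 := by
  rw [depth_quotient_self x, ← Groth.Agent.H29.CML.depth_quotSMulTop_add_one A x hxm hreg]
  congr 1
  unfold LocCoh.depth
  apply Groth.Agent.H15.idealDepth_congr
  refine Submodule.quotEquivOfEq _ _ ?_
  rw [← Submodule.ideal_span_singleton_smul, smul_eq_mul, Ideal.mul_top]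

end depthquot


/-- the depth zero case -/
theorem isCM_of_socle {A : Type u} [CommRing A] [IsLocalRing A] [IsNoetherianRing A]
    (a : A) (ha0 : a ≠ 0) (ha : ∀ y ∈ maximalIdeal A, y * a = 0) (n : ℕ)
    (h : HasInjectiveDimensionLT (ModuleCat.of A A) (n + 1)) :
    Module.supportDim A A = ((LocCoh.depth A A : ℕ∞) : WithBot ℕ∞) ∧
      ringKrullDim A = 0 ∧ HasInjectiveDimensionLT (ModuleCat.of A A) 1 := by
  have hinj := injective_of_socle a ha0 ha n h
  have hinj' : Injective (ModuleCat.of A A) := Module.injective_object_of_injective_module A _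
  have hdim : ringKrullDim A = 0 := by
    rw [← ringKrullDimZero_iff_ringKrullDim_eq_zero, Ring.krullDimLE_zero_iff]
    intro p hp
    rw [eq_maximalIdeal_of_injective a ha0 ha p]
    infer_instance
  have hsd : Module.supportDim A A = 0 := by
    rw [Module.supportDim_self_eq_ringKrullDim, hdim]
  have hle := Groth.Agent.H29.CML.depth_le_supportDim (A := A) A
  rw [hsd] at hle
  have hd0 : LocCoh.depth A A = 0 := by
    have : LocCoh.depth A A ≤ 0 := by exact_mod_cast hle
    exact le_antisymm this (by simp)
  exact ⟨by rw [hsd, hd0]; rfl, hdim, inferInstance⟩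

/-- main induction: finite self-injective dimension implies Cohen–Macaulay, and the injective
dimension is at most the Krull dimension (which is at most the given bound). -/
theorem isCM_aux (n : ℕ) : ∀ (A : Type u) [CommRing A] [IsLocalRing A] [IsNoetherianRing A],
    HasInjectiveDimensionLT (ModuleCat.of A A) (n + 1) →
    Module.supportDim A A = ((LocCoh.depth A A : ℕ∞) : WithBot ℕ∞) ∧
      ∃ d : ℕ, d ≤ n ∧ ringKrullDim A = d ∧ HasInjectiveDimensionLT (ModuleCat.of A A) (d + 1) := by
  induction n with
  | zero =>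
    intro A _ _ _ h
    by_cases hex : ∃ x ∈ maximalIdeal A, IsSMulRegular A x
    · exfalso
      obtain ⟨x, hxm, hreg⟩ := hex
      have hloc := InjDimQuot.isLocalRing_quotient x hxm
      have h0 := InjDimQuot.hasInjectiveDimensionLT_quotient x hreg 0 h
      have hz := isZero_of_hasInjectiveDimensionLT_zero
        (ModuleCat.of (A ⧸ Ideal.span {x}) (A ⧸ Ideal.span {x}))
      have := ModuleCat.subsingleton_of_isZero hz
      exact not_subsingleton (A ⧸ Ideal.span {x}) this
    · obtain ⟨a, ha0, ha⟩ := exists_socle_of_not_exists_regular hex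
      obtain ⟨hcm, hdim, hd⟩ := isCM_of_socle a ha0 ha 0 h
      exact ⟨hcm, 0, le_rfl, by rw [hdim]; rfl, hd⟩
  | succ n ih =>
    intro A _ _ _ h
    by_cases hex : ∃ x ∈ maximalIdeal A, IsSMulRegular A x
    · obtain ⟨x, hxm, hreg⟩ := hex
      have hloc := InjDimQuot.isLocalRing_quotient x hxm
      have h0 := InjDimQuot.hasInjectiveDimensionLT_quotient x hreg (n + 1) h
      obtain ⟨hcm, d, hdn, hdim, hd⟩ := ih (A ⧸ Ideal.span {x}) h0
      have hdimA := ringKrullDim_quotient_span_singleton_succ_eq_ringKrullDim hreg hxm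
      refine ⟨?_, d + 1, by omega, ?_, InjDimQuot.hasInjectiveDimensionLT_of_quotient x hreg hxm d hd⟩
      · rw [Module.supportDim_self_eq_ringKrullDim] at hcm ⊢
        rw [← hdimA, hcm, depth_eq_depth_quotient_add_one x hxm hreg]
        rfl
      · rw [← hdimA, hdim]
        rfl
    · obtain ⟨a, ha0, ha⟩ := exists_socle_of_not_exists_regular hex
      obtain ⟨hcm, hdim, hd⟩ := isCM_of_socle a ha0 ha (n + 1) h
      exact ⟨hcm, 0, by omega, by rw [hdim]; rfl, hd⟩


/-- **Gorenstein local rings are Cohen–Macaulay.** -/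
theorem isCohenMacaulayLocalRing (A : Type u) [CommRing A] [h : LocCoh.IsGorensteinLocalRing A] :
    LocCoh.IsCohenMacaulayLocalRing A := by
  obtain ⟨n, hn⟩ := h.exists_hasInjectiveDimensionLT
  have hn' : HasInjectiveDimensionLT (ModuleCat.of A A) (n + 1) :=
    hasInjectiveDimensionLT_of_ge _ n _ (by omega)
  exact { supportDim_eq_depth := (isCM_aux n A hn').1 }

/-- the injective dimension of a Gorenstein local ring is at most its dimension -/
theorem hasInjectiveDimensionLT_of_ringKrullDim (A : Type u) [CommRing A]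
    [h : LocCoh.IsGorensteinLocalRing A] (d : ℕ) (hd : ringKrullDim A = d) :
    HasInjectiveDimensionLT (ModuleCat.of A A) (d + 1) := by
  obtain ⟨n, hn⟩ := h.exists_hasInjectiveDimensionLT
  have hn' : HasInjectiveDimensionLT (ModuleCat.of A A) (n + 1) :=
    hasInjectiveDimensionLT_of_ge _ n _ (by omega)
  obtain ⟨-, d', -, hd', h'⟩ := isCM_aux n A hn'
  rw [hd] at hd'
  have : d = d' := by exact_mod_cast hd'
  rw [this]
  exact h'

end Groth.Agent.H2.GorensteinCM
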