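import Mathlib
import Groth.Agent.H2.GorensteinCM
import Groth.Agent.H2.DepthExtIso

/-!
# `Ext` against a Gorenstein local ring  (helper2)
-/

set_option autoImplicit false

namespace Groth.Agent.H2.GorensteinExt

universe u

open CategoryTheory Abelian IsLocalRing

variable {A : Type u} [CommRing A] [IsLocalRing A] [IsNoetherianRing A]

/-- depth zero: if the maximal ideal contains no `M`-regular element there is a socle element -/
theorem exists_socle_of_not_exists_regular (M : Type u) [AddCommGroup M] [Module A M]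
    [Module.Finite A M] [Nontrivial M]
    (h : ¬ ∃ x ∈ maximalIdeal A, IsSMulRegular M x) :
    ∃ a : M, a ≠ 0 ∧ ∀ y ∈ maximalIdeal A, y • a = 0 := by
  push Not at h
  have hexist : ∃ p ∈ associatedPrimes A M, maximalIdeal A ≤ p := by
    rcases associatedPrimes.nonempty A M with ⟨Ia, hIa⟩
    apply (Ideal.subset_union_prime_finite (associatedPrimes.finite A M) Ia Ia _).mp
    · rw [biUnion_associatedPrimes_eq_compl_regular A M]
      exact fun r hr ↦ h r hr
    · exact fun I hin _ _ ↦ IsAssociatedPrime.isPrime hin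
  obtain ⟨p, hpass, hap⟩ := hexist
  obtain ⟨hprime, m₀, hm₀⟩ := isAssociatedPrime_iff.mp (AssociatedPrimes.mem_iff.mp hpass)
  refine ⟨m₀, ?_, ?_⟩
  · rintro rfl
    apply hprime.ne_top
    rw [hm₀, eq_top_iff]
    intro r _
    simp [Submodule.mem_colon_singleton]
  · intro y hy
    have := hap hy
    rw [hm₀] at this
    simpa [Submodule.mem_colon_singleton] using this

section socle

variable {M : Type u} [AddCommGroup M] [Module A M]
  (a : M) (ha0 : a ≠ 0) (ha : ∀ y ∈ maximalIdeal A, y • a = 0)

/-- the embedding `κ → M` given by a socle element -/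
noncomputable def socleMap : ResidueField A →ₗ[A] M :=
  Submodule.liftQ (maximalIdeal A) (LinearMap.toSpanSingleton A M a) (by
    intro y hy
    rw [LinearMap.mem_ker, LinearMap.toSpanSingleton_apply]
    exact ha y hy)

omit [IsNoetherianRing A] in
include ha0 in
theorem socleMap_injective : Function.Injective (socleMap a ha) := by
  rw [← LinearMap.ker_eq_bot]
  apply Submodule.ker_liftQ_eq_bot
  intro y hy
  rw [LinearMap.mem_ker, LinearMap.toSpanSingleton_apply] at hy
  by_contra hym
  have hu : IsUnit y := by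
    by_contra hnu
    exact hym ((mem_maximalIdeal y).mpr hnu)
  exact ha0 ((hu.smul_eq_zero).mp hy)

end socle

open Pointwise in
/-- Nakayama step: if `x ∈ 𝔪` is `N`-regular and `Ext^{i+1}(N/xN, M) = 0` then `Ext^i(N, M) = 0`
(all modules finite). -/
theorem subsingleton_ext_of_quotSMulTop (N M : ModuleCat.{u} A) [Module.Finite A N]
    [Module.Finite A M] (x : A) (hxm : x ∈ maximalIdeal A) (hreg : IsSMulRegular N x) (i : ℕ)
    (zero : Subsingleton (Ext (ModuleCat.of A (QuotSMulTop x N)) M (i + 1))) :
    Subsingleton (Ext N M i) := by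
  by_contra ntr
  rw [not_subsingleton_iff_nontrivial] at ntr
  let S := N.smulShortComplex x
  have hS : S.ShortExact := IsSMulRegular.smulShortComplex_shortExact (M := N) hreg
  have exac := Ext.contravariant_sequence_exact₁' hS M i (i + 1) (add_comm 1 i)
  have epi := exac.epi_f ((@AddCommGrpCat.isZero_of_subsingleton _ zero).eq_zero_of_tgt _)
  have hf : S.f = x • 𝟙 N := rfl
  simp only [S, hf, AddCommGrpCat.epi_iff_surjective, AddCommGrpCat.hom_ofHom] at epi
  have hx : x ∈ (Module.annihilator A (Ext N M i)).jacobson :=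
    (IsLocalRing.maximalIdeal_le_jacobson _) hxm
  apply Submodule.top_ne_pointwise_smul_of_mem_jacobson_annihilator hx
  rw [eq_comm, eq_top_iff]
  intro y _
  rcases epi y with ⟨z, hz⟩
  have hz' : y = x • z := by
    rw [← hz]
    change (Ext.mk₀ (x • 𝟙 N)).comp z (zero_add i) = _
    rw [Ext.mk₀_smul, Ext.smul_comp, Ext.mk₀_id_comp]
    rfl
  rw [hz']
  exact Submodule.smul_mem_pointwise_smul _ _ ⊤ trivial

/-- depth of a Gorenstein local ring is its dimension -/
theorem depth_eq_of_gorenstein (A : Type u) [CommRing A] [LocCoh.IsGorensteinLocalRing A] (d : ℕ)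
    (hd : ringKrullDim A = d) : LocCoh.depth A A = d := by
  have hcm := (GorensteinCM.isCohenMacaulayLocalRing A).supportDim_eq_depth
  rw [Module.supportDim_self_eq_ringKrullDim, hd] at hcm
  have : ((d : ℕ∞) : WithBot ℕ∞) = ((LocCoh.depth A A : ℕ∞) : WithBot ℕ∞) := by exact_mod_cast hcm
  exact (WithBot.coe_injective this).symm

/-- `Ext^i(κ, A)` for a Gorenstein local ring of dimension `d`: zero for `i ≠ d`, nonzero for
`i = d`. -/
theorem ext_residueField_of_gorenstein (A : Type u) [CommRing A] [LocCoh.IsGorensteinLocalRing A]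
    (d : ℕ) (hd : ringKrullDim A = d) :
    (∀ i : ℕ, i ≠ d → Subsingleton (Ext (ModuleCat.of A (ResidueField A)) (ModuleCat.of A A) i)) ∧
      Nontrivial (Ext (ModuleCat.of A (ResidueField A)) (ModuleCat.of A A) d) := by
  have hdepth := depth_eq_of_gorenstein A d hd
  have hne : maximalIdeal A • (⊤ : Submodule A A) ≠ ⊤ := Groth.Agent.H29.CML.smul_top_ne_top A
  obtain ⟨h1, h2⟩ := (DepthExtIso.idealDepth_eq_iff_ext (maximalIdeal A) A hne d).mp hdepth
  have hlt := GorensteinCM.hasInjectiveDimensionLT_of_ringKrullDim A d hd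
  refine ⟨fun i hi => ?_, h2⟩
  rcases Nat.lt_or_ge i d with h | h
  · exact h1 i h
  · exact HasInjectiveDimensionLT.subsingleton (ModuleCat.of A A) (d + 1) i (by omega) _

end Groth.Agent.H2.GorensteinExt
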