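import Mathlib
import Groth.Agent.H2.GorensteinExt

/-!
# Global Gorenstein rings and injective dimension  (helper2)
-/

set_option autoImplicit false
set_option linter.unusedSectionVars false
set_option linter.style.haveILetI false

namespace Groth.Agent.H2.GorensteinGlobal

universe u

open CategoryTheory Abelian IsLocalRing

variable (A : Type u) [CommRing A]

/-- `(A as an A-module)_S ≅ A_S` in `ModuleCat A_S`. -/
noncomputable def localizedSelfIso (S : Submonoid A) :
    (ModuleCat.of A A).localizedModule S ≅
      ModuleCat.of (Localization S) (Localization S) :=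
  haveI := ModuleCat.localizedModule_isLocalizedModule (ModuleCat.of A A) S
  (LinearEquiv.extendScalarsOfIsLocalization S (Localization S)
    (IsLocalizedModule.linearEquiv S ((ModuleCat.of A A).localizedModuleMkLinearMap S)
      (Algebra.linearMap A (Localization S)))).toModuleIso

/-- the injective dimension of a Gorenstein local ring is at least its dimension -/
theorem lt_of_hasInjectiveDimensionLT [LocCoh.IsGorensteinLocalRing A] (d : ℕ)
    (hd : ringKrullDim A = d) (n : ℕ) (h : HasInjectiveDimensionLT (ModuleCat.of A A) n) :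
    d < n := by
  by_contra hcon
  obtain ⟨-, hnt⟩ := GorensteinExt.ext_residueField_of_gorenstein A d hd
  obtain ⟨x, y, hxy⟩ := hnt
  apply hxy
  rw [Ext.eq_zero_of_hasInjectiveDimensionLT x n (by omega),
    Ext.eq_zero_of_hasInjectiveDimensionLT y n (by omega)]

variable [IsNoetherianRing A]

theorem exists_nat_ringKrullDim_eq [IsLocalRing A] : ∃ d : ℕ, ringKrullDim A = d := by
  obtain ⟨d, hd⟩ := Groth.Agent.H29.CML.exists_nat_supportDim_eq (A := A) A
  rw [Module.supportDim_self_eq_ringKrullDim] at hd
  exact ⟨d, hd⟩

/-- if `A` has injective dimension `< n` then so does every localization -/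
theorem hasInjectiveDimensionLT_localization (n : ℕ)
    (h : HasInjectiveDimensionLT (ModuleCat.of A A) n) (S : Submonoid A) :
    HasInjectiveDimensionLT (ModuleCat.of (Localization S) (Localization S)) (n + 1) := by
  haveI : HasInjectiveDimensionLE (ModuleCat.of A A) n :=
    hasInjectiveDimensionLT_of_ge _ n (n + 1) (by omega)
  haveI : HasInjectiveDimensionLT ((ModuleCat.of A A).localizedModule S) (n + 1) :=
    ModuleCat.localizedModule_hasInjectiveDimensionLE n S (ModuleCat.of A A)
  exact hasInjectiveDimensionLT_of_iso (localizedSelfIso A S) (n + 1)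

/-- **finite injective dimension ⇒ Gorenstein** -/
theorem isGorensteinRing_of_hasInjectiveDimensionLT (n : ℕ)
    (h : HasInjectiveDimensionLT (ModuleCat.of A A) n) : LocCoh.IsGorensteinRing A where
  isGorensteinLocalRing_localization _ _ :=
    { exists_hasInjectiveDimensionLT := ⟨n + 1, hasInjectiveDimensionLT_localization A n h _⟩ }

theorem ringKrullDim_le_of_hasInjectiveDimensionLT (n : ℕ)
    (h : HasInjectiveDimensionLT (ModuleCat.of A A) n) : ringKrullDim A ≤ n := by
  rw [ringKrullDim_le_iff_height_le]
  intro p hp
  haveI := isGorensteinRing_of_hasInjectiveDimensionLT A n h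
  haveI : LocCoh.IsGorensteinLocalRing (Localization.AtPrime p) :=
    LocCoh.IsGorensteinRing.isGorensteinLocalRing_localization p
  obtain ⟨d, hd⟩ := exists_nat_ringKrullDim_eq (Localization.AtPrime p)
  have hlt := lt_of_hasInjectiveDimensionLT (Localization.AtPrime p) d hd (n + 1)
    (hasInjectiveDimensionLT_localization A n h _)
  have h1 : ringKrullDim (Localization.AtPrime p) = p.height :=
    IsLocalization.AtPrime.ringKrullDim_eq_height p _
  rw [← h1, hd]
  exact_mod_cast Nat.lt_succ_iff.mp hlt

omit [IsNoetherianRing A] in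
/-- **Gorenstein of dimension `≤ d` ⇒ injective dimension `≤ d`** -/
theorem hasInjectiveDimensionLT_of_isGorensteinRing [LocCoh.IsGorensteinRing A] (d : ℕ)
    (hd : ringKrullDim A ≤ d) : HasInjectiveDimensionLT (ModuleCat.of A A) (d + 1) := by
  show HasInjectiveDimensionLE (ModuleCat.of A A) d
  rw [ModuleCat.hasInjectiveDimensionLE_iff_forall_maximalSpectrum]
  intro m
  haveI : m.1.IsPrime := m.2.isPrime
  haveI : LocCoh.IsGorensteinLocalRing (Localization.AtPrime m.1) :=
    LocCoh.IsGorensteinRing.isGorensteinLocalRing_localization m.1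
  obtain ⟨dm, hdm⟩ := exists_nat_ringKrullDim_eq (Localization.AtPrime m.1)
  have h1 : ringKrullDim (Localization.AtPrime m.1) = m.1.height :=
    IsLocalization.AtPrime.ringKrullDim_eq_height m.1 _
  have h2 : (m.1.height : WithBot ℕ∞) ≤ d :=
    (ringKrullDim_le_iff_height_le _).mp hd m.2.isPrime
  have h3 : dm ≤ d := by
    rw [← h1, hdm] at h2
    exact_mod_cast h2
  haveI := GorensteinCM.hasInjectiveDimensionLT_of_ringKrullDim (Localization.AtPrime m.1) dm hdm
  haveI : HasInjectiveDimensionLT
      (ModuleCat.of (Localization.AtPrime m.1) (Localization.AtPrime m.1)) (d + 1) :=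
    hasInjectiveDimensionLT_of_ge _ (dm + 1) (d + 1) (by omega)
  exact hasInjectiveDimensionLT_of_iso (localizedSelfIso A m.1.primeCompl).symm (d + 1)

end Groth.Agent.H2.GorensteinGlobal
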