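import Mathlib
import Groth.Prelude.Def_CAlg
import Groth.Agent.H2.DepthExtIso
import Groth.Agent.H72.HalfExact

set_option autoImplicit false
set_option linter.unusedSectionVars false
universe u

open CategoryTheory Abelian Groth.Agent.H15 Groth.Agent.H72.DepthExt

namespace Groth.Agent.H2.DepthSES

variable {R : Type u} [CommRing R]

/-- if `IM = M` for a finite module then all `Ext^i(R/I, M)` vanish -/
theorem subsingleton_ext_of_smul_top_eq_top (I : Ideal R) (M : Type u) [AddCommGroup M]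
    [Module R M] [Module.Finite R M] (h : I • (⊤ : Submodule R M) = ⊤) (i : ℕ) :
    Subsingleton (Ext (ModuleCat.of R (R ⧸ I)) (ModuleCat.of R M) i) := by
  obtain ⟨r, hr1, hr0⟩ := Submodule.exists_sub_one_mem_and_smul_eq_zero_of_fg_of_le_smul I
    (⊤ : Submodule R M) Module.Finite.fg_top (le_of_eq h.symm)
  have h1 : r • 𝟙 (ModuleCat.of R M) = 0 := by
    ext m
    exact hr0 m Submodule.mem_top
  have h2 : (r - 1) • 𝟙 (ModuleCat.of R (R ⧸ I)) = 0 := by
    ext
    simp only [ModuleCat.hom_smul, ModuleCat.hom_id, LinearMap.coe_comp, Function.comp_apply,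
      Submodule.mkQ_apply, LinearMap.smul_apply, LinearMap.id_coe, id_eq, ModuleCat.hom_zero,
      LinearMap.zero_apply]
    rw [← Submodule.Quotient.mk_smul]
    exact (Submodule.Quotient.mk_eq_zero _).mpr (by simpa using hr1)
  have key : ∀ e : Ext (ModuleCat.of R (R ⧸ I)) (ModuleCat.of R M) i, e = 0 := by
    intro e
    have e1 : r • e = 0 := by
      have := Ext.comp_mk₀_id e
      rw [← Ext.comp_mk₀_id e, ← Ext.comp_smul, ← Ext.mk₀_smul, h1, Ext.mk₀_zero, Ext.comp_zero]
    have e2 : (r - 1) • e = 0 := by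
      rw [← Ext.mk₀_id_comp e, ← Ext.smul_comp, ← Ext.mk₀_smul, h2, Ext.mk₀_zero, Ext.zero_comp]
    have : e = r • e - (r - 1) • e := by
      rw [← sub_smul]; simp
    rw [this, e1, e2, sub_zero]
  exact ⟨fun a b => by rw [key a, key b]⟩

/-- Rees' characterisation, valid for every finite module (also when `IM = M`). -/
theorem le_idealDepth_iff_ext_all [IsNoetherianRing R] (I : Ideal R) (M : Type u)
    [AddCommGroup M] [Module R M] [Module.Finite R M] (n : ℕ) :
    (n : ℕ∞) ≤ LocCoh.idealDepth I M ↔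
      ∀ i < n, Subsingleton (Ext (ModuleCat.of R (R ⧸ I)) (ModuleCat.of R M) i) := by
  by_cases h : I • (⊤ : Submodule R M) = ⊤
  · rw [idealDepth_eq_top_of_smul_top_eq I M h]
    exact ⟨fun _ i _ => subsingleton_ext_of_smul_top_eq_top I M h i, fun _ => le_top⟩
  · exact Groth.Agent.H2.DepthExtIso.le_idealDepth_iff_ext' I M h n

section SES

variable [IsNoetherianRing R] (I : Ideal R)
  {N' N N'' : Type u} [AddCommGroup N'] [Module R N'] [Module.Finite R N']
  [AddCommGroup N] [Module R N] [Module.Finite R N]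
  [AddCommGroup N''] [Module R N''] [Module.Finite R N'']
  (f : N' →ₗ[R] N) (g : N →ₗ[R] N'') (hf : Function.Injective f) (hg : Function.Surjective g)
  (hfg : Function.Exact f g)

local notation "T" => ModuleCat.of R (R ⧸ I)

include hf hg hfg in
theorem ext_mid (i : ℕ) (h1 : Subsingleton (Ext T (ModuleCat.of R N') i))
    (h3 : Subsingleton (Ext T (ModuleCat.of R N'') i)) :
    Subsingleton (Ext T (ModuleCat.of R N) i) := by
  have hS := Groth.Agent.H72.HalfExact.shortExact_of_exact f g hf hg hfg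
  refine ⟨fun a b => ?_⟩
  have key : ∀ e : Ext T (ModuleCat.of R N) i, e = 0 := by
    intro e
    obtain ⟨x₁, hx₁⟩ := Ext.covariant_sequence_exact₂ _ hS e (@Subsingleton.elim _ h3 _ _)
    rw [← hx₁, @Subsingleton.elim _ h1 x₁ 0, Ext.zero_comp]
  rw [key a, key b]

include hf hg hfg in
theorem ext_right (i : ℕ) (h2 : Subsingleton (Ext T (ModuleCat.of R N) i))
    (h1 : Subsingleton (Ext T (ModuleCat.of R N') (i + 1))) :
    Subsingleton (Ext T (ModuleCat.of R N'') i) := by
  have hS := Groth.Agent.H72.HalfExact.shortExact_of_exact f g hf hg hfg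
  refine ⟨fun a b => ?_⟩
  have key : ∀ e : Ext T (ModuleCat.of R N'') i, e = 0 := by
    intro e
    obtain ⟨x₂, hx₂⟩ := Ext.covariant_sequence_exact₃ _ hS e rfl (@Subsingleton.elim _ h1 _ _)
    rw [← hx₂, @Subsingleton.elim _ h2 x₂ 0, Ext.zero_comp]
  rw [key a, key b]

include hf hg hfg in
theorem ext_left_succ (i : ℕ) (h2 : Subsingleton (Ext T (ModuleCat.of R N) (i + 1)))
    (h3 : Subsingleton (Ext T (ModuleCat.of R N'') i)) :
    Subsingleton (Ext T (ModuleCat.of R N') (i + 1)) := by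
  have hS := Groth.Agent.H72.HalfExact.shortExact_of_exact f g hf hg hfg
  refine ⟨fun a b => ?_⟩
  have key : ∀ e : Ext T (ModuleCat.of R N') (i + 1), e = 0 := by
    intro e
    obtain ⟨x₃, hx₃⟩ := Ext.covariant_sequence_exact₁ _ hS e (@Subsingleton.elim _ h2 _ _) rfl
    rw [← hx₃, @Subsingleton.elim _ h3 x₃ 0, Ext.zero_comp]
  rw [key a, key b]

include hf in
theorem ext_left_zero (h2 : Subsingleton (Ext T (ModuleCat.of R N) 0)) :
    Subsingleton (Ext T (ModuleCat.of R N') 0) := by
  have hmono : Mono (ModuleCat.ofHom f) := (ModuleCat.mono_iff_injective _).mpr hf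
  exact (Ext.postcomp_mk₀_injective_of_mono T (ModuleCat.ofHom f)).subsingleton

include hf hg hfg in
/-- S0321: the depth lemma for an arbitrary ideal. -/
theorem depth_lemma :
    min (LocCoh.idealDepth I N') (LocCoh.idealDepth I N'') ≤ LocCoh.idealDepth I N ∧
    min (LocCoh.idealDepth I N) (LocCoh.idealDepth I N' - 1) ≤ LocCoh.idealDepth I N'' ∧
    min (LocCoh.idealDepth I N) (LocCoh.idealDepth I N'' + 1) ≤ LocCoh.idealDepth I N' := by
  refine ⟨?_, ?_, ?_⟩
  · refine ENat.forall_natCast_le_iff_le.mp fun n hn => ?_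
    rw [le_min_iff] at hn
    rw [le_idealDepth_iff_ext_all] at hn ⊢
    rw [le_idealDepth_iff_ext_all] at hn
    intro i hi
    exact ext_mid I f g hf hg hfg i (hn.1 i hi) (hn.2 i hi)
  · refine ENat.forall_natCast_le_iff_le.mp fun n hn => ?_
    rw [le_min_iff] at hn
    obtain ⟨hn1, hn2⟩ := hn
    rcases Nat.eq_zero_or_pos n with rfl | hpos
    · simp
    have hn2' : ((n + 1 : ℕ) : ℕ∞) ≤ LocCoh.idealDepth I N' := by
      have h1 : (1 : ℕ∞) ≤ LocCoh.idealDepth I N' - 1 := le_trans (by exact_mod_cast hpos) hn2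
      have h2 : (1 : ℕ∞) ≤ LocCoh.idealDepth I N' := by
        by_contra hlt
        push Not at hlt
        have : LocCoh.idealDepth I N' - 1 = 0 := tsub_eq_zero_of_le hlt.le
        rw [this] at h1
        simp at h1
      have h3 := add_le_add_left hn2 1
      rw [tsub_add_cancel_of_le h2] at h3
      exact_mod_cast h3
    rw [le_idealDepth_iff_ext_all] at hn1 hn2' ⊢
    intro i hi
    exact ext_right I f g hf hg hfg i (hn1 i hi) (hn2' (i + 1) (by omega))
  · refine ENat.forall_natCast_le_iff_le.mp fun n hn => ?_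
    rw [le_min_iff] at hn
    obtain ⟨hn1, hn2⟩ := hn
    rw [le_idealDepth_iff_ext_all] at hn1 ⊢
    intro i hi
    rcases Nat.eq_zero_or_pos i with rfl | hpos
    · exact ext_left_zero I f hf (hn1 0 hi)
    · obtain ⟨j, rfl⟩ : ∃ j, i = j + 1 := ⟨i - 1, by omega⟩
      have hj : ((j + 1 : ℕ) : ℕ∞) ≤ LocCoh.idealDepth I N'' := by
        have h1 : ((j + 1 + 1 : ℕ) : ℕ∞) ≤ LocCoh.idealDepth I N'' + 1 :=
          le_trans (by exact_mod_cast (by omega : j + 1 + 1 ≤ n)) hn2
        have h2 : (((j + 1 : ℕ) : ℕ∞) + 1) ≤ LocCoh.idealDepth I N'' + 1 := by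
          exact_mod_cast h1
        exact (ENat.add_le_add_iff_right ENat.one_ne_top).mp h2
      rw [le_idealDepth_iff_ext_all] at hj
      exact ext_left_succ I f g hf hg hfg j (hn1 (j + 1) hi) (hj j (Nat.lt_succ_self j))

end SES

end Groth.Agent.H2.DepthSES
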