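import Mathlib

/-!
# Inverse systems of Artinian modules with Artinian limit are essentially constant  (helper2)
-/

set_option autoImplicit false
set_option linter.unusedSectionVars false
set_option linter.style.haveILetI false

namespace Groth.Agent.H2.ArtinEssConst

universe u

variable {A : Type u} [CommRing A]
  (X : ℕ → Type u) [∀ n, AddCommGroup (X n)] [∀ n, Module A (X n)] [∀ n, IsArtinian A (X n)]
  (t : ∀ {n m : ℕ}, n ≤ m → X m →ₗ[A] X n)
  (t_refl : ∀ (n : ℕ) (h : n ≤ n) (x : X n), t h x = x)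
  (t_comp : ∀ {n m k : ℕ} (h1 : n ≤ m) (h2 : m ≤ k) (x : X k), t h1 (t h2 x) = t (h1.trans h2) x)

include t_comp in
/-- Mittag-Leffler: the images of `X_k → X_n` stabilize. -/
theorem exists_stable (n : ℕ) : ∃ r : ℕ, ∀ k (hk : n + r ≤ k),
    LinearMap.range (t ((Nat.le_add_right n r).trans hk)) =
      LinearMap.range (t (Nat.le_add_right n r)) := by
  let F : ℕ →o (Submodule A (X n))ᵒᵈ :=
    ⟨fun s => OrderDual.toDual (LinearMap.range (t (Nat.le_add_right n s))), by
      intro s s' hss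
      change LinearMap.range (t (Nat.le_add_right n s')) ≤ LinearMap.range (t (Nat.le_add_right n s))
      rintro _ ⟨z, rfl⟩
      refine ⟨t (Nat.add_le_add_left hss n) z, ?_⟩
      rw [t_comp]⟩
  obtain ⟨r, hr⟩ := IsArtinian.monotone_stabilizes F
  refine ⟨r, fun k hk => ?_⟩
  obtain ⟨s, rfl⟩ : ∃ s, k = n + s := ⟨k - n, by omega⟩
  have := hr s (by omega)
  exact (OrderDual.toDual.injective this).symm


variable (L : Type u) [AddCommGroup L] [Module A L] [IsArtinian A L]
  (c : ∀ n, L →ₗ[A] X n)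
  (hc : ∀ {n m : ℕ} (h : n ≤ m) (x : L), t h (c m x) = c n x)
  (hinj : ∀ x : L, (∀ n, c n x = 0) → x = 0)
  (hsurj : ∀ y : (∀ n, X n), (∀ (n m : ℕ) (h : n ≤ m), t h (y m) = y n) → ∃ x, ∀ n, c n x = y n)

include hc hinj in
theorem exists_injective : ∃ n₀ : ℕ, Function.Injective (c n₀) := by
  let F : ℕ →o (Submodule A L)ᵒᵈ :=
    ⟨fun n => OrderDual.toDual (LinearMap.ker (c n)), by
      intro n m hnm
      change LinearMap.ker (c m) ≤ LinearMap.ker (c n)
      intro x hx
      rw [LinearMap.mem_ker] at hx ⊢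
      rw [← hc hnm, hx, map_zero]⟩
  obtain ⟨n₀, hn₀⟩ := IsArtinian.monotone_stabilizes F
  refine ⟨n₀, ?_⟩
  rw [injective_iff_map_eq_zero]
  intro x hx
  apply hinj
  intro m
  rcases le_total m n₀ with h | h
  · rw [← hc h, hx, map_zero]
  · have h1 : LinearMap.ker (c n₀) = LinearMap.ker (c m) := OrderDual.toDual.injective (hn₀ m h)
    have h2 : x ∈ LinearMap.ker (c n₀) := hx
    rw [h1] at h2
    exact h2

include t_refl t_comp hc hsurj in
/-- every element of the stable image comes from the limit -/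
theorem exists_preimage (r : ℕ → ℕ)
    (hr : ∀ n k (hk : n + r n ≤ k), LinearMap.range (t ((Nat.le_add_right n (r n)).trans hk)) =
      LinearMap.range (t (Nat.le_add_right n (r n))))
    (n : ℕ) (y : X n) (hy : y ∈ LinearMap.range (t (Nat.le_add_right n (r n)))) :
    ∃ x : L, c n x = y := by
  -- the stable images
  let X' : ∀ m, Submodule A (X m) := fun m => LinearMap.range (t (Nat.le_add_right m (r m)))
  have hP1 : ∀ m k (h : m ≤ k), m + r m ≤ k → LinearMap.range (t h) = X' m := by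
    intro m k h hk
    exact hr m k hk
  have hstep : ∀ m (w : X m), w ∈ X' m → ∃ w' : X (m + 1), w' ∈ X' (m + 1) ∧
      t (Nat.le_succ m) w' = w := by
    intro m w hw
    let k := max (m + r m) (m + 1 + r (m + 1))
    have hk1 : m + r m ≤ k := le_max_left _ _
    have hk2 : m + 1 + r (m + 1) ≤ k := le_max_right _ _
    have hmk : m ≤ k := (Nat.le_add_right m (r m)).trans hk1
    have hmk1 : m + 1 ≤ k := (Nat.le_add_right (m + 1) (r (m + 1))).trans hk2
    rw [← hP1 m k hmk hk1] at hw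
    obtain ⟨z, rfl⟩ := hw
    refine ⟨t hmk1 z, ?_, ?_⟩
    · rw [← hP1 (m + 1) k hmk1 hk2]
      exact ⟨z, rfl⟩
    · rw [t_comp]
  -- build the sequence
  let z : ∀ k : ℕ, {w : X (n + k) // w ∈ X' (n + k)} := fun k =>
    Nat.rec (motive := fun k => {w : X (n + k) // w ∈ X' (n + k)}) ⟨y, hy⟩
      (fun k w => ⟨Classical.choose (hstep (n + k) w.1 w.2),
        (Classical.choose_spec (hstep (n + k) w.1 w.2)).1⟩) k
  have hz0 : (z 0).1 = y := rfl
  have hzs : ∀ k, t (Nat.le_succ (n + k)) (z (k + 1)).1 = (z k).1 := fun k =>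
    (Classical.choose_spec (hstep (n + k) (z k).1 (z k).2)).2
  have hz : ∀ k k' (h : k ≤ k'), t (Nat.add_le_add_left h n) (z k').1 = (z k).1 := by
    intro k k' h
    induction k', h using Nat.le_induction with
    | base => exact t_refl _ _ _
    | succ k' hkk' ih =>
      rw [← ih, ← hzs k', t_comp]
  obtain ⟨x, hx⟩ := hsurj (fun m => t (Nat.le_add_left m n) (z m).1) (by
    intro m m' h
    rw [t_comp, ← hz m m' h, t_comp])
  refine ⟨x, ?_⟩
  rw [hx n, ← hz0, ← hz 0 n (Nat.zero_le n)]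


include t_refl t_comp hc hinj hsurj in
/-- **Essential constancy.** -/
theorem essConst : ∃ (i : ℕ) (s : X i →ₗ[A] L), (∀ x, s (c i x) = x) ∧
    ∀ j, ∃ (k : ℕ) (hi : i ≤ k) (hj : j ≤ k), ∀ y : X k, t hj y = c j (s (t hi y)) := by
  choose r hr using exists_stable X (fun {n m} => t) (fun {n m k} => t_comp)
  have hpre := exists_preimage X (fun {n m} => t) t_refl (fun {n m k} => t_comp) L c
    (fun {n m} => hc) hsurj r hr
  obtain ⟨n₀, hn₀⟩ := exists_injective X (fun {n m} => t) L c (fun {n m} => hc) hinj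
  -- range of `c n` is the stable image
  have hrange : ∀ n k (h : n ≤ k), n + r n ≤ k → ∀ y : X k, ∃ x : L, c n x = t h y := by
    intro n k h hk y
    apply hpre n
    rw [← hr n k hk]
    exact ⟨y, rfl⟩
  let k₀ := n₀ + r n₀
  have hk₀ : n₀ ≤ k₀ := Nat.le_add_right _ _
  have hmem : ∀ w : X k₀, t hk₀ w ∈ LinearMap.range (c n₀) := by
    intro w
    obtain ⟨x, hx⟩ := hrange n₀ k₀ hk₀ le_rfl w
    exact ⟨x, hx⟩
  let s : X k₀ →ₗ[A] L :=
    (LinearEquiv.ofInjective (c n₀) hn₀).symm.toLinearMap ∘ₗ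
      (t hk₀).codRestrict (LinearMap.range (c n₀)) hmem
  have hs : ∀ w : X k₀, c n₀ (s w) = t hk₀ w := by
    intro w
    have := (LinearEquiv.ofInjective (c n₀) hn₀).apply_symm_apply
      ((t hk₀).codRestrict (LinearMap.range (c n₀)) hmem w)
    have h2 := congrArg Subtype.val this
    rw [LinearEquiv.ofInjective_apply] at h2
    exact h2
  refine ⟨k₀, s, ?_, ?_⟩
  · intro x
    apply hn₀
    rw [hs, hc]
  · intro j
    let j' := max j n₀
    let k := max k₀ (j' + r j')
    have hi : k₀ ≤ k := le_max_left _ _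
    have hj'k : j' ≤ k := (Nat.le_add_right j' (r j')).trans (le_max_right _ _)
    have hjj' : j ≤ j' := le_max_left _ _
    have hnj' : n₀ ≤ j' := le_max_right _ _
    refine ⟨k, hi, hjj'.trans hj'k, ?_⟩
    intro y
    obtain ⟨x', hx'⟩ := hrange j' k hj'k (le_max_right _ _) y
    have hxs : x' = s (t hi y) := by
      apply hn₀
      rw [hs, t_comp, ← hc hnj', hx', t_comp]
    rw [← hxs, ← hc hjj', hx', t_comp]

end Groth.Agent.H2.ArtinEssConst
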