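import Groth.Agent.H2.InjModMax
import Groth.Agent.S0397
import Mathlib.RingTheory.Ideal.Over
import Mathlib.RingTheory.Flat.Localization
import Mathlib.RingTheory.Artinian.Ring
import Mathlib.RingTheory.Localization.BaseChange

set_option autoImplicit false
universe u
open scoped TensorProduct
open Function (Injective Surjective Exact)
open IsLocalRing

namespace Groth.Agent.H2

/-- If `J` is a nilpotent ideal, `p : F → M` a surjection of `S`-modules with `F`, `M` flat and
`(S/J) ⊗ p` injective, then `p` is injective. -/
theorem injective_of_lTensor_quotient_injective_of_isNilpotent {S F M : Type u} [CommRing S]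
    [AddCommGroup F] [Module S F] [AddCommGroup M] [Module S M] [Module.Flat S F]
    [Module.Flat S M] (J : Ideal S) (hJ : IsNilpotent J) (p : F →ₗ[S] M) (hp : Surjective p)
    (h : Injective (p.lTensor (S ⧸ J))) : Injective p := by
  have hT : Tor1Zero S (S ⧸ J) M := tor1Zero_of_flat_right
  have h1 : Injective ((LinearMap.ker p).subtype.lTensor (S ⧸ J)) :=
    hT (LinearMap.ker p) F (LinearMap.ker p).subtype p (Submodule.injective_subtype _)
      (LinearMap.exact_subtype_ker_map p) hp
  have h2 : Subsingleton ((S ⧸ J) ⊗[S] (LinearMap.ker p)) := by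
    refine ⟨fun x y => ?_⟩
    apply h1
    apply h
    rw [← LinearMap.comp_apply, ← LinearMap.comp_apply, ← LinearMap.lTensor_comp]
    have : p ∘ₗ (LinearMap.ker p).subtype = 0 := by
      ext z
      simp
    rw [this, LinearMap.lTensor_zero, LinearMap.zero_apply, LinearMap.zero_apply]
  have h3 : J • (⊤ : Submodule S (LinearMap.ker p)) = ⊤ := by
    have := (TensorProduct.quotTensorEquivQuotSMul (LinearMap.ker p) J).symm.subsingleton
    exact Submodule.Quotient.subsingleton_iff.mp this
  have h4 : (⊥ : Submodule S (LinearMap.ker p)) = ⊤ := by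
    apply Groth.Agent.S0397.eq_top_of_sup_smul_eq_top_of_isNilpotent J hJ
    rw [h3, bot_sup_eq]
  have h5 : Subsingleton (LinearMap.ker p) :=
    (Submodule.subsingleton_iff S).mp (subsingleton_of_bot_eq_top h4)
  rw [← LinearMap.ker_eq_bot]
  exact (Submodule.subsingleton_iff_eq_bot).mp h5

/-- Over a local ring `R` with nilpotent maximal ideal and `R → S` injective: a surjection
`p : F → M` from a flat module which is injective modulo `𝔪` is injective provided `S ⊗ M` is
flat over `S`. -/
theorem injective_of_baseChange_flat_of_isNilpotent {R S F M : Type u} [CommRing R]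
    [IsLocalRing R] (hR : IsNilpotent (maximalIdeal R)) [CommRing S] [Algebra R S]
    (hinj : Injective (algebraMap R S)) [AddCommGroup F] [Module R F] [Module.Flat R F]
    [AddCommGroup M] [Module R M] [Module.Flat S (S ⊗[R] M)] (p : F →ₗ[R] M) (hp : Surjective p)
    (hk : Injective (p.lTensor (R ⧸ maximalIdeal R))) : Injective p := by
  have hJnil : IsNilpotent ((maximalIdeal R).map (algebraMap R S)) := by
    obtain ⟨n, hn⟩ := hR
    refine ⟨n, ?_⟩
    rw [← Ideal.map_pow, hn, Ideal.zero_eq_bot, Ideal.map_bot, Ideal.zero_eq_bot]
  -- `(S/J) ⊗_R p` is injective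
  have hW : Injective (p.lTensor (S ⧸ (maximalIdeal R).map (algebraMap R S))) := by
    have : Module.Flat (R ⧸ maximalIdeal R) (S ⧸ (maximalIdeal R).map (algebraMap R S)) := by
      let _ : Field (R ⧸ maximalIdeal R) := Ideal.Quotient.field _
      infer_instance
    exact lTensor_injective_of_algebra_flat_module (R ⧸ maximalIdeal R) p hk _
  -- `(S/J) ⊗_S (S ⊗_R p)` is injective
  have hWS : Injective ((p.baseChange S).lTensor (S ⧸ (maximalIdeal R).map (algebraMap R S))) := by
    let e1 := TensorProduct.AlgebraTensorModule.cancelBaseChange R S S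
      (S ⧸ (maximalIdeal R).map (algebraMap R S)) F
    let e2 := TensorProduct.AlgebraTensorModule.cancelBaseChange R S S
      (S ⧸ (maximalIdeal R).map (algebraMap R S)) M
    have hcomm : ∀ x, p.lTensor (S ⧸ (maximalIdeal R).map (algebraMap R S)) (e1 x) =
        e2 ((p.baseChange S).lTensor (S ⧸ (maximalIdeal R).map (algebraMap R S)) x) := by
      intro x
      induction x using TensorProduct.induction_on with
      | zero => simp
      | tmul n y =>
        induction y using TensorProduct.induction_on with
        | zero => simp
        | tmul a z => simp [e1, e2]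
        | add y z hy hz => simp only [TensorProduct.tmul_add, map_add, hy, hz]
      | add x y hx hy => simp only [map_add, hx, hy]
    intro x y hxy
    apply e1.injective
    apply hW
    rw [hcomm, hcomm, hxy]
  have hpS : Surjective (p.baseChange S) := by
    rw [LinearMap.baseChange_eq_ltensor]
    exact LinearMap.lTensor_surjective S hp
  have hpSinj : Injective (p.baseChange S) :=
    injective_of_lTensor_quotient_injective_of_isNilpotent _ hJnil (p.baseChange S) hpS hWS
  rw [injective_iff_map_eq_zero]
  intro x hx
  have h1 : (1 : S) ⊗ₜ[R] x = 0 := by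
    apply hpSinj
    rw [map_zero, LinearMap.baseChange_tmul, hx, TensorProduct.tmul_zero]
  have h2 : Injective ((Algebra.linearMap R S).rTensor F) :=
    Module.Flat.rTensor_preserves_injective_linearMap _ hinj
  have h3 : (1 : R) ⊗ₜ[R] x = 0 := by
    apply h2
    rw [map_zero, LinearMap.rTensor_tmul, Algebra.linearMap_apply, map_one, h1]
  have := congrArg (TensorProduct.lid R _) h3
  simpa using this

/-- Local case of Stacks 051E: over a local ring with nilpotent maximal ideal, if `R → S` is
injective and `S ⊗ M` is flat over `S`, then `M` is flat. -/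
theorem flat_of_baseChange_flat_of_isNilpotent_maximalIdeal {R S M : Type u} [CommRing R]
    [IsLocalRing R] (hR : IsNilpotent (maximalIdeal R)) [CommRing S] [Algebra R S]
    (hinj : Injective (algebraMap R S)) [AddCommGroup M] [Module R M]
    [Module.Flat S (S ⊗[R] M)] : Module.Flat R M := by
  let _ : Field (R ⧸ maximalIdeal R) := Ideal.Quotient.field _
  let k := R ⧸ maximalIdeal R
  let w := Module.Free.chooseBasis k (k ⊗[R] M)
  have ⟨v, eq⟩ := (TensorProduct.mk_surjective R M k Ideal.Quotient.mk_surjective).comp_left w
  have eq' : (TensorProduct.mk R k M 1 ∘ v) = w := eq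
  let p : (Module.Free.ChooseBasisIndex k (k ⊗[R] M) →₀ R) →ₗ[R] M :=
    Finsupp.linearCombination R v
  -- `p` is surjective
  have hsurj : Surjective p := by
    rw [← LinearMap.range_eq_top, Finsupp.range_linearCombination]
    apply Groth.Agent.S0397.eq_top_of_sup_smul_eq_top_of_isNilpotent (maximalIdeal R) hR
    rw [eq_top_iff]
    intro x _
    have h1 : (TensorProduct.mk R k M 1) x ∈
        (Submodule.span R (Set.range v)).map (TensorProduct.mk R k M 1) := by
      rw [Submodule.map_span, ← Set.range_comp]
      have h2 : Submodule.span k (Set.range (TensorProduct.mk R k M 1 ∘ v)) = ⊤ := by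
        rw [eq']
        exact w.span_eq
      have h3 := Submodule.restrictScalars_span R k Ideal.Quotient.mk_surjective
        (Set.range (TensorProduct.mk R k M 1 ∘ v))
      have : (TensorProduct.mk R k M 1) x ∈
          (Submodule.span k (Set.range (TensorProduct.mk R k M 1 ∘ v))).restrictScalars R := by
        rw [h2]; trivial
      rw [h3] at this
      exact this
    obtain ⟨y, hy, hxy⟩ := h1
    have h4 : x - y ∈ LinearMap.ker (TensorProduct.mk R k M 1) := by
      rw [LinearMap.mem_ker, map_sub, hxy, sub_self]
    have h5 : LinearMap.ker (TensorProduct.mk R k M 1) = maximalIdeal R • ⊤ :=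
      LinearMap.ker_tensorProductMk M
    rw [h5] at h4
    have : x = y + (x - y) := by abel
    rw [this]
    exact Submodule.add_mem_sup hy h4
  -- `k ⊗ p` is injective
  have hk : Injective (p.lTensor k) := by
    let b' := (Finsupp.basisSingleOne (R := R)
      (ι := Module.Free.ChooseBasisIndex k (k ⊗[R] M))).baseChange k
    have hb : ∀ i, p.baseChange k (b' i) = w i := by
      intro i
      rw [Module.Basis.baseChange_apply, LinearMap.baseChange_tmul]
      simp only [Finsupp.coe_basisSingleOne, p, Finsupp.linearCombination_single, one_smul]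
      exact congrFun eq' i
    have heq : p.baseChange k = (b'.equiv w (Equiv.refl _)).toLinearMap := by
      apply b'.ext
      intro i
      rw [hb, LinearEquiv.coe_coe, Module.Basis.equiv_apply, Equiv.refl_apply]
    have : Injective (p.baseChange k) := by
      rw [heq]
      exact (b'.equiv w (Equiv.refl _)).injective
    rw [LinearMap.baseChange_eq_ltensor] at this
    exact this
  have hpinj : Injective p :=
    injective_of_baseChange_flat_of_isNilpotent hR hinj p hsurj hk
  exact Module.Flat.of_linearEquiv (LinearEquiv.ofBijective p ⟨hpinj, hsurj⟩).symm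

/-- Flatness of base changes in a commutative square of rings. -/
theorem flat_baseChange_of_square {R R' S S' M : Type u} [CommRing R] [CommRing R'] [CommRing S]
    [CommRing S'] [Algebra R R'] [Algebra R S] [Algebra R S'] [Algebra R' S'] [Algebra S S']
    [IsScalarTower R R' S'] [IsScalarTower R S S'] [AddCommGroup M] [Module R M]
    [Module.Flat S (S ⊗[R] M)] : Module.Flat S' (S' ⊗[R'] (R' ⊗[R] M)) := by
  have h1 : Module.Flat S' (S' ⊗[S] (S ⊗[R] M)) := inferInstance
  let e1 : S' ⊗[S] (S ⊗[R] M) ≃ₗ[S'] S' ⊗[R] M :=
    TensorProduct.AlgebraTensorModule.cancelBaseChange R S S' S' M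
  let e2 : S' ⊗[R'] (R' ⊗[R] M) ≃ₗ[S'] S' ⊗[R] M :=
    TensorProduct.AlgebraTensorModule.cancelBaseChange R R' S' S' M
  exact Module.Flat.of_linearEquiv (e2.trans e1.symm)

/-- Stacks 051E: for an injective ring map `R → S` with `R` Artinian, if `S ⊗ M` is flat over `S`
then `M` is flat over `R`. -/
theorem flat_of_baseChange_flat_of_isArtinianRing {R S M : Type u} [CommRing R] [CommRing S]
    [IsArtinianRing R] [Algebra R S] (hinj : Injective (algebraMap R S))
    [AddCommGroup M] [Module R M] [Module.Flat S (S ⊗[R] M)] : Module.Flat R M := by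
  apply Module.flat_of_localized_maximal
  intro P hP
  have hnil : IsNilpotent (maximalIdeal (Localization.AtPrime P)) := by
    rw [← IsLocalRing.jacobson_eq_maximalIdeal ⊥ bot_ne_top]
    exact IsArtinianRing.isNilpotent_jacobson_bot
  have hinj' : Injective (algebraMap (Localization.AtPrime P)
      (Localization (Algebra.algebraMapSubmonoid S P.primeCompl))) :=
    localizationAlgebra_injective _ _ hinj
  have hflat' : Module.Flat (Localization (Algebra.algebraMapSubmonoid S P.primeCompl))
      ((Localization (Algebra.algebraMapSubmonoid S P.primeCompl)) ⊗[Localization.AtPrime P]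
        ((Localization.AtPrime P) ⊗[R] M)) := flat_baseChange_of_square (S := S)
  have h1 : Module.Flat (Localization.AtPrime P) ((Localization.AtPrime P) ⊗[R] M) :=
    flat_of_baseChange_flat_of_isNilpotent_maximalIdeal hnil hinj'
  have h2 : Module.Flat (Localization.AtPrime P) (LocalizedModule P.primeCompl M) :=
    Module.Flat.of_linearEquiv (LocalizedModule.equivTensorProduct P.primeCompl M)
  exact (Module.flat_iff_of_isLocalization (Localization.AtPrime P) P.primeCompl _).mp h2

end Groth.Agent.H2
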