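import Mathlib.RingTheory.Flat.Basic
import Mathlib.LinearAlgebra.TensorProduct.Pi
import Mathlib.Algebra.Module.Torsion.Basic

set_option autoImplicit false
universe u

namespace Groth.Agent.H2

open TensorProduct

/-- **Torsion commutes with flat base change**: if `B` is a flat `A`-module, `I` a finitely
generated ideal, then any element of `B ⊗ M` killed by `I` comes from `B ⊗ M[I]`. -/
theorem mem_range_lTensor_torsionBySet_of_flat {A : Type*} [CommRing A] (B : Type*)
    [AddCommGroup B] [Module A B] [Module.Flat A B] (M : Type*) [AddCommGroup M] [Module A M]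
    (I : Ideal A) (hI : I.FG) (z : B ⊗[A] M) (hz : ∀ a ∈ I, a • z = 0) :
    z ∈ LinearMap.range ((Submodule.torsionBySet A M (I : Set A)).subtype.lTensor B) := by
  classical
  obtain ⟨s, hs⟩ := hI
  let φ : M →ₗ[A] (s → M) := LinearMap.pi (fun i => LinearMap.lsmul A M i.1)
  have hexact : Function.Exact (Submodule.torsionBySet A M (I : Set A)).subtype φ := by
    rw [LinearMap.exact_iff, Submodule.range_subtype]
    ext x
    rw [← hs, ← Submodule.torsionBySet_eq_torsionBySet_span, Submodule.mem_torsionBySet_iff,
      LinearMap.mem_ker]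
    constructor
    · intro h i
      have := congrFun h i
      simpa [φ] using this
    · intro h
      ext i
      simpa [φ] using h i
  have h2 := Module.Flat.lTensor_exact B hexact
  refine (h2 z).mp ?_
  apply (TensorProduct.piRight A A B (fun _ : s => M)).injective
  rw [map_zero]
  ext i
  have hcomp : (LinearMap.proj i : (s → B ⊗[A] M) →ₗ[A] B ⊗[A] M) ∘ₗ
      (TensorProduct.piRight A A B (fun _ : s => M)).toLinearMap ∘ₗ φ.lTensor B =
      LinearMap.lsmul A (B ⊗[A] M) i.1 := by
    apply TensorProduct.ext'
    intro b m
    simp [φ, TensorProduct.tmul_smul]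
  have := LinearMap.congr_fun hcomp z
  simp only [LinearMap.coe_comp, LinearEquiv.coe_coe, Function.comp_apply, LinearMap.coe_proj,
    Function.eval, LinearMap.lsmul_apply] at this
  rw [this]
  exact hz _ (hs ▸ Ideal.subset_span i.2)

end Groth.Agent.H2
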