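import Groth.Prelude.Def_Wider
import Groth.Agent.H9.Essential
import Mathlib.Algebra.Category.ModuleCat.EnoughInjectives
import Mathlib.Algebra.Category.ModuleCat.Injective
import Mathlib.LinearAlgebra.Projection
import Mathlib.Order.Zorn

set_option autoImplicit false
universe u
open Function (Injective Surjective)

namespace Groth.Agent.H2

variable {R : Type u} [CommRing R]

section embed

/-- Every module embeds into an injective module (in the same universe). -/
theorem exists_injective_embedding (M : Type u) [AddCommGroup M] [Module R M] :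
    ∃ (Q : Type u) (_ : AddCommGroup Q) (_ : Module R Q) (_ : Module.Injective R Q)
      (i : M →ₗ[R] Q), Injective i := by
  have : CategoryTheory.EnoughInjectives (ModuleCat.{u} R) := inferInstance
  let J := CategoryTheory.Injective.under (ModuleCat.of R M)
  have hJ : CategoryTheory.Injective (ModuleCat.of R J) :=
    inferInstanceAs (CategoryTheory.Injective J)
  refine ⟨J, inferInstance, inferInstance, Module.injective_module_of_injective_object R J,
    (CategoryTheory.Injective.ι (ModuleCat.of R M)).hom, ?_⟩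
  exact (ModuleCat.mono_iff_injective _).mp inferInstance

end embed

section essential

variable {Q : Type u} [AddCommGroup Q] [Module R Q]

/-- `A` is essential in `B` (both submodules of `Q`). -/
def EssIn (A B : Submodule R Q) : Prop :=
  A ≤ B ∧ ∀ N : Submodule R Q, N ≤ B → N ≠ ⊥ → N ⊓ A ≠ ⊥

theorem EssIn.refl (A : Submodule R Q) : EssIn A A :=
  ⟨le_rfl, fun N hN hN0 => by rwa [inf_eq_left.mpr hN]⟩

theorem essIn_iff {A B : Submodule R Q} :
    EssIn A B ↔ A ≤ B ∧ ∀ x ∈ B, x ≠ 0 → ∃ r : R, r • x ∈ A ∧ r • x ≠ 0 := by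
  constructor
  · rintro ⟨hle, h⟩
    refine ⟨hle, fun x hx hx0 => ?_⟩
    have h1 : Submodule.span R {x} ≠ ⊥ := by
      rw [ne_eq, Submodule.span_singleton_eq_bot]; exact hx0
    have h2 := h _ (by rw [Submodule.span_singleton_le_iff_mem]; exact hx) h1
    obtain ⟨y, ⟨hy1, hy2⟩, hy0⟩ := (Submodule.ne_bot_iff _).mp h2
    obtain ⟨r, rfl⟩ := Submodule.mem_span_singleton.mp hy1
    exact ⟨r, hy2, hy0⟩
  · rintro ⟨hle, h⟩
    refine ⟨hle, fun N hN hN0 => ?_⟩
    obtain ⟨x, hx, hx0⟩ := (Submodule.ne_bot_iff _).mp hN0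
    obtain ⟨r, hr, hr0⟩ := h x (hN hx) hx0
    exact (Submodule.ne_bot_iff _).mpr ⟨r • x, ⟨N.smul_mem r hx, hr⟩, hr0⟩

theorem EssIn.trans {A B C : Submodule R Q} (h1 : EssIn A B) (h2 : EssIn B C) : EssIn A C := by
  rw [essIn_iff] at *
  refine ⟨h1.1.trans h2.1, fun x hx hx0 => ?_⟩
  obtain ⟨r, hr, hr0⟩ := h2.2 x hx hx0
  obtain ⟨s, hs, hs0⟩ := h1.2 (r • x) hr hr0
  exact ⟨s * r, by rwa [mul_smul], by rwa [mul_smul]⟩

/-- Inside any module, every submodule has a maximal essential extension. -/
theorem exists_maximal_essIn (A : Submodule R Q) :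
    ∃ E : Submodule R Q, EssIn A E ∧ ∀ E' : Submodule R Q, E ≤ E' → EssIn A E' → E' = E := by
  obtain ⟨E, hE⟩ := zorn_le_nonempty₀ {E : Submodule R Q | EssIn A E} (fun c hc hchain y hy => by
    refine ⟨sSup c, ?_, fun z hz => le_sSup hz⟩
    have hne : c.Nonempty := ⟨y, hy⟩
    change EssIn A (sSup c)
    rw [essIn_iff]
    refine ⟨(hc hy).1.trans (le_sSup hy), fun x hx hx0 => ?_⟩
    obtain ⟨E', hE', hxE'⟩ := (Submodule.mem_sSup_of_directed hne hchain.directedOn).mp hx
    exact (essIn_iff.mp (hc hE')).2 x hxE' hx0) A (EssIn.refl A)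
  exact ⟨E, hE.2.prop, fun E' hle hE' => le_antisymm (hE.2.le_of_ge hE' hle) hle⟩

/-- Inside an injective module, every submodule has an injective hull. -/
theorem exists_injective_essIn [Module.Injective R Q] (A : Submodule R Q) :
    ∃ E : Submodule R Q, EssIn A E ∧ Module.Injective R E := by
  obtain ⟨E, hE, hmax⟩ := exists_maximal_essIn A
  refine ⟨E, hE, ?_⟩
  obtain ⟨C, hC⟩ := Groth.Agent.H9.exists_isCompl_of_no_essential E (fun E' hle hess =>
    hmax E' hle (hE.trans ⟨hle, hess⟩))
  exact Groth.Agent.H9.injective_of_isCompl E C hC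

end essential

section hull

variable {M E : Type u} [AddCommGroup M] [Module R M] [AddCommGroup E] [Module R E]

theorem isEssentialInj_iff (f : M →ₗ[R] E) :
    InjHull.IsEssentialInj f ↔ Injective f ∧ EssIn (LinearMap.range f) ⊤ :=
  ⟨fun h => ⟨h.injective, le_top, fun N _ hN => h.essential N hN⟩,
    fun h => ⟨h.1, fun N hN => h.2.2 N le_top hN⟩⟩

theorem isEssentialInj_iff_forall (f : M →ₗ[R] E) :
    InjHull.IsEssentialInj f ↔
      Injective f ∧ ∀ x : E, x ≠ 0 → ∃ r : R, r • x ∈ LinearMap.range f ∧ r • x ≠ 0 := by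
  rw [isEssentialInj_iff, essIn_iff]
  constructor
  · rintro ⟨h1, -, h2⟩
    exact ⟨h1, fun x hx => h2 x trivial hx⟩
  · rintro ⟨h1, h2⟩
    exact ⟨h1, le_top, fun x _ hx => h2 x hx⟩

/-- Existence of injective hulls. -/
theorem exists_isInjectiveHull (M : Type u) [AddCommGroup M] [Module R M] :
    ∃ (E : Type u) (_ : AddCommGroup E) (_ : Module R E) (f : M →ₗ[R] E),
      InjHull.IsInjectiveHull f := by
  obtain ⟨Q, _, _, _, i, hi⟩ := exists_injective_embedding (R := R) M
  obtain ⟨E, hE, hinj⟩ := exists_injective_essIn (LinearMap.range i)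
  let f : M →ₗ[R] E := i.codRestrict E (fun m => hE.1 ⟨m, rfl⟩)
  refine ⟨E, inferInstance, inferInstance, f, ?_⟩
  refine { toIsEssentialInj := ?_, isInjective := hinj }
  rw [isEssentialInj_iff_forall]
  refine ⟨fun a b hab => hi (congrArg Subtype.val hab), fun x hx => ?_⟩
  obtain ⟨r, hr, hr0⟩ := (essIn_iff.mp hE).2 x x.2 (fun h => hx (Subtype.ext h))
  obtain ⟨m, hm⟩ := hr
  exact ⟨r, ⟨m, Subtype.ext hm⟩, fun h => hr0 (congrArg Subtype.val h)⟩

/-- A map out of an essential extension which is injective on the base is injective. -/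
theorem injective_of_comp_injective_of_isEssentialInj {I : Type u} [AddCommGroup I] [Module R I]
    (f : M →ₗ[R] E) (hf : InjHull.IsEssentialInj f) (α : E →ₗ[R] I)
    (h : Injective (α ∘ₗ f)) : Injective α := by
  rw [injective_iff_map_eq_zero]
  intro x hx
  by_contra hx0
  obtain ⟨r, ⟨m, hm⟩, hr0⟩ := ((isEssentialInj_iff_forall f).mp hf).2 x hx0
  have h1 : (α ∘ₗ f) m = 0 := by
    rw [LinearMap.comp_apply, hm, map_smul, hx, smul_zero]
  have h2 : m = 0 := h (h1.trans (map_zero _).symm)
  rw [h2, map_zero] at hm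
  exact hr0 hm.symm

/-- The image of an injective module under an injective linear map is a direct summand. -/
theorem exists_isCompl_range_of_injective {I : Type u} [AddCommGroup I] [Module R I]
    [Module.Injective R E] (α : E →ₗ[R] I) (hα : Injective α) :
    ∃ I' : Submodule R I, IsCompl (LinearMap.range α) I' := by
  obtain ⟨π, hπ⟩ := Module.Injective.out α hα (LinearMap.id : E →ₗ[R] E)
  refine ⟨LinearMap.ker π, ?_, ?_⟩
  · rw [disjoint_iff, eq_bot_iff]
    rintro y ⟨⟨e, rfl⟩, hy⟩
    have : π (α e) = 0 := hy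
    rw [hπ, LinearMap.id_apply] at this
    rw [this, map_zero]
    exact Submodule.zero_mem _
  · rw [codisjoint_iff, eq_top_iff]
    intro x _
    have h1 : x - α (π x) ∈ LinearMap.ker π := by
      rw [LinearMap.mem_ker, map_sub, hπ, LinearMap.id_apply, sub_self]
    have : x = α (π x) + (x - α (π x)) := by abel
    rw [this]
    exact Submodule.add_mem_sup ⟨_, rfl⟩ h1

/-- S0303: an injective hull splits off any injective module containing `M`. -/
theorem IsInjectiveHull.exists_embedding {I : Type u} [AddCommGroup I] [Module R I]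
    (f : M →ₗ[R] E) (hf : InjHull.IsInjectiveHull f) (i : M →ₗ[R] I) (hi : Injective i)
    (hI : Module.Injective R I) :
    ∃ α : E →ₗ[R] I, Injective α ∧ α ∘ₗ f = i ∧
      ∃ I' : Submodule R I, IsCompl (LinearMap.range α) I' := by
  obtain ⟨α, hα⟩ := Module.Injective.out f hf.injective i
  have hαf : α ∘ₗ f = i := LinearMap.ext hα
  have hinj : Injective α :=
    injective_of_comp_injective_of_isEssentialInj f hf.toIsEssentialInj α (by rw [hαf]; exact hi)
  have := hf.isInjective
  exact ⟨α, hinj, hαf, exists_isCompl_range_of_injective α hinj⟩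

/-- S0302: uniqueness of injective hulls. -/
theorem IsInjectiveHull.exists_equiv {E' : Type u} [AddCommGroup E'] [Module R E']
    (f : M →ₗ[R] E) (hf : InjHull.IsInjectiveHull f) (g : M →ₗ[R] E')
    (hg : InjHull.IsInjectiveHull g) : ∃ e : E ≃ₗ[R] E', e.toLinearMap ∘ₗ f = g := by
  obtain ⟨α, hinj, hαf, C, hC⟩ :=
    IsInjectiveHull.exists_embedding f hf g hg.injective hg.isInjective
  have hCbot : C = ⊥ := by
    by_contra hC0
    have h1 := hg.essential C hC0
    apply h1
    rw [eq_bot_iff]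
    rintro y ⟨hyC, m, rfl⟩
    have h2 : g m ∈ LinearMap.range α ⊓ C := ⟨⟨f m, by rw [← hαf]; rfl⟩, hyC⟩
    rw [hC.inf_eq_bot] at h2
    exact h2
  have hsurj : Surjective α := by
    rw [← LinearMap.range_eq_top]
    have := hC.sup_eq_top
    rwa [hCbot, sup_bot_eq] at this
  refine ⟨LinearEquiv.ofBijective α ⟨hinj, hsurj⟩, ?_⟩
  ext m
  exact congrArg (fun φ : M →ₗ[R] E' => φ m) hαf

end hull

end Groth.Agent.H2
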