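import Groth.Agent.H2.InjHull
import Mathlib.Algebra.Module.Torsion.Basic
import Mathlib.RingTheory.LocalRing.ResidueField.Basic
import Mathlib.LinearAlgebra.Dimension.Free
import Mathlib.LinearAlgebra.FreeModule.Finite.Basic

set_option autoImplicit false
universe u
open Function (Injective Surjective)
open IsLocalRing

namespace Groth.Agent.H2

variable {R : Type u} [CommRing R]

/-- In an `I`-power torsion module, the `I`-torsion (the socle when `I` is maximal) is essential. -/
theorem isEssentialInj_torsionBy_of_isPowerTorsion (I : Ideal R) (M : Type u) [AddCommGroup M]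
    [Module R M] (hM : LocCoh.IsPowerTorsion I M) :
    InjHull.IsEssentialInj (LocCoh.torsionBy I M).subtype := by
  classical
  rw [isEssentialInj_iff_forall]
  refine ⟨Submodule.injective_subtype _, fun x hx => ?_⟩
  have hex : ∃ n : ℕ, ∀ a ∈ I ^ n, a • x = 0 := hM x
  let m := Nat.find hex
  have hm : ∀ a ∈ I ^ m, a • x = 0 := Nat.find_spec hex
  have hm0 : m ≠ 0 := by
    intro h0
    have := hm 1 (by rw [h0, pow_zero, Ideal.one_eq_top]; trivial)
    rw [one_smul] at this
    exact hx this
  obtain ⟨m', hm'⟩ := Nat.exists_eq_succ_of_ne_zero hm0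
  have hmin : ¬ ∀ a ∈ I ^ m', a • x = 0 := Nat.find_min hex (by omega)
  push Not at hmin
  obtain ⟨b, hb, hbx⟩ := hmin
  refine ⟨b, ?_, hbx⟩
  rw [Submodule.range_subtype]
  change b • x ∈ Submodule.torsionBySet R M (I : Set R)
  rw [Submodule.mem_torsionBySet_iff]
  rintro ⟨a, ha⟩
  change a • b • x = 0
  rw [← mul_smul]
  apply hm
  rw [hm', pow_succ']
  exact Ideal.mul_mem_mul ha hb

/-- S0310 -/
theorem exists_injective_to_pi_of_isPowerTorsion [IsLocalRing R] (E : Type u) [AddCommGroup E]
    [Module R E] (f : ResidueField R →ₗ[R] E) (hf : InjHull.IsInjectiveHull f) (M : Type u)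
    [AddCommGroup M] [Module R M] (hM : LocCoh.IsPowerTorsion (maximalIdeal R) M) (n : ℕ)
    [Module.Finite (R ⧸ maximalIdeal R) ↥(LocCoh.torsionBy (maximalIdeal R) M)]
    (hn : Module.finrank (R ⧸ maximalIdeal R) ↥(LocCoh.torsionBy (maximalIdeal R) M) = n) :
    ∃ g : M →ₗ[R] (Fin n → E), Injective g := by
  let _ : Field (R ⧸ maximalIdeal R) := Ideal.Quotient.field _
  let b : Module.Basis (Fin n) (R ⧸ maximalIdeal R) ↥(LocCoh.torsionBy (maximalIdeal R) M) :=
    Module.finBasisOfFinrankEq _ _ hn
  let φ : ↥(LocCoh.torsionBy (maximalIdeal R) M) →ₗ[R] (Fin n → E) :=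
    LinearMap.pi (fun i => f ∘ₗ ((b.coord i).restrictScalars R))
  have hφ : Injective φ := by
    rw [injective_iff_map_eq_zero]
    intro v hv
    apply b.ext_elem
    intro i
    have h1 : f (b.coord i v) = 0 := congrFun hv i
    have h2 : b.coord i v = 0 := hf.injective (h1.trans (map_zero f).symm)
    rw [← Module.Basis.coord_apply, h2, map_zero, Finsupp.zero_apply]
  have hE := hf.isInjective
  have hpi : Module.Injective R (Fin n → E) := inferInstance
  obtain ⟨g, hg⟩ := Module.Injective.out (LocCoh.torsionBy (maximalIdeal R) M).subtype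
    (Submodule.injective_subtype _) φ
  refine ⟨g, ?_⟩
  apply injective_of_comp_injective_of_isEssentialInj _
    (isEssentialInj_torsionBy_of_isPowerTorsion (maximalIdeal R) M hM) g
  have : g ∘ₗ (LocCoh.torsionBy (maximalIdeal R) M).subtype = φ := LinearMap.ext hg
  rw [this]
  exact hφ

end Groth.Agent.H2
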