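import Groth.Agent.H2.MatlisLength
import Groth.Agent.H2.FlatTorsion
import Groth.Agent.H2.MatlisEmbed
import Groth.Agent.H2.InjHull
import Mathlib.RingTheory.LocalRing.Length

set_option autoImplicit false
set_option linter.unusedSectionVars false
universe u

namespace Groth.Agent.H2.MatlisBaseChange

open IsLocalRing TensorProduct Groth.Agent.H2.MatlisEnd Groth.Agent.H2.MatlisLength

/-- injectivity is invariant under linear equivalence -/
lemma injective_of_linearEquiv {R : Type*} [Ring R] {M N : Type u} [AddCommGroup M] [Module R M]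
    [AddCommGroup N] [Module R N] (e : M ≃ₗ[R] N) (h : Module.Injective R M) :
    Module.Injective R N := by
  refine ⟨fun X Y _ _ _ _ f hf g => ?_⟩
  obtain ⟨k, hk⟩ := Module.Injective.out f hf (e.symm.toLinearMap ∘ₗ g)
  refine ⟨e.toLinearMap ∘ₗ k, fun x => ?_⟩
  simp [hk]

/-- transport of injective hulls along a linear equivalence of the target -/
lemma isInjectiveHull_of_linearEquiv {R : Type u} [CommRing R] {M E E' : Type u}
    [AddCommGroup M] [Module R M] [AddCommGroup E] [Module R E] [AddCommGroup E'] [Module R E']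
    (f : M →ₗ[R] E) (hf : InjHull.IsInjectiveHull f) (e : E ≃ₗ[R] E') :
    InjHull.IsInjectiveHull (e.toLinearMap ∘ₗ f) := by
  refine { toIsEssentialInj := ?_, isInjective := injective_of_linearEquiv e hf.isInjective }
  rw [isEssentialInj_iff_forall]
  refine ⟨e.injective.comp hf.injective, fun x hx => ?_⟩
  have hx' : e.symm x ≠ 0 := by
    intro h
    exact hx (by simpa using congrArg e h)
  obtain ⟨r, ⟨m, hm⟩, hr0⟩ := ((isEssentialInj_iff_forall f).mp hf.toIsEssentialInj).2 _ hx'
  refine ⟨r, ⟨m, ?_⟩, ?_⟩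
  · simp [hm]
  · intro h
    apply hr0
    rw [← map_smul, h, map_zero]

section

variable {A : Type u} [CommRing A] [IsLocalRing A] [IsNoetherianRing A]
  {B : Type u} [CommRing B] [IsLocalRing B] [IsNoetherianRing B] [Algebra A B]
  [IsLocalHom (algebraMap A B)] [Module.Flat A B]
  (hm : (maximalIdeal A).map (algebraMap A B) = maximalIdeal B)

include hm in
lemma length_quot_map : Module.length B (B ⧸ (maximalIdeal A).map (algebraMap A B)) = 1 := by
  rw [hm]
  have : IsSimpleModule B (B ⧸ maximalIdeal B) :=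
    isSimpleModule_iff_quot_maximal.mpr ⟨_, inferInstance, ⟨LinearEquiv.refl _ _⟩⟩
  exact Module.length_eq_one _ _

include hm in
lemma length_baseChange_eq (M : Type u) [AddCommGroup M] [Module A M] :
    Module.length B (B ⊗[A] M) = Module.length A M := by
  rw [IsLocalRing.length_baseChange A B M, length_quot_map hm, mul_one]

include hm in
lemma map_pow_eq (n : ℕ) :
    ((maximalIdeal A) ^ n).map (algebraMap A B) = (maximalIdeal B) ^ n := by
  rw [Ideal.map_pow, hm]

include hm in
lemma length_quot_pow (n : ℕ) :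
    Module.length B (B ⧸ (maximalIdeal B) ^ n) = Module.length A (A ⧸ (maximalIdeal A) ^ n) := by
  rw [← length_baseChange_eq hm (A ⧸ (maximalIdeal A) ^ n)]
  have e1 : (B ⧸ (maximalIdeal B) ^ n) ≃ₗ[B]
      (B ⧸ ((maximalIdeal A) ^ n).map (algebraMap A B)) :=
    Submodule.quotEquivOfEq _ _ (map_pow_eq hm n).symm
  have e2 := (Algebra.TensorProduct.quotIdealMapEquivTensorQuot B
    ((maximalIdeal A) ^ n)).toLinearEquiv
  exact (e1.trans e2).length_eq

variable {E : Type u} [AddCommGroup E] [Module A E]

/-- if `I` kills `x` then so does `I B` -/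
lemma smul_eq_zero_of_mem_map {T : Type*} [AddCommGroup T] [Module B T] (I : Ideal A) (x : T)
    (h : ∀ a ∈ I, algebraMap A B a • x = 0) : ∀ b ∈ I.map (algebraMap A B), b • x = 0 := by
  have hle : I.map (algebraMap A B) ≤ LinearMap.ker (LinearMap.toSpanSingleton B T x) := by
    rw [Ideal.map_le_iff_le_comap]
    intro a ha
    rw [Ideal.mem_comap, LinearMap.mem_ker, LinearMap.toSpanSingleton_apply]
    exact h a ha
  intro b hb
  have := hle hb
  rwa [LinearMap.mem_ker, LinearMap.toSpanSingleton_apply] at this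

include hm in
lemma baseChange_tors_le (n : ℕ) :
    (tors (R := A) E n).baseChange B ≤
      Submodule.torsionBySet B (B ⊗[A] E) ((maximalIdeal B) ^ n : Ideal B) := by
  rw [Submodule.baseChange_eq_span, Submodule.span_le]
  rintro _ ⟨e, he, rfl⟩
  rw [SetLike.mem_coe, Submodule.mem_torsionBySet_iff]
  rintro ⟨b, hb⟩
  rw [SetLike.mem_coe, ← map_pow_eq hm n] at hb
  refine smul_eq_zero_of_mem_map _ _ (fun a ha => ?_) b hb
  rw [TensorProduct.mk_apply, algebraMap_smul, ← TensorProduct.tmul_smul,
    mem_tors.mp he a ha, TensorProduct.tmul_zero]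

variable (f : ResidueField A →ₗ[A] E) (hf : InjHull.IsInjectiveHull f)

include hm hf in
lemma isPowerTorsion_tensor : LocCoh.IsPowerTorsion (maximalIdeal B) (B ⊗[A] E) := by
  have key : ∀ z : B ⊗[A] E, ∃ n, z ∈ Submodule.torsionBySet B (B ⊗[A] E)
      ((maximalIdeal B) ^ n : Ideal B) := by
    intro z
    induction z using TensorProduct.induction_on with
    | zero => exact ⟨0, Submodule.zero_mem _⟩
    | tmul b e =>
      obtain ⟨n, hn⟩ := iSup_tors_eq_top f hf e
      exact ⟨n, baseChange_tors_le hm n (Submodule.tmul_mem_baseChange_of_mem b hn)⟩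
    | add x y hx hy =>
      obtain ⟨n, hn⟩ := hx
      obtain ⟨k, hk⟩ := hy
      refine ⟨max n k, Submodule.add_mem _ ?_ ?_⟩
      · exact Submodule.torsionBySet_le_torsionBySet_of_subset
          (Ideal.pow_le_pow_right (le_max_left n k)) hn
      · exact Submodule.torsionBySet_le_torsionBySet_of_subset
          (Ideal.pow_le_pow_right (le_max_right n k)) hk
  intro z
  obtain ⟨n, hn⟩ := key z
  refine ⟨n, fun b hb => ?_⟩
  exact (Submodule.mem_torsionBySet_iff _ _).mp hn ⟨b, hb⟩

include hm in
lemma socle_le : Submodule.torsionBySet B (B ⊗[A] E) ((maximalIdeal B : Ideal B) : Set B) ≤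
    (tors (R := A) E 1).baseChange B := by
  intro z hz
  have h1 := mem_range_lTensor_torsionBySet_of_flat B E ((maximalIdeal A) ^ 1)
    (IsNoetherian.noetherian _) z (fun a ha => by
      rw [pow_one] at ha
      rw [← algebraMap_smul B a z]
      exact (Submodule.mem_torsionBySet_iff _ _).mp hz
        ⟨algebraMap A B a, hm ▸ Ideal.mem_map_of_mem _ ha⟩)
  obtain ⟨y, hy⟩ := h1
  exact ⟨y, hy⟩

include hm hf in
lemma length_socle :
    Module.length B (Submodule.torsionBySet B (B ⊗[A] E) ((maximalIdeal B : Ideal B) : Set B))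
      = 1 := by
  have heq : Submodule.torsionBySet B (B ⊗[A] E) ((maximalIdeal B : Ideal B) : Set B) =
      (tors (R := A) E 1).baseChange B := by
    refine le_antisymm (socle_le hm) ?_
    have := baseChange_tors_le (E := E) hm 1
    rwa [pow_one] at this
  rw [heq, ← (Submodule.toBaseChange.toLinearEquiv B (tors (R := A) E 1)).length_eq,
    length_baseChange_eq hm, length_tors_eq f hf 1]
  have : IsSimpleModule A (A ⧸ (maximalIdeal A) ^ 1) :=
    isSimpleModule_iff_quot_maximal.mpr
      ⟨maximalIdeal A, inferInstance, ⟨Submodule.quotEquivOfEq _ _ (pow_one _)⟩⟩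
  exact Module.length_eq_one _ _

variable {EB : Type u} [AddCommGroup EB] [Module B EB]
  (fB : ResidueField B →ₗ[B] EB) (hfB : InjHull.IsInjectiveHull fB)

include hm hf hfB in
/-- the comparison embedding `B ⊗ E → E_B` -/
lemma exists_embedding : ∃ g : (B ⊗[A] E) →ₗ[B] EB, Function.Injective g := by
  have hPT := isPowerTorsion_tensor hm f hf
  have hess := Groth.Agent.H2.isEssentialInj_torsionBy_of_isPowerTorsion (maximalIdeal B)
    (B ⊗[A] E) hPT
  have hsimple : IsSimpleModule B
      (Submodule.torsionBySet B (B ⊗[A] E) ((maximalIdeal B : Ideal B) : Set B)) :=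
    Module.length_eq_one_iff.mp (length_socle hm f hf)
  obtain ⟨m, hmax, ⟨σ⟩⟩ := isSimpleModule_iff_quot_maximal.mp hsimple
  obtain rfl := IsLocalRing.eq_maximalIdeal hmax
  let σ' : (Submodule.torsionBySet B (B ⊗[A] E) ((maximalIdeal B : Ideal B) : Set B)) ≃ₗ[B]
    ResidueField B := σ
  have := hfB.isInjective
  let g₀ : (Submodule.torsionBySet B (B ⊗[A] E) ((maximalIdeal B : Ideal B) : Set B)) →ₗ[B] EB :=
    LinearMap.comp fB (σ' : _ →ₗ[B] ResidueField B)
  have hg₀ : Function.Injective g₀ := hfB.injective.comp σ'.injective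
  obtain ⟨g, hg⟩ := Module.Injective.extension_property B EB
    (Submodule.torsionBySet B (B ⊗[A] E) ((maximalIdeal B : Ideal B) : Set B)) (B ⊗[A] E)
    (Submodule.torsionBySet B (B ⊗[A] E) ((maximalIdeal B : Ideal B) : Set B)).subtype
    (Submodule.injective_subtype _) g₀
  refine ⟨g, ?_⟩
  refine injective_of_comp_injective_of_isEssentialInj _ hess g ?_
  have : g ∘ₗ (LocCoh.torsionBy (maximalIdeal B) (B ⊗[A] E)).subtype = g₀ := hg
  rw [this]
  exact hg₀

include hm hf hfB in
lemma embedding_surjective (g : (B ⊗[A] E) →ₗ[B] EB) (hg : Function.Injective g) :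
    Function.Surjective g := by
  intro y
  obtain ⟨n, hn⟩ := iSup_tors_eq_top fB hfB y
  let P : Submodule B (B ⊗[A] E) := (tors (R := A) E n).baseChange B
  let Q : Submodule B EB := tors (R := B) EB n
  have hPQ : ∀ x ∈ P, g x ∈ Q := by
    intro x hx
    rw [mem_tors]
    intro b hb
    rw [← map_smul]
    have := (Submodule.mem_torsionBySet_iff _ _).mp (baseChange_tors_le hm n hx) ⟨b, hb⟩
    rw [this, map_zero]
  let gn : P →ₗ[B] Q := g.restrict hPQ
  have hgn : Function.Injective gn := by
    intro a b hab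
    apply Subtype.ext
    apply hg
    exact congrArg Subtype.val hab
  have hlenQ : Module.length B Q = Module.length B (B ⧸ (maximalIdeal B) ^ n) :=
    length_tors_eq fB hfB n
  have hlenP : Module.length B P = Module.length B (B ⧸ (maximalIdeal B) ^ n) := by
    rw [← (Submodule.toBaseChange.toLinearEquiv B (tors (R := A) E n)).length_eq,
      length_baseChange_eq hm, length_tors_eq f hf n, length_quot_pow hm]
  have hfinQ : IsFiniteLength B Q := by
    rw [← Module.length_ne_top_iff, hlenQ, Module.length_ne_top_iff]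
    exact isFiniteLength_quotient_pow n
  have hle : Module.length B Q ≤ Module.length B P := by rw [hlenQ, hlenP]
  obtain ⟨x, hx⟩ := surjective_of_injective_of_length_le gn hgn hfinQ hle ⟨y, hn⟩
  exact ⟨x.1, congrArg Subtype.val hx⟩

include hm hf in
/-- **Base change of the injective hull of the residue field** along a flat local homomorphism
with `𝔪_A B = 𝔪_B`. -/
theorem exists_isInjectiveHull_tensor :
    ∃ g : ResidueField B →ₗ[B] B ⊗[A] E, InjHull.IsInjectiveHull g := by
  obtain ⟨EB, _, _, fB, hfB⟩ := Groth.Agent.H2.exists_isInjectiveHull (R := B) (ResidueField B)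
  obtain ⟨g, hg⟩ := exists_embedding hm f hf fB hfB
  have hsurj := embedding_surjective hm f hf fB hfB g hg
  let e : (B ⊗[A] E) ≃ₗ[B] EB := LinearEquiv.ofBijective g ⟨hg, hsurj⟩
  exact ⟨e.symm.toLinearMap ∘ₗ fB, isInjectiveHull_of_linearEquiv fB hfB e.symm⟩

end

end Groth.Agent.H2.MatlisBaseChange
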