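import Mathlib
import Groth.Agent.H58.LCJac
import Groth.Agent.H29.CM

/-!
# Top local cohomology and enlarging the ideal  (helper2)

For `dim A = d` and `I ≤ I' ≤ Jac(A)`: `H^d_{I'}(M) = 0 → H^d_I(M) = 0` (per module), from the
per-module form of helper58's `top_vanishing_step`.  Also: primes of coheight one above an ideal.
-/

set_option autoImplicit false
set_option linter.unusedSectionVars false

namespace Groth.Agent.H2.LCTopIdeal

universe u

open CategoryTheory Groth.Agent.H58.LC

variable {A : Type u} [CommRing A] [IsNoetherianRing A]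

theorem subsingleton_top_step (d : ℕ) (hd : ringKrullDim A = d) (a : Ideal A) (f : A)
    (hf : f ∈ (⊥ : Ideal A).jacobson) (M : Type u) [AddCommGroup M] [Module A M]
    (h : Subsingleton (LocCoh.H (a ⊔ Ideal.span {f}) d M)) : Subsingleton (LocCoh.H a d M) := by
  have key : ∀ x : LocCoh.H a d M, x = 0 := by
    intro x
    obtain ⟨n, hn⟩ := exists_pow_smul_eq_zero_top d hd a f hf M x
    obtain ⟨w, rfl⟩ := (mem_range_HmapOfLE_iff a f
      (CategoryTheory.injectiveResolution (ModuleCat.of A M)) d x).2 ⟨n, hn⟩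
    have hw : w = 0 := Subsingleton.elim (h := h) _ _
    rw [hw, map_zero]
  exact ⟨fun x y => by rw [key x, key y]⟩

theorem subsingleton_top_finset (d : ℕ) (hd : ringKrullDim A = d) (M : Type u) [AddCommGroup M]
    [Module A M] : ∀ (t : Finset A) (I : Ideal A), (∀ x ∈ t, x ∈ (⊥ : Ideal A).jacobson) →
      Subsingleton (LocCoh.H (I ⊔ Ideal.span (t : Set A)) d M) →
        Subsingleton (LocCoh.H I d M) := by
  classical
  intro t
  induction t using Finset.induction_on with
  | empty =>
    intro I _ h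
    simpa using h
  | insert f t _ ih =>
    intro I ht h
    apply ih I (fun x hx => ht x (Finset.mem_insert_of_mem hx))
    apply subsingleton_top_step d hd (I ⊔ Ideal.span (t : Set A)) f
      (ht f (Finset.mem_insert_self f t)) M
    have heq : I ⊔ Ideal.span ((insert f t : Finset A) : Set A) =
        I ⊔ Ideal.span (t : Set A) ⊔ Ideal.span {f} := by
      rw [Finset.coe_insert, Ideal.span_insert, sup_assoc, sup_comm (Ideal.span (t : Set A))]
    rw [heq] at h
    exact h

/-- **enlarging the ideal in top degree.** -/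
theorem subsingleton_top_of_le (d : ℕ) (hd : ringKrullDim A = d) (I I' : Ideal A)
    (hII' : I ≤ I') (hJ : I' ≤ (⊥ : Ideal A).jacobson) (M : Type u) [AddCommGroup M] [Module A M]
    (h : Subsingleton (LocCoh.H I' d M)) : Subsingleton (LocCoh.H I d M) := by
  obtain ⟨s, hs⟩ : (I' : Submodule A A).FG := IsNoetherian.noetherian I'
  have hs' : Ideal.span (s : Set A) = I' := hs
  apply subsingleton_top_finset d hd M s I (fun x hx => hJ (hs' ▸ Ideal.subset_span hx))
  have heq : I ⊔ Ideal.span (s : Set A) = I' := by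
    rw [hs']; exact sup_eq_right.2 hII'
  rw [heq]
  exact h

/-- a prime of coheight one above an ideal of positive-dimensional quotient -/
theorem exists_prime_ringKrullDim_quotient_eq_one [IsLocalRing A] (I : Ideal A)
    (hI : 0 < ringKrullDim (A ⧸ I)) :
    ∃ p : Ideal A, p.IsPrime ∧ I ≤ p ∧ ringKrullDim (A ⧸ p) = 1 := by
  rw [ringKrullDim_quotient, Order.krullDim_pos_iff] at hI
  obtain ⟨⟨q₀, hq₀⟩, ⟨q₁, hq₁⟩, hlt⟩ := hI
  have hlt' : q₀ < q₁ := hlt
  have hfin : Order.coheight q₀ < ⊤ := by
    have h1 : (Order.coheight q₀ : WithBot ℕ∞) ≤ ringKrullDim A := Order.coheight_le_krullDim q₀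
    have h2 : ringKrullDim A < ⊤ := ringKrullDim_lt_top
    have h3 := lt_of_le_of_lt h1 h2
    by_contra hcon
    rw [not_lt, top_le_iff] at hcon
    rw [hcon] at h3
    exact absurd h3 (by simp)
  obtain ⟨n, hn⟩ := ENat.ne_top_iff_exists.mp hfin.ne
  have hpos : 0 < Order.coheight q₀ := by
    rw [Order.coheight_pos]
    intro hmax
    exact absurd hlt' (hmax.not_lt)
  have hn1 : 1 ≤ n := by
    rw [← hn] at hpos
    exact_mod_cast hpos
  obtain ⟨p, hhead, hlen⟩ := Order.exists_series_of_coheight_eq_coe q₀ hn.symm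
  have hlen' : (p.length : ℕ∞) = Order.coheight p.head := by rw [hhead, hlen, hn]
  have hi : n - 1 < p.length + 1 := by omega
  have hco := Order.coheight_eq_index_of_length_eq_head_coheight hlen' ⟨n - 1, hi⟩
  have hrev : ((⟨n - 1, hi⟩ : Fin (p.length + 1)).rev : ℕ) = 1 := by
    simp [Fin.rev]; omega
  refine ⟨(p ⟨n - 1, hi⟩).asIdeal, (p ⟨n - 1, hi⟩).isPrime, ?_, ?_⟩
  · have h1 : q₀ ≤ p ⟨n - 1, hi⟩ := by
      rw [← hhead]
      exact p.head_le _
    exact le_trans hq₀ h1
  · rw [Groth.Agent.H29.CML.ringKrullDim_quotient_eq_coheight, hco, hrev]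
    rfl

end Groth.Agent.H2.LCTopIdeal
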