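import Mathlib
import Groth.Agent.H2.InjDimResidue

/-!
# Lengths of `Ext^n(N, M)` for `N` of finite length  (helper2)

If `Ext^i(κ, M) = 0` for `i ≠ n`, then for `N` of finite length `Ext^i(N, M) = 0` for `i ≠ n` and
`ℓ(Ext^n(N, M)) = ℓ(N) * ℓ(Ext^n(κ, M))`.
-/

set_option autoImplicit false

namespace Groth.Agent.H2.ExtLength

universe u

open CategoryTheory Abelian

variable {A : Type u} [CommRing A]

/-- `Ext` in the first variable along an isomorphism, as a linear equivalence. -/
noncomputable def extCongrLeft {N N' : ModuleCat.{u} A} (e : N ≅ N') (M : ModuleCat.{u} A)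
    (i : ℕ) : Ext N M i ≃ₗ[A] Ext N' M i :=
  LinearEquiv.ofLinearMap (Ext.precompOfLinear (Ext.mk₀ e.inv) A M (zero_add i))
    (Ext.precompOfLinear (Ext.mk₀ e.hom) A M (zero_add i))
    (by
      ext w
      show (Ext.mk₀ e.inv).comp ((Ext.mk₀ e.hom).comp w (zero_add i)) (zero_add i) = w
      rw [← Ext.comp_assoc_of_second_deg_zero, Ext.mk₀_comp_mk₀, e.inv_hom_id, Ext.mk₀_id_comp])
    (by
      ext w
      show (Ext.mk₀ e.hom).comp ((Ext.mk₀ e.inv).comp w (zero_add i)) (zero_add i) = w
      rw [← Ext.comp_assoc_of_second_deg_zero, Ext.mk₀_comp_mk₀, e.hom_inv_id, Ext.mk₀_id_comp])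

/-- `Ext` in the second variable along an isomorphism, as a linear equivalence. -/
noncomputable def extCongrRight (N : ModuleCat.{u} A) {M M' : ModuleCat.{u} A} (e : M ≅ M')
    (i : ℕ) : Ext N M i ≃ₗ[A] Ext N M' i :=
  LinearEquiv.ofLinearMap (Ext.postcompOfLinear (Ext.mk₀ e.hom) A N (add_zero i))
    (Ext.postcompOfLinear (Ext.mk₀ e.inv) A N (add_zero i))
    (by
      ext w
      show ((w.comp (Ext.mk₀ e.inv) (add_zero i)).comp (Ext.mk₀ e.hom) (add_zero i)) = w
      rw [Ext.comp_assoc_of_third_deg_zero, Ext.mk₀_comp_mk₀, e.inv_hom_id, Ext.comp_mk₀_id])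
    (by
      ext w
      show ((w.comp (Ext.mk₀ e.hom) (add_zero i)).comp (Ext.mk₀ e.inv) (add_zero i)) = w
      rw [Ext.comp_assoc_of_third_deg_zero, Ext.mk₀_comp_mk₀, e.hom_inv_id, Ext.comp_mk₀_id])

variable (M : ModuleCat.{u} A)

/-- additivity of the length of `Ext^n(-, M)` on a short exact sequence whose neighbouring
`Ext` groups vanish -/
theorem length_ext_of_shortExact {S : ShortComplex (ModuleCat.{u} A)} (hS : S.ShortExact) (n : ℕ)
    (h1 : ∀ i, i ≠ n → Subsingleton (Ext S.X₁ M i))
    (h3 : ∀ i, i ≠ n → Subsingleton (Ext S.X₃ M i)) :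
    (∀ i, i ≠ n → Subsingleton (Ext S.X₂ M i)) ∧
      Module.length A (Ext S.X₂ M n) =
        Module.length A (Ext S.X₃ M n) + Module.length A (Ext S.X₁ M n) := by
  constructor
  · intro i hi
    have s1 := h1 i hi
    have s3 := h3 i hi
    refine InjDimResidue.subsingleton_of_forall_eq_zero fun w => ?_
    obtain ⟨w3, hw3⟩ := Ext.contravariant_sequence_exact₂ hS M w (Subsingleton.elim _ _)
    rw [← hw3, Subsingleton.elim w3 0, Ext.comp_zero]
  · refine Module.length_eq_add_of_exact
      (Ext.precompOfLinear (Ext.mk₀ S.g) A M (zero_add n))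
      (Ext.precompOfLinear (Ext.mk₀ S.f) A M (zero_add n)) ?_ ?_ ?_
    · rw [injective_iff_map_eq_zero]
      intro x hx
      have hx' : (Ext.mk₀ S.g).comp x (zero_add n) = 0 := hx
      cases n with
      | zero =>
        have := hS.epi_g
        exact Ext.precomp_mk₀_injective_of_epi M S.g (by
          show (Ext.mk₀ S.g).comp x (zero_add 0) = (Ext.mk₀ S.g).comp 0 (zero_add 0)
          rw [hx', Ext.comp_zero])
      | succ m =>
        obtain ⟨x₁, rfl⟩ := Ext.contravariant_sequence_exact₃ hS M x hx' (add_comm 1 m)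
        have := h1 m (by omega)
        rw [Subsingleton.elim x₁ 0, Ext.comp_zero]
    · intro x₁
      have := h3 (n + 1) (by omega)
      obtain ⟨x₂, hx₂⟩ := Ext.contravariant_sequence_exact₁ hS M x₁ (add_comm 1 n)
        (Subsingleton.elim _ _)
      exact ⟨x₂, hx₂⟩
    · intro x₂
      constructor
      · intro hx
        obtain ⟨x₃, hx₃⟩ := Ext.contravariant_sequence_exact₂ hS M x₂ hx
        exact ⟨x₃, hx₃⟩
      · rintro ⟨x₃, rfl⟩
        show (Ext.mk₀ S.f).comp ((Ext.mk₀ S.g).comp x₃ (zero_add n)) (zero_add n) = 0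
        rw [← Ext.comp_assoc_of_second_deg_zero, Ext.mk₀_comp_mk₀, S.zero, Ext.mk₀_zero,
          Ext.zero_comp]

variable [IsLocalRing A]

/-- **Lengths of `Ext` for finite length modules.** -/
theorem ext_of_isFiniteLength (n : ℕ)
    (hk : ∀ i, i ≠ n → Subsingleton (Ext (ModuleCat.of A (IsLocalRing.ResidueField A)) M i))
    (N : Type u) [AddCommGroup N] [Module A N] (hN : IsFiniteLength A N) :
    (∀ i, i ≠ n → Subsingleton (Ext (ModuleCat.of A N) M i)) ∧
      Module.length A (Ext (ModuleCat.of A N) M n) =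
        Module.length A N *
          Module.length A (Ext (ModuleCat.of A (IsLocalRing.ResidueField A)) M n) := by
  induction hN with
  | of_subsingleton =>
    rename_i N _ _ _
    have hz : ∀ i, Subsingleton (Ext (ModuleCat.of A N) M i) := fun i =>
      InjDimResidue.extVanishGE_of_subsingleton M 0 N i (Nat.zero_le _)
    refine ⟨fun i _ => hz i, ?_⟩
    have := hz n
    rw [Module.length_eq_zero, Module.length_eq_zero, zero_mul]
  | of_simple_quotient h ih =>
    rename_i N _ _ N' hsimple
    obtain ⟨m, hmax, ⟨σ⟩⟩ := isSimpleModule_iff_quot_maximal.mp hsimple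
    obtain rfl := IsLocalRing.eq_maximalIdeal hmax
    let σ' : (N ⧸ N') ≃ₗ[A] IsLocalRing.ResidueField A := σ
    have hS := Groth.Agent.H29.GlDimL.shortExact_of_exact N'.subtype N'.mkQ
      (Submodule.injective_subtype _) (Submodule.mkQ_surjective _)
      (LinearMap.exact_subtype_mkQ N')
    have h3 : ∀ i, i ≠ n → Subsingleton (Ext (ModuleCat.of A (N ⧸ N')) M i) := fun i hi =>
      InjDimResidue.subsingleton_ext_of_equiv M σ'.symm i (hk i hi)
    obtain ⟨r1, r2⟩ := length_ext_of_shortExact M hS n ih.1 h3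
    refine ⟨r1, ?_⟩
    have e3 : Module.length A (Ext (ModuleCat.of A (N ⧸ N')) M n) =
        Module.length A (Ext (ModuleCat.of A (IsLocalRing.ResidueField A)) M n) :=
      (extCongrLeft σ'.toModuleIso M n).length_eq
    have hl : Module.length A N = Module.length A N' + 1 := by
      rw [Module.length_eq_add_of_exact N'.subtype N'.mkQ (Submodule.injective_subtype _)
        (Submodule.mkQ_surjective _) (LinearMap.exact_subtype_mkQ N')]
      congr 1
      exact Module.length_eq_one_iff.mpr hsimple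
    have r2' : Module.length A (Ext (ModuleCat.of A N) M n) =
        Module.length A (Ext (ModuleCat.of A (N ⧸ N')) M n) +
          Module.length A (Ext (ModuleCat.of A N') M n) := r2
    rw [r2', e3, ih.2, hl, add_mul, one_mul, add_comm]

end Groth.Agent.H2.ExtLength
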