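import Mathlib

/-!
# Splitting lemmas for injective modules  (helper2)
-/

set_option autoImplicit false

namespace Groth.Agent.H2.InjSplit

universe u

variable {R : Type u} [CommRing R]

theorem injective_of_subsingleton (M : Type u) [AddCommGroup M] [Module R M] [Subsingleton M] :
    Module.Injective R M := by
  apply Module.Baer.injective
  intro J f
  exact ⟨0, fun x hx => Subsingleton.elim _ _⟩

theorem injective_of_linearEquiv {M N : Type u} [AddCommGroup M] [Module R M] [AddCommGroup N]
    [Module R N] (e : M ≃ₗ[R] N) [h : Module.Injective R M] : Module.Injective R N := by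
  apply Module.Baer.injective
  intro J f
  obtain ⟨g, hg⟩ := Module.Baer.of_injective h J (e.symm.toLinearMap ∘ₗ f)
  refine ⟨e.toLinearMap ∘ₗ g, fun x hx => ?_⟩
  simp only [LinearMap.coe_comp, LinearEquiv.coe_coe, Function.comp_apply]
  rw [hg x hx]
  simp

section

variable {M Q : Type u} [AddCommGroup M] [Module R M] [AddCommGroup Q] [Module R Q]

/-- a surjection with injective kernel has a section -/
theorem exists_section_of_injective_ker (π : M →ₗ[R] Q) (hπ : Function.Surjective π)
    [hK : Module.Injective R (LinearMap.ker π)] : ∃ s : Q →ₗ[R] M, π ∘ₗ s = LinearMap.id := by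
  obtain ⟨r, hr⟩ := Module.Injective.extension_property R (LinearMap.ker π) (LinearMap.ker π) M
    (LinearMap.ker π).subtype Subtype.val_injective LinearMap.id
  have hr' : ∀ k : LinearMap.ker π, r k.1 = k := fun k => LinearMap.congr_fun hr k
  let t : M →ₗ[R] M := LinearMap.id - (LinearMap.ker π).subtype ∘ₗ r
  have ht : LinearMap.ker π ≤ LinearMap.ker t := by
    intro k hk
    rw [LinearMap.mem_ker]
    simp only [t, LinearMap.sub_apply, LinearMap.id_apply, LinearMap.coe_comp,
      Function.comp_apply, Submodule.subtype_apply]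
    rw [hr' ⟨k, hk⟩, sub_self]
  refine ⟨(Submodule.liftQ _ t ht) ∘ₗ (LinearMap.quotKerEquivOfSurjective π hπ).symm.toLinearMap, ?_⟩
  ext q
  obtain ⟨m, rfl⟩ := hπ q
  have h1 : (LinearMap.quotKerEquivOfSurjective π hπ).symm (π m) = Submodule.Quotient.mk m := by
    rw [LinearEquiv.symm_apply_eq]
    rfl
  simp only [LinearMap.coe_comp, LinearEquiv.coe_coe, Function.comp_apply, LinearMap.id_apply]
  rw [h1, Submodule.liftQ_apply]
  simp only [t, LinearMap.sub_apply, LinearMap.id_apply, LinearMap.coe_comp, Function.comp_apply,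
    Submodule.subtype_apply, map_sub]
  rw [LinearMap.mem_ker.mp (r m).2, sub_zero]

/-- the target of a surjection from an injective module with injective kernel is injective -/
theorem injective_of_surjective (π : M →ₗ[R] Q) (hπ : Function.Surjective π)
    [hM : Module.Injective R M] [hK : Module.Injective R (LinearMap.ker π)] :
    Module.Injective R Q := by
  obtain ⟨s, hs⟩ := exists_section_of_injective_ker π hπ
  apply Module.Baer.injective
  intro J f
  obtain ⟨g, hg⟩ := Module.Baer.of_injective hM J (s ∘ₗ f)
  refine ⟨π ∘ₗ g, fun x hx => ?_⟩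
  simp only [LinearMap.coe_comp, Function.comp_apply]
  rw [hg x hx]
  exact LinearMap.congr_fun hs (f ⟨x, hx⟩)

/-- an extension of injective modules is injective -/
theorem injective_of_extension (π : M →ₗ[R] Q) (hπ : Function.Surjective π)
    [hQ : Module.Injective R Q] [hK : Module.Injective R (LinearMap.ker π)] :
    Module.Injective R M := by
  apply Module.Baer.injective
  intro J f
  obtain ⟨g₁, hg₁⟩ := Module.Baer.of_injective hQ J (π ∘ₗ f)
  obtain ⟨m₁, hm₁⟩ := hπ (g₁ 1)
  have hmem : ∀ x : J, f x - (x : R) • m₁ ∈ LinearMap.ker π := by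
    intro x
    rw [LinearMap.mem_ker, map_sub, map_smul, hm₁, ← map_smul, smul_eq_mul, mul_one,
      hg₁ x.1 x.2, sub_eq_zero]
    rfl
  let f₁ : J →ₗ[R] LinearMap.ker π :=
    { toFun := fun x => ⟨f x - (x : R) • m₁, hmem x⟩
      map_add' := fun x y => by
        ext
        simp only [Submodule.coe_add, map_add, add_smul]
        abel
      map_smul' := fun c x => by
        ext
        simp only [Submodule.coe_smul, map_smul, smul_eq_mul, RingHom.id_apply, smul_sub, mul_smul] }
  obtain ⟨g₂, hg₂⟩ := Module.Baer.of_injective hK J f₁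
  refine ⟨LinearMap.toSpanSingleton R M m₁ + (LinearMap.ker π).subtype ∘ₗ g₂, fun x hx => ?_⟩
  simp only [LinearMap.add_apply, LinearMap.toSpanSingleton_apply, LinearMap.coe_comp,
    Function.comp_apply, Submodule.subtype_apply]
  rw [hg₂ x hx]
  simp [f₁]

end

end Groth.Agent.H2.InjSplit
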