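import Mathlib
import Groth.Agent.H2.InjSplit
import Groth.Agent.H2.InjDimQuot
import Groth.Agent.H58.LCDepth
import Groth.Agent.H72.DepthFinite

/-!
# Injectivity of local cohomology modules via dimension shifting  (helper2)

For a short exact sequence `0 → X₁ → X₂ → X₃ → 0` with `X₂` injective, over a Noetherian ring.
-/

set_option autoImplicit false

namespace Groth.Agent.H2.LCInjective

universe u

open CategoryTheory Abelian Groth.Agent.H58.LC Groth.Agent.H2.InjSplit

variable {R : Type u} [CommRing R] (I : Ideal R)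

/-- local notation for `H^i_I(M)` -/
noncomputable abbrev H (i : ℕ) (M : ModuleCat.{u} R) : ModuleCat.{u} R := (localCohomology I i).obj M

section les

variable {S : ShortComplex (ModuleCat.{u} R)} (hS : S.ShortExact) [hinj : Injective S.X₂]

include hinj in
theorem δ_bijective (i : ℕ) : Function.Bijective (δ I (i + 1) hS) := by
  have h1 : Subsingleton (H I (i + 1) S.X₂) := subsingleton_of_injective I S.X₂ i
  have h2 : Subsingleton (H I (i + 2) S.X₂) := subsingleton_of_injective I S.X₂ (i + 1)
  constructor
  · rw [injective_iff_map_eq_zero]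
    intro x hx
    obtain ⟨x₂, rfl⟩ := exact₃ I (i + 1) hS x hx
    rw [Subsingleton.elim x₂ 0, map_zero]
  · intro y
    exact exact₁ I (i + 1) hS y (Subsingleton.elim _ _)

include hinj in
theorem δ_zero_surjective : Function.Surjective (δ I 0 hS) := by
  have h2 : Subsingleton (H I 1 S.X₂) := subsingleton_of_injective I S.X₂ 0
  intro y
  exact exact₁ I 0 hS y (Subsingleton.elim _ _)

/-- the isomorphism `H^{i+1}(X₃) ≃ H^{i+2}(X₁)` -/
noncomputable def δEquiv (i : ℕ) : H I (i + 1) S.X₃ ≃ₗ[R] H I (i + 2) S.X₁ :=
  LinearEquiv.ofBijective (δ I (i + 1) hS) (δ_bijective I hS i)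

variable [IsNoetherianRing R]

omit hinj in
theorem injective_H0_of_injective (E : ModuleCat.{u} R) [Injective E] :
    Module.Injective R (H I 0 E) := by
  haveI : Module.Injective R E := Module.injective_module_of_injective_object R E
  haveI : Module.Injective R (DRing.torsionSub I E) := injective_torsionSub I E
  exact injective_of_linearEquiv (H0equiv I E).symm

/-- the kernel of `δ : H^0(X₃) → H^1(X₁)` is injective when `H^0(X₁)` is -/
theorem injective_ker_δ [h1 : Module.Injective R (H I 0 S.X₁)] :
    Module.Injective R (LinearMap.ker (δ I 0 hS)) := by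
  have hmono : Mono S.f := hS.mono_f
  let a : H I 0 S.X₁ →ₗ[R] H I 0 S.X₂ := ((localCohomology I 0).map S.f).hom
  let b : H I 0 S.X₂ →ₗ[R] H I 0 S.X₃ := ((localCohomology I 0).map S.g).hom
  have ha : Function.Injective a := map_injective_of_mono I S.f
  have hker_b : LinearMap.ker b = LinearMap.range a := by
    ext x
    constructor
    · intro hx
      obtain ⟨x₁, hx₁⟩ := exact₂ I 0 hS x (LinearMap.mem_ker.mp hx)
      exact ⟨x₁, hx₁⟩
    · rintro ⟨x₁, rfl⟩
      exact LinearMap.mem_ker.mpr (map_g_map_f I 0 x₁)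
  have hker_d : LinearMap.ker (δ I 0 hS) = LinearMap.range b := by
    ext x
    constructor
    · intro hx
      obtain ⟨x₂, hx₂⟩ := exact₃ I 0 hS x (LinearMap.mem_ker.mp hx)
      exact ⟨x₂, hx₂⟩
    · rintro ⟨x₂, rfl⟩
      exact LinearMap.mem_ker.mpr (δ_map_g I 0 hS x₂)
  haveI : Module.Injective R (H I 0 S.X₂) := injective_H0_of_injective I S.X₂
  haveI : Module.Injective R (LinearMap.range a) :=
    injective_of_linearEquiv (LinearEquiv.ofInjective a ha)
  haveI : Module.Injective R (LinearMap.ker b) :=
    injective_of_linearEquiv (LinearEquiv.ofEq _ _ hker_b.symm)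
  haveI : Module.Injective R (LinearMap.ker b.rangeRestrict) := by
    rw [LinearMap.ker_rangeRestrict]
    infer_instance
  haveI : Module.Injective R (LinearMap.range b) :=
    injective_of_surjective b.rangeRestrict b.surjective_rangeRestrict
  exact injective_of_linearEquiv (LinearEquiv.ofEq _ _ hker_d.symm)

include hS in
/-- if `H^0(X₁)` and `H^0(X₃)` are injective modules then so is `H^1(X₁)` -/
theorem injective_H1 [h1 : Module.Injective R (H I 0 S.X₁)]
    [h3 : Module.Injective R (H I 0 S.X₃)] : Module.Injective R (H I 1 S.X₁) := by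
  haveI := injective_ker_δ I hS
  exact injective_of_surjective (δ I 0 hS) (δ_zero_surjective I hS)

include hS in
/-- if `H^0(X₁)` and `H^1(X₁)` are injective modules then so is `H^0(X₃)` -/
theorem injective_H0_X₃ [h1 : Module.Injective R (H I 0 S.X₁)]
    [h3 : Module.Injective R (H I 1 S.X₁)] : Module.Injective R (H I 0 S.X₃) := by
  haveI := injective_ker_δ I hS
  exact injective_of_extension (δ I 0 hS) (δ_zero_surjective I hS)

end les

section main

open Groth.Agent.H2.InjDimQuot

variable {R : Type u} [CommRing R] [IsNoetherianRing R] (I : Ideal R)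

instance (C : ModuleCat.{u} R) : Injective (injSC C).X₂ :=
  inferInstanceAs (Injective (Injective.under C))

/-- **Injectivity of the top local cohomology.**  If `id M ≤ n`, `H^0_I(M)` is an injective module
and `H^i_I(M) = 0` for `1 ≤ i < n`, then `H^n_I(M)` is an injective module. -/
theorem injective_H (n : ℕ) : ∀ (M : ModuleCat.{u} R), HasInjectiveDimensionLT M (n + 1) →
    Module.Injective R (H I 0 M) → (∀ i, 1 ≤ i → i < n → Subsingleton (H I i M)) →
    Module.Injective R (H I n M) := by
  induction n using Nat.twoStepInduction with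
  | zero => intro M _ h0 _; exact h0
  | one =>
    intro M hM h0 _
    have hS := injSC_shortExact M
    have h3 : HasInjectiveDimensionLT (injSC M).X₃ 1 :=
      hS.hasInjectiveDimensionLT_X₃ 1 inferInstance hM
    haveI : Injective (injSC M).X₃ := injective_iff_hasInjectiveDimensionLT_one.mpr h3
    haveI : Module.Injective R (H I 0 (injSC M).X₁) := h0
    haveI : Module.Injective R (H I 0 (injSC M).X₃) := injective_H0_of_injective I _
    exact injective_H1 I hS
  | more n _ ih =>
    intro M hM h0 hvan
    have hS := injSC_shortExact M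
    have h3 : HasInjectiveDimensionLT (injSC M).X₃ (n + 1 + 1) :=
      hS.hasInjectiveDimensionLT_X₃ (n + 1 + 1) (hasInjectiveDimensionLT_of_ge _ 1 _ (by omega)) hM
    haveI : Module.Injective R (H I 0 (injSC M).X₁) := h0
    haveI : Subsingleton (H I 1 (injSC M).X₁) := hvan 1 le_rfl (by omega)
    haveI : Module.Injective R (H I 1 (injSC M).X₁) := injective_of_subsingleton _
    have h03 : Module.Injective R (H I 0 (injSC M).X₃) := injective_H0_X₃ I hS
    have hvan3 : ∀ i, 1 ≤ i → i < n + 1 → Subsingleton (H I i (injSC M).X₃) := by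
      intro i hi hin
      obtain ⟨j, rfl⟩ : ∃ j, i = j + 1 := ⟨i - 1, by omega⟩
      have := hvan (j + 2) (by omega) (by omega)
      exact (δEquiv I hS j).toEquiv.subsingleton
    haveI := ih (injSC M).X₃ h3 h03 hvan3
    exact injective_of_linearEquiv (δEquiv I hS n)

/-- If `H^0_I(M)` is an injective module and `H^1_I(M) = 0`, then `Ext^1(N, M) = 0` for every
`I`-power-torsion module `N`. -/
theorem subsingleton_ext_one (M N : ModuleCat.{u} R) (hN : IsTors I N)
    (h0 : Module.Injective R (H I 0 M)) (h1 : Subsingleton (H I 1 M)) :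
    Subsingleton (Ext N M 1) := by
  have hS := injSC_shortExact M
  have hmono : Mono (injSC M).f := hS.mono_f
  let a : H I 0 (injSC M).X₁ →ₗ[R] H I 0 (injSC M).X₂ := ((localCohomology I 0).map (injSC M).f).hom
  let b : H I 0 (injSC M).X₂ →ₗ[R] H I 0 (injSC M).X₃ := ((localCohomology I 0).map (injSC M).g).hom
  have ha : Function.Injective a := map_injective_of_mono I (injSC M).f
  have hker_b : LinearMap.ker b = LinearMap.range a := by
    ext x
    constructor
    · intro hx
      obtain ⟨x₁, hx₁⟩ := exact₂ I 0 hS x (LinearMap.mem_ker.mp hx)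
      exact ⟨x₁, hx₁⟩
    · rintro ⟨x₁, rfl⟩
      exact LinearMap.mem_ker.mpr (map_g_map_f I 0 x₁)
  have hb : Function.Surjective b := by
    intro x
    exact exact₃ I 0 hS x (Subsingleton.elim (h := h1) _ _)
  haveI : Module.Injective R (H I 0 (injSC M).X₁) := h0
  haveI : Module.Injective R (LinearMap.range a) :=
    injective_of_linearEquiv (LinearEquiv.ofInjective a ha)
  haveI : Module.Injective R (LinearMap.ker b) :=
    injective_of_linearEquiv (LinearEquiv.ofEq _ _ hker_b.symm)
  obtain ⟨s₀, hs₀⟩ := exists_section_of_injective_ker b hb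
  refine InjDimResidue.subsingleton_of_forall_eq_zero fun z => ?_
  obtain ⟨z₃, rfl⟩ := Ext.covariant_sequence_exact₁ _ hS z (Ext.eq_zero_of_injective _)
    (zero_add 1)
  obtain ⟨φ, rfl⟩ := (Ext.mk₀_bijective _ _).surjective z₃
  have hmem : ∀ y : N, φ.hom y ∈ DRing.torsionSub I (injSC M).X₃ := by
    intro y
    obtain ⟨t, ht⟩ := hN y
    exact ⟨t, fun r hr => by rw [← map_smul, ht r hr, map_zero]⟩
  let ψl : N →ₗ[R] (injSC M).X₂ :=
    (DRing.torsionSub I (injSC M).X₂).subtype ∘ₗ (H0equiv I (injSC M).X₂).toLinearMap ∘ₗ s₀ ∘ₗ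
      (H0equiv I (injSC M).X₃).symm.toLinearMap ∘ₗ
      (φ.hom.codRestrict (DRing.torsionSub I (injSC M).X₃) hmem)
  have hψ : ModuleCat.ofHom ψl ≫ (injSC M).g = φ := by
    ext y
    have h1 := H0equiv_map I (injSC M).g
      (s₀ ((H0equiv I (injSC M).X₃).symm (φ.hom.codRestrict _ hmem y)))
    have h2 : b (s₀ ((H0equiv I (injSC M).X₃).symm (φ.hom.codRestrict _ hmem y))) =
        (H0equiv I (injSC M).X₃).symm (φ.hom.codRestrict _ hmem y) :=
      LinearMap.congr_fun hs₀ _
    show (injSC M).g.hom (ψl y) = φ.hom y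
    have h3 : ψl y = ((H0equiv I (injSC M).X₂)
        (s₀ ((H0equiv I (injSC M).X₃).symm (φ.hom.codRestrict _ hmem y))) : (injSC M).X₂) := rfl
    rw [h3, ← h1]
    show ((H0equiv I (injSC M).X₃) (b _) : (injSC M).X₃) = _
    rw [h2, LinearEquiv.apply_symm_apply]
    rfl
  rw [← hψ, ← Ext.mk₀_comp_mk₀, Ext.comp_assoc_of_second_deg_zero, hS.comp_extClass,
    Ext.comp_zero]


/-- If all `H^i_I(M)` are injective modules and `H^{s+1}_I(M) = 0` then `Ext^{s+1}(N, M) = 0` for
every `I`-power-torsion module `N`. -/
theorem subsingleton_ext_of_injective_H (N : ModuleCat.{u} R) (hN : IsTors I N) (s : ℕ) :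
    ∀ (M : ModuleCat.{u} R), (∀ i, Module.Injective R (H I i M)) →
      Subsingleton (H I (s + 1) M) → Subsingleton (Ext N M (s + 1)) := by
  induction s with
  | zero =>
    intro M hinj h1
    exact subsingleton_ext_one I M N hN (hinj 0) h1
  | succ s ih =>
    intro M hinj h1
    have hS := injSC_shortExact M
    have hinjZ : ∀ i, Module.Injective R (H I i (injSC M).X₃) := by
      intro i
      cases i with
      | zero =>
        haveI : Module.Injective R (H I 0 (injSC M).X₁) := hinj 0
        haveI : Module.Injective R (H I 1 (injSC M).X₁) := hinj 1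
        exact injective_H0_X₃ I hS
      | succ j =>
        haveI : Module.Injective R (H I (j + 2) (injSC M).X₁) := hinj (j + 2)
        exact injective_of_linearEquiv (δEquiv I hS j).symm
    have h1Z : Subsingleton (H I (s + 1) (injSC M).X₃) :=
      (δEquiv I hS s).toEquiv.subsingleton
    have := ih (injSC M).X₃ hinjZ h1Z
    refine InjDimResidue.subsingleton_of_forall_eq_zero fun z => ?_
    obtain ⟨z₃, rfl⟩ := Ext.covariant_sequence_exact₁ _ hS z (Ext.eq_zero_of_injective _)
      (rfl : s + 1 + 1 = s + 1 + 1)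
    rw [Subsingleton.elim z₃ 0, Ext.zero_comp]


/-- vanishing of local cohomology below the depth -/
theorem subsingleton_H_of_lt_depth (n : ℕ) : ∀ (M : Type u) [AddCommGroup M] [Module R M]
    [Module.Finite R M], I • (⊤ : Submodule R M) ≠ ⊤ → (n : ℕ∞) ≤ LocCoh.idealDepth I M →
    ∀ i, i < n → Subsingleton (H I i (ModuleCat.of R M)) := by
  induction n with
  | zero => intro M _ _ _ _ _ i hi; omega
  | succ n ih =>
    intro M _ _ _ hne h i hi
    obtain ⟨x, hxI, hreg⟩ :=
      Groth.Agent.H72.DepthFinite.exists_isSMulRegular_of_one_le_idealDepth I M hne n h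
    cases i with
    | zero => exact subsingleton_H0_of_isSMulRegular I M hxI hreg
    | succ i =>
      have hne' : I • (⊤ : Submodule R (QuotSMulTop x M)) ≠ ⊤ :=
        Groth.Agent.H15.smul_top_quotSMulTop_ne_top hxI hne
      have hd := Groth.Agent.H15.le_idealDepth_quotSMulTop I M x hxI hreg n h
      have := ih (QuotSMulTop x M) hne' hd i (by omega)
      exact subsingleton_succ_of_isSMulRegular I M hxI hreg i this

end main

end Groth.Agent.H2.LCInjective
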