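import Mathlib
import Groth.Agent.H2.LCInjective

/-!
# `Hom(N, H^n_I(M)) ≃ Ext^n(N, M)` for `I`-power torsion `N`  (helper2)

under the hypotheses that `H^0_I(M)` is an injective module and `H^i_I(M) = 0` for `1 ≤ i < n`.
-/

set_option autoImplicit false
set_option linter.unusedSectionVars false
set_option linter.style.haveILetI false

namespace Groth.Agent.H2.LCHomExt

universe u

open CategoryTheory Abelian Groth.Agent.H58.LC Groth.Agent.H2.InjSplit Groth.Agent.H2.LCInjective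
  Groth.Agent.H2.InjDimQuot

variable {R : Type u} [CommRing R] (I : Ideal R)

/-- for `I`-power torsion `N`: `Hom(N, Γ_I X) ≃ Hom(N, X)` -/
noncomputable def homTorsionEquiv (N X : ModuleCat.{u} R) (hN : IsTors I N) :
    (N →ₗ[R] DRing.torsionSub I X) ≃ₗ[R] (N →ₗ[R] X) where
  toFun φ := (DRing.torsionSub I X).subtype ∘ₗ φ
  invFun φ := φ.codRestrict (DRing.torsionSub I X) (fun y => by
    obtain ⟨t, ht⟩ := hN y
    exact ⟨t, fun r hr => by rw [← map_smul, ht r hr, map_zero]⟩)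
  map_add' φ ψ := by ext y; rfl
  map_smul' r φ := by ext y; rfl
  left_inv φ := by ext y; rfl
  right_inv φ := by ext y; rfl

/-- for `I`-power torsion `N`: `Hom(N, H^0_I(X)) ≃ Hom(N, X)` -/
noncomputable def homH0Equiv (N X : ModuleCat.{u} R) (hN : IsTors I N) :
    (N →ₗ[R] H I 0 X) ≃ₗ[R] (N →ₗ[R] X) :=
  (LinearEquiv.congrRight (H0equiv I X)).trans (homTorsionEquiv I N X hN)

theorem homH0Equiv_apply (N X : ModuleCat.{u} R) (hN : IsTors I N) (φ : N →ₗ[R] H I 0 X) (y : N) :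
    homH0Equiv I N X hN φ y = (H0equiv I X (φ y) : X) := rfl

theorem homH0Equiv_map (N : ModuleCat.{u} R) (hN : IsTors I N) {X Y : ModuleCat.{u} R} (g : X ⟶ Y)
    (φ : N →ₗ[R] H I 0 X) :
    homH0Equiv I N Y hN (((localCohomology I 0).map g).hom ∘ₗ φ) =
      g.hom ∘ₗ homH0Equiv I N X hN φ := by
  ext y
  rw [homH0Equiv_apply, LinearMap.comp_apply, LinearMap.comp_apply, homH0Equiv_apply]
  exact H0equiv_map I g (φ y)

section one

variable [IsNoetherianRing R] {S : ShortComplex (ModuleCat.{u} R)} (hS : S.ShortExact)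
  [hinj : Injective S.X₂] (N : ModuleCat.{u} R) (hN : IsTors I N)

/-- `Hom(N, X₃) → Hom(N, H^1(X₁))` -/
noncomputable def Φ : (N →ₗ[R] S.X₃) →ₗ[R] (N →ₗ[R] H I 1 S.X₁) :=
  (LinearMap.compRight R (δ I 0 hS)) ∘ₗ (homH0Equiv I N S.X₃ hN).symm.toLinearMap

/-- `Hom(N, X₃) → Ext^1(N, X₁)` -/
noncomputable def Ψ : (N →ₗ[R] S.X₃) →ₗ[R] Ext N S.X₁ 1 :=
  (Ext.postcompOfLinear hS.extClass R N (zero_add 1)) ∘ₗ
    (Ext.linearEquiv₀ (R := R)).symm.toLinearMap ∘ₗ
      (ModuleCat.homLinearEquiv (S := R)).symm.toLinearMap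

theorem Ψ_apply (φ : N →ₗ[R] S.X₃) :
    Ψ hS N φ = (Ext.mk₀ (ModuleCat.ofHom φ)).comp hS.extClass (zero_add 1) := rfl

theorem Φ_apply (φ : N →ₗ[R] S.X₃) :
    Φ I hS N hN φ = (δ I 0 hS) ∘ₗ (homH0Equiv I N S.X₃ hN).symm φ := rfl

include hinj in
theorem Ψ_surjective : Function.Surjective (Ψ hS N) := by
  intro z
  obtain ⟨z₃, rfl⟩ := Ext.covariant_sequence_exact₁ _ hS z (Ext.eq_zero_of_injective _)
    (zero_add 1)
  obtain ⟨φ, rfl⟩ := (Ext.mk₀_bijective _ _).surjective z₃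
  exact ⟨φ.hom, rfl⟩

theorem mem_ker_Ψ_iff (φ : N →ₗ[R] S.X₃) :
    φ ∈ LinearMap.ker (Ψ hS N) ↔ ∃ θ : N →ₗ[R] S.X₂, S.g.hom ∘ₗ θ = φ := by
  rw [LinearMap.mem_ker, Ψ_apply]
  constructor
  · intro h
    obtain ⟨x₂, hx₂⟩ := Ext.covariant_sequence_exact₃ _ hS _ rfl h
    obtain ⟨θ, rfl⟩ := (Ext.mk₀_bijective _ _).surjective x₂
    rw [Ext.mk₀_comp_mk₀] at hx₂
    have := (Ext.mk₀_bijective _ _).injective hx₂
    refine ⟨θ.hom, ?_⟩
    have h2 := congrArg ModuleCat.Hom.hom this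
    exact h2
  · rintro ⟨θ, rfl⟩
    have : ModuleCat.ofHom (S.g.hom ∘ₗ θ) = ModuleCat.ofHom θ ≫ S.g := rfl
    rw [this, ← Ext.mk₀_comp_mk₀, Ext.comp_assoc_of_second_deg_zero, hS.comp_extClass,
      Ext.comp_zero]

variable [h1 : Module.Injective R (H I 0 S.X₁)]

include hinj in
theorem Φ_surjective : Function.Surjective (Φ I hS N hN) := by
  intro ψ
  haveI := injective_ker_δ I hS
  obtain ⟨s, hs⟩ := exists_section_of_injective_ker (δ I 0 hS) (δ_zero_surjective I hS)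
  refine ⟨homH0Equiv I N S.X₃ hN (s ∘ₗ ψ), ?_⟩
  rw [Φ_apply, LinearEquiv.symm_apply_apply, ← LinearMap.comp_assoc, hs, LinearMap.id_comp]

include hinj in
theorem mem_ker_Φ_iff (φ : N →ₗ[R] S.X₃) :
    φ ∈ LinearMap.ker (Φ I hS N hN) ↔ ∃ θ : N →ₗ[R] S.X₂, S.g.hom ∘ₗ θ = φ := by
  rw [LinearMap.mem_ker, Φ_apply]
  have hmono : Mono S.f := hS.mono_f
  let a : H I 0 S.X₁ →ₗ[R] H I 0 S.X₂ := ((localCohomology I 0).map S.f).hom
  let b : H I 0 S.X₂ →ₗ[R] H I 0 S.X₃ := ((localCohomology I 0).map S.g).hom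
  constructor
  · intro h
    set φ' := (homH0Equiv I N S.X₃ hN).symm φ with hφ'
    have ha : Function.Injective a := map_injective_of_mono I S.f
    have hker_b : LinearMap.ker b = LinearMap.range a := by
      ext x
      constructor
      · intro hx
        obtain ⟨x₁, hx₁⟩ := exact₂ I 0 hS x (LinearMap.mem_ker.mp hx)
        exact ⟨x₁, hx₁⟩
      · rintro ⟨x₁, rfl⟩
        exact LinearMap.mem_ker.mpr (map_g_map_f I 0 x₁)
    haveI : Module.Injective R (LinearMap.range a) :=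
      injective_of_linearEquiv (LinearEquiv.ofInjective a ha)
    haveI : Module.Injective R (LinearMap.ker b) :=
      injective_of_linearEquiv (LinearEquiv.ofEq _ _ hker_b.symm)
    haveI : Module.Injective R (LinearMap.ker b.rangeRestrict) := by
      rw [LinearMap.ker_rangeRestrict]
      infer_instance
    obtain ⟨s', hs'⟩ := exists_section_of_injective_ker b.rangeRestrict b.surjective_rangeRestrict
    have hmem : ∀ y : N, φ' y ∈ LinearMap.range b := by
      intro y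
      have hy : δ I 0 hS (φ' y) = 0 := LinearMap.congr_fun h y
      obtain ⟨x₂, hx₂⟩ := exact₃ I 0 hS (φ' y) hy
      exact ⟨x₂, hx₂⟩
    let θ' : N →ₗ[R] H I 0 S.X₂ := s' ∘ₗ φ'.codRestrict (LinearMap.range b) hmem
    have hbθ : b ∘ₗ θ' = φ' := by
      ext y
      have := LinearMap.congr_fun hs' (φ'.codRestrict (LinearMap.range b) hmem y)
      exact congrArg Subtype.val this
    refine ⟨homH0Equiv I N S.X₂ hN θ', ?_⟩
    rw [← homH0Equiv_map, hbθ, hφ', LinearEquiv.apply_symm_apply]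
  · rintro ⟨θ, rfl⟩
    set θ' := (homH0Equiv I N S.X₂ hN).symm θ with hθ'
    have : (homH0Equiv I N S.X₃ hN).symm (S.g.hom ∘ₗ θ) = b ∘ₗ θ' := by
      rw [LinearEquiv.symm_apply_eq, homH0Equiv_map, hθ', LinearEquiv.apply_symm_apply]
    rw [this]
    ext y
    exact δ_map_g I 0 hS (θ' y)

include hinj hS hN in
/-- the case `n = 1` -/
theorem exists_linearEquiv_one :
    Nonempty ((N →ₗ[R] H I 1 S.X₁) ≃ₗ[R] Ext N S.X₁ 1) := by
  have hker : LinearMap.ker (Φ I hS N hN) = LinearMap.ker (Ψ hS N) := by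
    ext φ
    rw [mem_ker_Φ_iff, mem_ker_Ψ_iff]
  exact ⟨((Φ I hS N hN).quotKerEquivOfSurjective (Φ_surjective I hS N hN)).symm.trans
    ((Submodule.quotEquivOfEq _ _ hker).trans
      ((Ψ hS N).quotKerEquivOfSurjective (Ψ_surjective hS N)))⟩

end one

section main

variable [IsNoetherianRing R]

/-- **`Hom(N, H^n_I(M)) ≃ Ext^n(N, M)`** for `I`-power torsion `N`, provided `H^0_I(M)` is an
injective module and `H^i_I(M) = 0` for `1 ≤ i < n`. -/
theorem exists_linearEquiv_hom_H (N : ModuleCat.{u} R) (hN : IsTors I N) (n : ℕ) :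
    ∀ (M : ModuleCat.{u} R), Module.Injective R (H I 0 M) →
      (∀ i, 1 ≤ i → i < n → Subsingleton (H I i M)) →
      Nonempty ((N →ₗ[R] H I n M) ≃ₗ[R] Ext N M n) := by
  induction n using Nat.twoStepInduction with
  | zero =>
    intro M _ _
    exact ⟨(homH0Equiv I N M hN).trans ((ModuleCat.homLinearEquiv (S := R)).symm.trans
      (Ext.linearEquiv₀ (R := R)).symm)⟩
  | one =>
    intro M h0 _
    have hS := injSC_shortExact M
    haveI : Module.Injective R (H I 0 (injSC M).X₁) := h0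
    exact exists_linearEquiv_one I hS N hN
  | more n _ ih =>
    intro M h0 hvan
    have hS := injSC_shortExact M
    haveI : Module.Injective R (H I 0 (injSC M).X₁) := h0
    haveI : Subsingleton (H I 1 (injSC M).X₁) := hvan 1 le_rfl (by omega)
    haveI : Module.Injective R (H I 1 (injSC M).X₁) := injective_of_subsingleton _
    have h03 : Module.Injective R (H I 0 (injSC M).X₃) := injective_H0_X₃ I hS
    have hvan3 : ∀ i, 1 ≤ i → i < n + 1 → Subsingleton (H I i (injSC M).X₃) := by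
      intro i hi hin
      obtain ⟨j, rfl⟩ : ∃ j, i = j + 1 := ⟨i - 1, by omega⟩
      have := hvan (j + 2) (by omega) (by omega)
      exact (δEquiv I hS j).toEquiv.subsingleton
    obtain ⟨e⟩ := ih (injSC M).X₃ h03 hvan3
    have e1 : (N →ₗ[R] H I (n + 2) M) ≃ₗ[R] (N →ₗ[R] H I (n + 1) (injSC M).X₃) :=
      LinearEquiv.congrRight (δEquiv I hS n).symm
    have e3 : Ext N (injSC M).X₃ (n + 1) ≃ₗ[R] Ext N M (n + 2) := by
      refine LinearEquiv.ofBijective
        (Ext.postcompOfLinear hS.extClass R N (rfl : n + 1 + 1 = n + 2)) ⟨?_, ?_⟩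
      · rw [injective_iff_map_eq_zero]
        intro y hy
        obtain ⟨y₂, rfl⟩ := Ext.covariant_sequence_exact₃ _ hS y rfl hy
        rw [Ext.eq_zero_of_injective y₂, Ext.zero_comp]
      · intro z
        obtain ⟨y, hy⟩ := Ext.covariant_sequence_exact₁ _ hS z (Ext.eq_zero_of_injective _) rfl
        exact ⟨y, hy⟩
    exact ⟨e1.trans (e.trans e3)⟩

end main

end Groth.Agent.H2.LCHomExt
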