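import Groth.Agent.H2.MatlisBaseChange

set_option autoImplicit false
set_option linter.unusedSectionVars false
universe u

namespace Groth.Agent.H2.MatlisChar

open IsLocalRing Groth.Agent.H2.MatlisEnd Groth.Agent.H2.MatlisLength
  Groth.Agent.H2.MatlisBaseChange

/-- `Hom(A/J, M) ≃ M[J]` -/
noncomputable def homQuotEquivTorsion {A : Type*} [CommRing A] (J : Ideal A) (M : Type*)
    [AddCommGroup M] [Module A M] :
    ((A ⧸ J) →ₗ[A] M) ≃ₗ[A] Submodule.torsionBySet A M (J : Set A) :=
  LinearEquiv.ofBijective
    ((LinearMap.applyₗ (1 : A ⧸ J)).codRestrict (Submodule.torsionBySet A M (J : Set A))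
      (fun ψ => by
        rw [Submodule.mem_torsionBySet_iff]
        rintro ⟨a, ha⟩
        rw [LinearMap.applyₗ_apply_apply, ← map_smul]
        have : a • (1 : A ⧸ J) = 0 := by
          rw [Algebra.smul_def, mul_one]
          exact Ideal.Quotient.eq_zero_iff_mem.mpr ha
        rw [this, map_zero]))
    (by
      constructor
      · intro ψ₁ ψ₂ h
        have h1 : ψ₁ 1 = ψ₂ 1 := congrArg Subtype.val h
        ext
        simpa using h1
      · rintro ⟨x, hx⟩
        have hker : J ≤ LinearMap.ker (LinearMap.toSpanSingleton A M x) := by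
          intro a ha
          rw [LinearMap.mem_ker, LinearMap.toSpanSingleton_apply]
          exact (Submodule.mem_torsionBySet_iff _ _).mp hx ⟨a, ha⟩
        refine ⟨Submodule.liftQ J (LinearMap.toSpanSingleton A M x) hker, Subtype.ext ?_⟩
        change Submodule.liftQ J (LinearMap.toSpanSingleton A M x) hker
            (Submodule.Quotient.mk (1 : A)) = x
        rw [Submodule.liftQ_apply, LinearMap.toSpanSingleton_apply, one_smul])

variable {A : Type u} [CommRing A] [IsLocalRing A]

/-- a power-torsion module with simple socle embeds into `E(k)` -/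
lemma exists_embedding_of_simple_socle {T : Type u} [AddCommGroup T] [Module A T]
    (hPT : LocCoh.IsPowerTorsion (maximalIdeal A) T)
    (hsimple : IsSimpleModule A (LocCoh.torsionBy (maximalIdeal A) T))
    {E : Type u} [AddCommGroup E] [Module A E] (f : ResidueField A →ₗ[A] E)
    (hf : InjHull.IsInjectiveHull f) : ∃ g : T →ₗ[A] E, Function.Injective g := by
  have hess := Groth.Agent.H2.isEssentialInj_torsionBy_of_isPowerTorsion (maximalIdeal A) T hPT
  obtain ⟨m, hmax, ⟨σ⟩⟩ := isSimpleModule_iff_quot_maximal.mp hsimple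
  obtain rfl := IsLocalRing.eq_maximalIdeal hmax
  let σ' : (LocCoh.torsionBy (maximalIdeal A) T) ≃ₗ[A] ResidueField A := σ
  have := hf.isInjective
  let g₀ : (LocCoh.torsionBy (maximalIdeal A) T) →ₗ[A] E :=
    LinearMap.comp f (σ' : _ →ₗ[A] ResidueField A)
  have hg₀ : Function.Injective g₀ := hf.injective.comp σ'.injective
  obtain ⟨g, hg⟩ := Module.Injective.extension_property A E
    (LocCoh.torsionBy (maximalIdeal A) T) T
    (LocCoh.torsionBy (maximalIdeal A) T).subtype
    (Submodule.injective_subtype _) g₀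
  refine ⟨g, ?_⟩
  refine injective_of_comp_injective_of_isEssentialInj _ hess g ?_
  have : g ∘ₗ (LocCoh.torsionBy (maximalIdeal A) T).subtype = g₀ := hg
  rw [this]
  exact hg₀

variable [IsNoetherianRing A]

/-- S11174: recognising the injective hull of the residue field by lengths. -/
theorem isInjectiveHull_of_length (I : Type u) [AddCommGroup I] [Module A I]
    (ha : LocCoh.IsPowerTorsion (maximalIdeal A) I)
    (hb : Nonempty ((ResidueField A →ₗ[A] I) ≃ₗ[A] ResidueField A))
    (a : ℕ → Ideal A)
    (hcof : ∀ n : ℕ, ∃ N : ℕ, maximalIdeal A ^ N ≤ a n)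
    (hcof' : ∀ N : ℕ, ∃ n : ℕ, a n ≤ maximalIdeal A ^ N)
    (hlen : ∀ n : ℕ, Module.length A (A ⧸ a n) = Module.length A ((A ⧸ a n) →ₗ[A] I)) :
    ∃ f : ResidueField A →ₗ[A] I, InjHull.IsInjectiveHull f := by
  obtain ⟨E, _, _, fE, hfE⟩ := Groth.Agent.H2.exists_isInjectiveHull (R := A) (ResidueField A)
  -- the socle is simple
  have hsimple : IsSimpleModule A (LocCoh.torsionBy (maximalIdeal A) I) := by
    obtain ⟨e⟩ := hb
    have e1 : (LocCoh.torsionBy (maximalIdeal A) I) ≃ₗ[A] ResidueField A :=
      (homQuotEquivTorsion (maximalIdeal A) I).symm.trans e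
    have : IsSimpleModule A (ResidueField A) :=
      isSimpleModule_iff_quot_maximal.mpr ⟨_, inferInstance, ⟨LinearEquiv.refl _ _⟩⟩
    exact IsSimpleModule.congr e1
  obtain ⟨g, hg⟩ := exists_embedding_of_simple_socle ha hsimple fE hfE
  have hsurj : Function.Surjective g := by
    intro y
    obtain ⟨N, hN⟩ := iSup_tors_eq_top fE hfE y
    obtain ⟨n, hn⟩ := hcof' N
    obtain ⟨N', hN'⟩ := hcof n
    let P : Submodule A I := Submodule.torsionBySet A I (a n : Set A)
    let Q : Submodule A E := Submodule.torsionBySet A E (a n : Set A)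
    have hyQ : y ∈ Q := by
      rw [Submodule.mem_torsionBySet_iff]
      rintro ⟨r, hr⟩
      exact mem_tors.mp hN r (hn hr)
    have hPQ : ∀ x ∈ P, g x ∈ Q := by
      intro x hx
      rw [Submodule.mem_torsionBySet_iff] at hx ⊢
      intro r
      rw [← map_smul, hx r, map_zero]
    let gn : P →ₗ[A] Q := g.restrict hPQ
    have hgn : Function.Injective gn := by
      intro x x' hxx
      apply Subtype.ext
      apply hg
      exact congrArg Subtype.val hxx
    have hfinq : IsFiniteLength A (A ⧸ a n) :=
      (isFiniteLength_quotient_pow (R := A) N').of_surjective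
        (f := Submodule.factor hN') (Submodule.factor_surjective hN')
    have hlenQ : Module.length A Q = Module.length A (A ⧸ a n) := by
      rw [← (homQuotEquivTorsion (a n) E).length_eq]
      exact length_dual_eq fE hfE hfinq
    have hlenP : Module.length A P = Module.length A (A ⧸ a n) := by
      rw [← (homQuotEquivTorsion (a n) I).length_eq, hlen n]
    have hfinQ : IsFiniteLength A Q := by
      rw [← Module.length_ne_top_iff, hlenQ, Module.length_ne_top_iff]
      exact hfinq
    have hle : Module.length A Q ≤ Module.length A P := by rw [hlenQ, hlenP]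
    obtain ⟨x, hx⟩ := surjective_of_injective_of_length_le gn hgn hfinQ hle ⟨y, hyQ⟩
    exact ⟨x.1, congrArg Subtype.val hx⟩
  let e : I ≃ₗ[A] E := LinearEquiv.ofBijective g ⟨hg, hsurj⟩
  exact ⟨e.symm.toLinearMap ∘ₗ fE, isInjectiveHull_of_linearEquiv fE hfE e.symm⟩

end Groth.Agent.H2.MatlisChar
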