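import Mathlib
import Groth.Agent.H2.InjDimResidue

/-!
# The Rees isomorphism `Ext^n(N, M) ≃ Hom(N, M/(x)M)`  (helper2)

for an `M`-regular sequence `x` of length `n` annihilating `N`.
-/

set_option autoImplicit false

namespace Groth.Agent.H2.ReesIso

universe u

open CategoryTheory Abelian RingTheory.Sequence

variable {R : Type u} [CommRing R]

/-- one step: if `a` is `M`-regular, kills `N`, and `Ext^i(N, M) = 0`, then
`Ext^i(N, M/aM) ≃ Ext^{i+1}(N, M)`. -/
theorem exists_linearEquiv_succ (N M : ModuleCat.{u} R) (a : R) (hreg : IsSMulRegular M a)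
    (ha : a • 𝟙 N = 0) (i : ℕ) (hi : Subsingleton (Ext N M i)) :
    Nonempty (Ext N (ModuleCat.of R (QuotSMulTop a M)) i ≃ₗ[R] Ext N M (i + 1)) := by
  have hS : (M.smulShortComplex a).ShortExact :=
    IsSMulRegular.smulShortComplex_shortExact (M := M) hreg
  refine ⟨LinearEquiv.ofBijective
    (Ext.postcompOfLinear hS.extClass R N (rfl : i + 1 = i + 1)) ⟨?_, ?_⟩⟩
  · rw [injective_iff_map_eq_zero]
    intro y hy
    obtain ⟨y₂, rfl⟩ := Ext.covariant_sequence_exact₃ _ hS y rfl hy
    have h0 : y₂ = 0 := Subsingleton.elim (h := hi) y₂ 0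
    rw [h0, Ext.zero_comp]
  · intro z
    have key : ∀ w : Ext N M (i + 1), w.comp (Ext.mk₀ (a • 𝟙 M)) (add_zero (i + 1)) = 0 := by
      intro w
      rw [Ext.mk₀_smul, Ext.comp_smul, Ext.comp_mk₀_id]
      have : a • w = (Ext.mk₀ (a • 𝟙 N)).comp w (zero_add _) := by
        rw [Ext.mk₀_smul, Ext.smul_comp, Ext.mk₀_id_comp]
      rw [this, ha, Ext.mk₀_zero, Ext.zero_comp]
    have hz : z.comp (Ext.mk₀ (M.smulShortComplex a).f) (add_zero (i + 1)) = 0 := key z
    obtain ⟨y, hy⟩ := Ext.covariant_sequence_exact₁ _ hS z hz rfl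
    exact ⟨y, hy⟩

theorem smul_eq_zero_of_smul_id_eq_zero {N : ModuleCat.{u} R} {r : R} (h : r • 𝟙 N = 0) (y : N) :
    r • y = 0 := by
  have := congrArg (fun f => f.hom y) h
  exact this

/-- **Rees isomorphism.** -/
theorem exists_linearEquiv_hom [IsNoetherianRing R] (N : ModuleCat.{u} R) [Module.Finite R N]
    (n : ℕ) : ∀ (M : Type u) [AddCommGroup M] [Module R M] [Module.Finite R M] (rs : List R),
      rs.length = n → IsRegular M rs → (∀ r ∈ rs, r • 𝟙 N = 0) →
      Nonempty (Ext N (ModuleCat.of R M) n ≃ₗ[R]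
        (N →ₗ[R] M ⧸ (Ideal.ofList rs • (⊤ : Submodule R M)))) := by
  induction n with
  | zero =>
    intro M _ _ _ rs hlen _ _
    obtain rfl : rs = [] := List.length_eq_zero_iff.mp hlen
    have hbot : (Ideal.ofList ([] : List R) • (⊤ : Submodule R M)) = ⊥ := by
      rw [Ideal.ofList_nil, Submodule.bot_smul]
    exact ⟨(Ext.linearEquiv₀ (R := R)).trans (ModuleCat.homLinearEquiv.trans
      (LinearEquiv.congrRight (Submodule.quotEquivOfEqBot _ hbot).symm))⟩
  | succ n ih =>
    intro M _ _ _ rs hlen hreg hkill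
    match rs, hlen, hreg, hkill with
    | a :: rs', hlen, hreg, hkill =>
      have hlen' : rs'.length = n := by simpa using hlen
      have hreg' := (isRegular_cons_iff M a rs').mp hreg
      -- vanishing of `Ext^n(N, M)`
      have hvan : Subsingleton (Ext N (ModuleCat.of R M) n) := by
        apply ModuleCat.subsingleton_ext_of_exists_isRegular (Ideal.ofList (a :: rs')) N ?_
          (ModuleCat.of R M) ?_ (a :: rs') (fun r hr => Ideal.subset_span hr) hreg n
          (by rw [hlen]; omega)
        · intro p hp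
          rw [Module.mem_support_iff_of_finite] at hp
          rw [PrimeSpectrum.mem_zeroLocus]
          refine le_trans ?_ hp
          rw [SetLike.coe_subset_coe]
          unfold Ideal.ofList
          rw [Ideal.span_le]
          intro r hr
          rw [SetLike.mem_coe, Module.mem_annihilator]
          exact fun y => smul_eq_zero_of_smul_id_eq_zero (hkill r hr) y
        · exact lt_of_le_of_ne le_top hreg.top_ne_smul.symm
      obtain ⟨e1⟩ := exists_linearEquiv_succ N (ModuleCat.of R M) a hreg'.1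
        (hkill a (by simp)) n hvan
      obtain ⟨e2⟩ := ih (QuotSMulTop a M) rs' hlen' hreg'.2
        (fun r hr => hkill r (List.mem_cons_of_mem _ hr))
      exact ⟨e1.symm.trans (e2.trans (LinearEquiv.congrRight
        (Submodule.quotOfListConsSMulTopEquivQuotSMulTopInner M a rs').symm))⟩

end Groth.Agent.H2.ReesIso
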