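import Mathlib
import Groth.Agent.H2.ReesIso
import Groth.Agent.H2.ExtLength
import Groth.Agent.H2.LCHomExt
import Groth.Agent.H2.GorensteinExt
import Groth.Agent.H2.MatlisChar
import Groth.Agent.H17.DimParam

/-!
# The type of a Gorenstein local ring is one; `H^d_m(A)` is the injective hull of `κ`  (helper2)
-/

set_option autoImplicit false
set_option linter.unusedSectionVars false
set_option linter.style.haveILetI false

namespace Groth.Agent.H2.GorensteinType

universe u

open CategoryTheory Abelian IsLocalRing RingTheory.Sequence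

variable (A : Type u) [CommRing A] [LocCoh.IsGorensteinLocalRing A] (d : ℕ)
  (hd : ringKrullDim A = d)

include hd in
/-- a Gorenstein local ring has type one: `ℓ(Ext^d(κ, A)) = 1` -/
theorem length_ext_residueField :
    Module.length A (Ext (ModuleCat.of A (ResidueField A)) (ModuleCat.of A A) d) = 1 := by
  obtain ⟨hk, hnt⟩ := GorensteinExt.ext_residueField_of_gorenstein A d hd
  have hdepth := GorensteinExt.depth_eq_of_gorenstein A d hd
  have hne : maximalIdeal A • (⊤ : Submodule A A) ≠ ⊤ := Groth.Agent.H29.CML.smul_top_ne_top A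
  obtain ⟨rs, hlen, hmem, hreg⟩ :=
    Groth.Agent.H15.exists_isRegular_of_le_idealDepth (maximalIdeal A) A hne d
      (le_of_eq hdepth.symm)
  set J : Submodule A A := Ideal.ofList rs • (⊤ : Submodule A A) with hJ
  -- `A/J` has finite length
  have hdim := Module.supportDim_add_length_eq_supportDim_of_isRegular rs hreg
  rw [Module.supportDim_self_eq_ringKrullDim, hd, hlen] at hdim
  have hfl : IsFiniteLength A (A ⧸ J) := by
    rw [Groth.Agent.H17.isFiniteLength_iff_supportDim_le_zero]
    cases hx : Module.supportDim A (A ⧸ J) with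
    | bot => exact bot_le
    | coe x =>
      rw [hx] at hdim
      have h2 : x + (d : ℕ∞) = d := by exact_mod_cast hdim
      cases x with
      | top => simp at h2
      | coe x =>
        have : x + d = d := by exact_mod_cast h2
        have : x = 0 := by omega
        subst this
        exact le_rfl
  have hnt' : Nontrivial (A ⧸ J) := Submodule.Quotient.nontrivial_iff.mpr hreg.top_ne_smul.symm
  -- Rees
  have hkill : ∀ r ∈ rs, r • 𝟙 (ModuleCat.of A (A ⧸ J)) = 0 := by
    intro r hr
    apply ModuleCat.hom_ext
    apply LinearMap.ext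
    intro y
    obtain ⟨a, rfl⟩ := Submodule.Quotient.mk_surjective _ y
    show r • (Submodule.Quotient.mk a : A ⧸ J) = 0
    rw [← Submodule.Quotient.mk_smul, Submodule.Quotient.mk_eq_zero]
    exact Submodule.smul_mem_smul (Ideal.subset_span hr) Submodule.mem_top
  obtain ⟨e⟩ := ReesIso.exists_linearEquiv_hom (ModuleCat.of A (A ⧸ J)) d A rs hlen hreg hkill
  have hl1 : Module.length A (Ext (ModuleCat.of A (A ⧸ J)) (ModuleCat.of A A) d) =
      Module.length A (A ⧸ J) := by
    rw [e.length_eq]
    have e2 := MatlisChar.homQuotEquivTorsion (A := A) J (A ⧸ J)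
    have htop : Submodule.torsionBySet A (A ⧸ J) (J : Set A) = ⊤ := by
      rw [eq_top_iff]
      intro y _
      rw [Submodule.mem_torsionBySet_iff]
      rintro ⟨a, ha⟩
      obtain ⟨b, rfl⟩ := Submodule.Quotient.mk_surjective _ y
      show a • (Submodule.Quotient.mk b : A ⧸ J) = 0
      rw [← Submodule.Quotient.mk_smul, Submodule.Quotient.mk_eq_zero, smul_eq_mul]
      exact Ideal.mul_mem_right b J ha
    have e3 : ((A ⧸ J) →ₗ[A] (A ⧸ J)) ≃ₗ[A] (A ⧸ J) :=
      e2.trans ((LinearEquiv.ofEq _ _ htop).trans Submodule.topEquiv)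
    exact e3.length_eq
  have hl2 := (ExtLength.ext_of_isFiniteLength (ModuleCat.of A A) d hk (A ⧸ J) hfl).2
  rw [hl1] at hl2
  have hne0 : Module.length A (A ⧸ J) ≠ 0 := by
    rw [Ne, Module.length_eq_zero_iff]
    exact not_subsingleton _
  have hnetop : Module.length A (A ⧸ J) ≠ ⊤ := Module.length_ne_top_iff.mpr hfl
  set r := Module.length A (Ext (ModuleCat.of A (ResidueField A)) (ModuleCat.of A A) d) with hr
  set l := Module.length A (A ⧸ J) with hl
  clear_value r l
  cases l with
  | top => exact absurd rfl hnetop
  | coe l =>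
    cases r with
    | top =>
      rw [ENat.mul_top hne0] at hl2
      exact absurd hl2 (ENat.natCast_ne_top l)
    | coe r =>
      have h3 : l = l * r := by exact_mod_cast hl2
      have hl0 : l ≠ 0 := by exact_mod_cast hne0
      have : r = 1 := by
        have h4 : l * 1 = l * r := by rw [mul_one]; exact h3
        exact (Nat.eq_of_mul_eq_mul_left (Nat.pos_of_ne_zero hl0) h4).symm
      rw [this]
      rfl

/-- local notation -/
noncomputable abbrev Htop : ModuleCat.{u} A :=
  LCInjective.H (maximalIdeal A) d (ModuleCat.of A A)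

include hd in
theorem subsingleton_H_of_lt (i : ℕ) (hi : i < d) :
    Subsingleton (LCInjective.H (maximalIdeal A) i (ModuleCat.of A A)) := by
  have hne : maximalIdeal A • (⊤ : Submodule A A) ≠ ⊤ := Groth.Agent.H29.CML.smul_top_ne_top A
  have hdepth := GorensteinExt.depth_eq_of_gorenstein A d hd
  exact LCInjective.subsingleton_H_of_lt_depth (maximalIdeal A) d A hne (le_of_eq hdepth.symm) i hi

include hd in
theorem injective_H0 :
    Module.Injective A (LCInjective.H (maximalIdeal A) 0 (ModuleCat.of A A)) := by
  have hlt := GorensteinCM.hasInjectiveDimensionLT_of_ringKrullDim A d hd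
  rcases Nat.eq_zero_or_pos d with h0 | hpos
  · subst h0
    haveI : Injective (ModuleCat.of A A) := injective_iff_hasInjectiveDimensionLT_one.mpr hlt
    exact LCInjective.injective_H0_of_injective _ _
  · haveI := subsingleton_H_of_lt A d hd 0 hpos
    exact InjSplit.injective_of_subsingleton _

include hd in
theorem injective_Htop : Module.Injective A (Htop A d) := by
  have hlt := GorensteinCM.hasInjectiveDimensionLT_of_ringKrullDim A d hd
  exact LCInjective.injective_H (maximalIdeal A) d (ModuleCat.of A A) hlt (injective_H0 A d hd)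
    (fun i _ hi => subsingleton_H_of_lt A d hd i hi)

theorem isTors_residueField :
    Groth.Agent.H58.LC.IsTors (maximalIdeal A) (ModuleCat.of A (ResidueField A)) := by
  intro y
  refine ⟨1, fun a ha => ?_⟩
  rw [pow_one] at ha
  obtain ⟨b, rfl⟩ := residue_surjective y
  show a • residue A b = 0
  rw [Algebra.smul_def]
  show residue A a * residue A b = 0
  rw [(residue_eq_zero_iff _).mpr ha, zero_mul]

include hd in
/-- the socle of `H^d_m(A)` has length one -/
theorem length_hom_residueField_Htop :
    Module.length A (ResidueField A →ₗ[A] Htop A d) = 1 := by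
  obtain ⟨e⟩ := LCHomExt.exists_linearEquiv_hom_H (maximalIdeal A)
    (ModuleCat.of A (ResidueField A)) (isTors_residueField A) d (ModuleCat.of A A)
    (injective_H0 A d hd) (fun i _ hi => subsingleton_H_of_lt A d hd i hi)
  have := e.length_eq
  rw [length_ext_residueField A d hd] at this
  exact this

include hd in
/-- **`H^d_m(A)` is an injective hull of the residue field** of the Gorenstein local ring `A` of
dimension `d`. -/
theorem exists_isInjectiveHull :
    ∃ g : ResidueField A →ₗ[A] Htop A d, InjHull.IsInjectiveHull g := by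
  have hPT : LocCoh.IsPowerTorsion (maximalIdeal A) (Htop A d) :=
    Groth.Agent.H58.LC.isTors_H (maximalIdeal A) d (ModuleCat.of A A)
  have hess := Groth.Agent.H2.isEssentialInj_torsionBy_of_isPowerTorsion (maximalIdeal A)
    (Htop A d) hPT
  have hlen : Module.length A (LocCoh.torsionBy (maximalIdeal A) (Htop A d)) = 1 := by
    rw [← (MatlisChar.homQuotEquivTorsion (maximalIdeal A) (Htop A d)).length_eq]
    exact length_hom_residueField_Htop A d hd
  have hsimple : IsSimpleModule A (LocCoh.torsionBy (maximalIdeal A) (Htop A d)) :=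
    Module.length_eq_one_iff.mp hlen
  obtain ⟨m, hmax, ⟨σ⟩⟩ := isSimpleModule_iff_quot_maximal.mp hsimple
  obtain rfl := IsLocalRing.eq_maximalIdeal hmax
  let σ' : (LocCoh.torsionBy (maximalIdeal A) (Htop A d)) ≃ₗ[A] ResidueField A := σ
  refine ⟨(LocCoh.torsionBy (maximalIdeal A) (Htop A d)).subtype ∘ₗ σ'.symm.toLinearMap,
    ⟨⟨hess.injective.comp σ'.symm.injective, fun N hN => ?_⟩, injective_Htop A d hd⟩⟩
  have : LinearMap.range ((LocCoh.torsionBy (maximalIdeal A) (Htop A d)).subtype ∘ₗ
      σ'.symm.toLinearMap) = LinearMap.range (LocCoh.torsionBy (maximalIdeal A) (Htop A d)).subtype :=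
    LinearMap.range_comp_of_range_eq_top _ (LinearEquiv.range _)
  rw [this]
  exact hess.essential N hN

end Groth.Agent.H2.GorensteinType
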