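import Mathlib
import Groth.Agent.H2.LCInjective

/-!
# Annihilators of local cohomology below the depth (Faltings-type lemmas)  (helper2)
-/

set_option autoImplicit false
set_option linter.unusedSectionVars false
set_option linter.style.haveILetI false

namespace Groth.Agent.H2.LCAnnih

universe u

open CategoryTheory Abelian Groth.Agent.H58.LC

/-- if the localizations of two finitely presented modules are isomorphic, there are maps
`φ : F → M`, `ψ : M → F` with `φ ∘ ψ = s • id` for some `s ∈ S`. -/
theorem exists_split_of_equiv {R : Type*} [CommRing R] (S : Submonoid R)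
    {F M F' M' : Type*} [AddCommGroup F] [Module R F] [AddCommGroup M] [Module R M]
    [AddCommGroup F'] [Module R F'] [AddCommGroup M'] [Module R M']
    (f : F →ₗ[R] F') [IsLocalizedModule S f] (g : M →ₗ[R] M') [IsLocalizedModule S g]
    [Module.FinitePresentation R F] [Module.FinitePresentation R M]
    (e : F' ≃ₗ[R] M') :
    ∃ (s : S) (φ : F →ₗ[R] M) (ψ : M →ₗ[R] F), φ ∘ₗ ψ = (s : R) • LinearMap.id := by
  obtain ⟨φ, s₀, hφ⟩ := Module.FinitePresentation.exists_lift_of_isLocalizedModule S g
    (e.toLinearMap ∘ₗ f)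
  obtain ⟨ψ, t₀, hψ⟩ := Module.FinitePresentation.exists_lift_of_isLocalizedModule S f
    (e.symm.toLinearMap ∘ₗ g)
  have H : g ∘ₗ (φ ∘ₗ ψ) = g ∘ₗ (((s₀ * t₀ : S) : R) • LinearMap.id) := by
    ext m
    have h1 : g (φ (ψ m)) = (s₀ : R) • e (f (ψ m)) := LinearMap.congr_fun hφ (ψ m)
    have h2 : f (ψ m) = (t₀ : R) • e.symm (g m) := LinearMap.congr_fun hψ m
    simp only [LinearMap.comp_apply, LinearMap.smul_apply, LinearMap.id_apply]
    rw [h1, h2, map_smul, e.apply_symm_apply, map_smul, Submonoid.coe_mul, mul_smul]
  obtain ⟨s₁, hs₁⟩ := Module.Finite.exists_smul_of_comp_eq_of_isLocalizedModule S g _ _ H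
  refine ⟨s₁ * (s₀ * t₀), (s₁ : R) • φ, ψ, ?_⟩
  rw [LinearMap.smul_comp, Submonoid.coe_mul, mul_smul]
  exact hs₁

variable {R : Type u} [CommRing R] [IsNoetherianRing R]

/-- if `ψ ≫ φ = s • 𝟙` and `H^i_I(F) = 0` then `s` kills `H^i_I(M)`. -/
theorem smul_eq_zero_of_split (I : Ideal R) (i : ℕ) {F M : ModuleCat.{u} R} (φ : F ⟶ M)
    (ψ : M ⟶ F) (s : R) (h : ψ ≫ φ = s • 𝟙 M)
    [Subsingleton ((localCohomology I i).obj F)] (x : (localCohomology I i).obj M) :
    s • x = 0 := by
  have h1 : ((localCohomology I i).map (s • 𝟙 M)).hom x = s • x := by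
    rw [map_smul', CategoryTheory.Functor.map_id]; rfl
  rw [← h1, ← h, Functor.map_comp]
  change ((localCohomology I i).map φ).hom (((localCohomology I i).map ψ).hom x) = 0
  rw [Subsingleton.elim (((localCohomology I i).map ψ).hom x) 0, map_zero]

theorem map_sum' (I : Ideal R) (i : ℕ) {M N : ModuleCat.{u} R} {ι : Type*} (t : Finset ι)
    (g : ι → (M ⟶ N)) (x : (localCohomology I i).obj M) :
    ((localCohomology I i).map (∑ j ∈ t, g j)).hom x =
      ∑ j ∈ t, ((localCohomology I i).map (g j)).hom x := by
  classical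
  induction t using Finset.induction_on with
  | empty => simp [map_zero']
  | insert a t ha ih => rw [Finset.sum_insert ha, Finset.sum_insert ha, map_add', ih]

/-- `H^i_I` of a finite free module vanishes if `H^i_I(R)` does. -/
theorem subsingleton_H_finsupp (I : Ideal R) (i : ℕ) (ι : Type u) [Finite ι]
    [Subsingleton ((localCohomology I i).obj (ModuleCat.of R R))] :
    Subsingleton ((localCohomology I i).obj (ModuleCat.of R (ι →₀ R))) := by
  classical
  haveI := Fintype.ofFinite ι
  have hid : 𝟙 (ModuleCat.of R (ι →₀ R)) = ∑ j : ι,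
      ((ModuleCat.ofHom (Finsupp.lapply (R := R) (M := R) j) : ModuleCat.of R (ι →₀ R) ⟶
        ModuleCat.of R R) ≫ ModuleCat.ofHom (Finsupp.lsingle (R := R) (M := R) j)) := by
    apply ModuleCat.hom_ext
    apply LinearMap.ext
    intro v
    rw [ModuleCat.hom_sum]
    simp only [ModuleCat.hom_id, LinearMap.id_coe, id_eq, ModuleCat.hom_comp, ModuleCat.hom_ofHom]
    rw [LinearMap.sum_apply]
    simp only [LinearMap.coe_comp, Function.comp_apply, Finsupp.lapply_apply,
      Finsupp.lsingle_apply]
    exact (Finsupp.univ_sum_single v).symm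
  have h0 : ∀ z : (localCohomology I i).obj (ModuleCat.of R (ι →₀ R)), z = 0 := by
    intro z
    have : ((localCohomology I i).map (𝟙 (ModuleCat.of R (ι →₀ R)))).hom z = z := by
      rw [CategoryTheory.Functor.map_id]; rfl
    rw [← this, hid, map_sum']
    apply Finset.sum_eq_zero
    intro j _
    rw [Functor.map_comp]
    change ((localCohomology I i).map _).hom (((localCohomology I i).map _).hom z) = 0
    rw [Subsingleton.elim (((localCohomology I i).map
      (ModuleCat.ofHom (Finsupp.lapply (R := R) (M := R) j))).hom z) 0, map_zero]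
  exact ⟨fun x y => by rw [h0 x, h0 y]⟩

/-- `H^i_b(R) = 0` below the `b`-depth of `R` -/
theorem subsingleton_H_self (b : Ideal R) (hb : b ≠ ⊤) (i : ℕ)
    (hi : (i : ℕ∞) < LocCoh.idealDepth b R) :
    Subsingleton ((localCohomology b i).obj (ModuleCat.of R R)) := by
  have hne : b • (⊤ : Submodule R R) ≠ ⊤ := by
    rw [smul_eq_mul, Ideal.mul_top]; exact hb
  have hle : ((i + 1 : ℕ) : ℕ∞) ≤ LocCoh.idealDepth b R := by
    exact_mod_cast Order.add_one_le_of_lt hi
  exact Groth.Agent.H2.LCInjective.subsingleton_H_of_lt_depth (I := b) (i + 1) R hne hle i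
    (Nat.lt_succ_self i)

/-- **S11655 (without nontriviality).** -/
theorem exists_annihilator_of_free (M : Type u) [AddCommGroup M] [Module R M] [Module.Finite R M]
    (p : Ideal R) [p.IsPrime]
    [Module.Free (Localization.AtPrime p) (LocalizedModule p.primeCompl M)] :
    ∃ s : R, s ∉ p ∧ ∀ (b : Ideal R), b ≠ ⊤ → ∀ (i : ℕ), (i : ℕ∞) < LocCoh.idealDepth b R →
      ∀ x : LocCoh.H b i M, s • x = 0 := by
  haveI : Module.FinitePresentation R M := Module.finitePresentation_of_finite R M
  haveI : Module.Finite (Localization.AtPrime p) (LocalizedModule p.primeCompl M) :=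
    inferInstance
  set ι := Module.Free.ChooseBasisIndex (Localization.AtPrime p) (LocalizedModule p.primeCompl M)
  let bs := Module.Free.chooseBasis (Localization.AtPrime p) (LocalizedModule p.primeCompl M)
  let e : (ι →₀ Localization.AtPrime p) ≃ₗ[R] LocalizedModule p.primeCompl M :=
    (bs.repr.restrictScalars R).symm
  let f : (ι →₀ R) →ₗ[R] (ι →₀ Localization.AtPrime p) :=
    Finsupp.mapRange.linearMap (Algebra.linearMap R (Localization.AtPrime p))
  haveI : Module.FinitePresentation R (ι →₀ R) := Module.finitePresentation_of_projective _ _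
  obtain ⟨s, φ, ψ, h⟩ := exists_split_of_equiv p.primeCompl f
    (LocalizedModule.mkLinearMap p.primeCompl M) e
  refine ⟨s, s.2, fun b hb i hi x => ?_⟩
  haveI := subsingleton_H_self b hb i hi
  haveI := subsingleton_H_finsupp b i ι
  refine smul_eq_zero_of_split b i (ModuleCat.ofHom φ) (ModuleCat.ofHom ψ) (s : R) ?_ x
  apply ModuleCat.hom_ext
  rw [ModuleCat.hom_comp, ModuleCat.hom_ofHom, ModuleCat.hom_ofHom, h]
  rfl

/-- the property proved in S11656 -/
def Kills (p : Ideal R) (h : ℕ) (M : Type u) [AddCommGroup M] [Module R M] : Prop :=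
  ∃ s : R, s ∉ p ∧ ∀ (b : Ideal R), b ≠ ⊤ → ∀ (i : ℕ),
    ((i + h : ℕ) : ℕ∞) < LocCoh.idealDepth b R → ∀ x : LocCoh.H b i M, s • x = 0

/-- inductive step, with an abstract free module -/
theorem kills_step (p : Ideal R) [p.IsPrime] (h : ℕ)
    (ih : ∀ (M : Type u) [AddCommGroup M] [Module R M] [Module.Finite R M],
      HasProjectiveDimensionLE (ModuleCat.of (Localization.AtPrime p)
        (LocalizedModule p.primeCompl M)) h → Kills p h M)
    (M : Type u) [AddCommGroup M] [Module R M] [Module.Finite R M]
    (F : Type u) [AddCommGroup F] [Module R F] [Module.Free R F] [Module.Finite R F]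
    (hF : ∀ (b : Ideal R), b ≠ ⊤ → ∀ (i : ℕ), (i : ℕ∞) < LocCoh.idealDepth b R →
      Subsingleton ((localCohomology b i).obj (ModuleCat.of R F)))
    (π : F →ₗ[R] M) (hπ : Function.Surjective π)
    (hpd : HasProjectiveDimensionLE (ModuleCat.of (Localization.AtPrime p)
      (LocalizedModule p.primeCompl M)) (h + 1)) : Kills p (h + 1) M := by
  haveI : IsNoetherian R F := isNoetherian_of_isNoetherianRing_of_finite R _
  haveI : Module.Finite R (LinearMap.ker π) := inferInstance
  have hS := shortExact_of (R := R) (A := LinearMap.ker π) (B := F) (C := M)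
    (LinearMap.ker π).subtype π (Submodule.injective_subtype _) hπ
    (LinearMap.exact_subtype_ker_map π)
  -- the localized sequence
  have hex : Function.Exact (LocalizedModule.map p.primeCompl (LinearMap.ker π).subtype)
      (LocalizedModule.map p.primeCompl π) :=
    LocalizedModule.map_exact p.primeCompl (LinearMap.ker π).subtype π
      (LinearMap.exact_subtype_ker_map π)
  have hS' := shortExact_of (R := Localization.AtPrime p)
    (A := LocalizedModule p.primeCompl (LinearMap.ker π))
    (B := LocalizedModule p.primeCompl F) (C := LocalizedModule p.primeCompl M)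
    (LocalizedModule.map p.primeCompl (LinearMap.ker π).subtype)
    (LocalizedModule.map p.primeCompl π)
    (LocalizedModule.map_injective p.primeCompl _ (Submodule.injective_subtype _))
    (LocalizedModule.map_surjective p.primeCompl _ hπ) hex
  haveI : Module.Free (Localization.AtPrime p) (LocalizedModule p.primeCompl F) :=
    Module.free_of_isLocalizedModule p.primeCompl
      (LocalizedModule.mkLinearMap p.primeCompl F)
  have hproj : Projective (ModuleCat.of (Localization.AtPrime p)
      (LocalizedModule p.primeCompl F)) :=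
    (IsProjective.iff_projective _).mp inferInstance
  have h2 : HasProjectiveDimensionLT (ModuleCat.of (Localization.AtPrime p)
      (LocalizedModule p.primeCompl F)) (h + 1) :=
    hasProjectiveDimensionLT_of_ge _ 1 (h + 1) (by omega)
  have h3 : HasProjectiveDimensionLE (ModuleCat.of (Localization.AtPrime p)
      (LocalizedModule p.primeCompl (LinearMap.ker π))) h :=
    hS'.hasProjectiveDimensionLT_X₁ (h + 1) h2 hpd
  obtain ⟨s, hs, hkill⟩ := ih (LinearMap.ker π) h3
  refine ⟨s, hs, fun b hb i hi x => ?_⟩
  have hi1 : (((i + 1) + h : ℕ) : ℕ∞) < LocCoh.idealDepth b R := by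
    have : (i + 1) + h = i + (h + 1) := by omega
    rw [this]; exact hi
  have hi0 : (i : ℕ∞) < LocCoh.idealDepth b R :=
    lt_of_le_of_lt (by exact_mod_cast Nat.le_add_right i (h + 1)) hi
  have hδ : δ b i hS (s • x) = 0 := by
    rw [map_smul]
    exact hkill b hb (i + 1) hi1 _
  obtain ⟨x₂, hx₂⟩ := exact₃ b i hS (s • x) hδ
  haveI := hF b hb i hi0
  rw [← hx₂, Subsingleton.elim x₂ 0, map_zero]

/-- **S11656.** -/
theorem exists_annihilator_of_pd (p : Ideal R) [p.IsPrime] : ∀ (h : ℕ) (M : Type u)
    [AddCommGroup M] [Module R M] [Module.Finite R M],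
    HasProjectiveDimensionLE (ModuleCat.of (Localization.AtPrime p)
      (LocalizedModule p.primeCompl M)) h → Kills p h M := by
  intro h
  induction h with
  | zero =>
    intro M _ _ _ hpd
    haveI : Module.FinitePresentation R M := Module.finitePresentation_of_finite R M
    haveI : Module.Finite (Localization.AtPrime p) (LocalizedModule p.primeCompl M) :=
      inferInstance
    have h1 : Projective (ModuleCat.of (Localization.AtPrime p)
        (LocalizedModule p.primeCompl M)) :=
      (projective_iff_hasProjectiveDimensionLE_zero _).mpr hpd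
    haveI : Module.Projective (Localization.AtPrime p) (LocalizedModule p.primeCompl M) :=
      (IsProjective.iff_projective _).mpr h1
    haveI : Module.Free (Localization.AtPrime p) (LocalizedModule p.primeCompl M) :=
      Module.free_of_flat_of_isLocalRing
    obtain ⟨s, hs, hkill⟩ := exists_annihilator_of_free M p
    exact ⟨s, hs, fun b hb i hi x => hkill b hb i (by simpa using hi) x⟩
  | succ h ih =>
    intro M _ _ _ hpd
    obtain ⟨σ, hσ⟩ := (inferInstance : Module.Finite R M).fg_top
    let π : (σ →₀ R) →ₗ[R] M := Finsupp.linearCombination R ((↑) : σ → M)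
    have hπ : Function.Surjective π :=
      LinearMap.range_eq_top.mp
        (by rw [Finsupp.range_linearCombination, Subtype.range_val, ← hσ])
    refine kills_step p h ih M (σ →₀ R) ?_ π hπ hpd
    intro b hb i hi
    haveI := subsingleton_H_self b hb i hi
    exact subsingleton_H_finsupp b i σ

end Groth.Agent.H2.LCAnnih
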