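import Mathlib

/-!
# A Watts-type lemma  (helper2)

For an `R`-linear functor `T : ModuleCat R ⥤ ModuleCat R` there is a natural map
`α_M : M ⊗ T(R) → T(M)`; it is bijective for finite free `M`, and for finitely presented `M`
when `T` is right exact.
-/

set_option autoImplicit false
set_option linter.unusedSectionVars false
set_option linter.style.haveILetI false

namespace Groth.Agent.H2.Watts

universe u

open CategoryTheory TensorProduct

variable {R : Type u} [CommRing R]
variable (T : ModuleCat.{u} R ⥤ ModuleCat.{u} R) [T.Additive] [T.Linear R]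

/-- `r ↦ r • m` as a morphism `R ⟶ M` -/
noncomputable def ρ (M : ModuleCat.{u} R) (m : M) : ModuleCat.of R R ⟶ M :=
  ModuleCat.ofHom (LinearMap.toSpanSingleton R M m)

theorem ρ_apply (M : ModuleCat.{u} R) (m : M) (r : R) : (ρ M m).hom r = r • m := rfl

theorem ρ_add (M : ModuleCat.{u} R) (m m' : M) : ρ M (m + m') = ρ M m + ρ M m' := by
  apply ModuleCat.hom_ext
  apply LinearMap.ext
  intro r
  change r • (m + m') = r • m + r • m'
  rw [smul_add]

theorem ρ_smul (M : ModuleCat.{u} R) (r : R) (m : M) : ρ M (r • m) = r • ρ M m := by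
  apply ModuleCat.hom_ext
  apply LinearMap.ext
  intro s
  change s • (r • m) = r • (s • m)
  rw [smul_comm]

theorem ρ_comp {M N : ModuleCat.{u} R} (g : M ⟶ N) (m : M) : ρ M m ≫ g = ρ N (g.hom m) := by
  apply ModuleCat.hom_ext
  apply LinearMap.ext
  intro s
  change g.hom (s • m) = s • g.hom m
  rw [map_smul]

theorem ρ_self (r : R) : ρ (ModuleCat.of R R) r = r • 𝟙 (ModuleCat.of R R) := by
  apply ModuleCat.hom_ext
  apply LinearMap.ext
  intro s
  change s • r = r • s
  rw [smul_eq_mul, smul_eq_mul, mul_comm]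

/-- the bilinear map `M → T(R) → T(M)` -/
noncomputable def αbil (M : ModuleCat.{u} R) :
    M →ₗ[R] (T.obj (ModuleCat.of R R) →ₗ[R] T.obj M) where
  toFun m := (T.map (ρ M m)).hom
  map_add' m m' := by rw [ρ_add, T.map_add]; rfl
  map_smul' r m := by rw [ρ_smul, T.map_smul]; rfl

/-- the natural map `M ⊗ T(R) → T(M)` -/
noncomputable def α (M : ModuleCat.{u} R) : M ⊗[R] T.obj (ModuleCat.of R R) →ₗ[R] T.obj M :=
  TensorProduct.lift (αbil T M)

theorem α_tmul (M : ModuleCat.{u} R) (m : M) (t : T.obj (ModuleCat.of R R)) :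
    α T M (m ⊗ₜ t) = (T.map (ρ M m)).hom t := rfl

/-- naturality of `α` -/
theorem α_naturality {M N : ModuleCat.{u} R} (g : M ⟶ N)
    (z : M ⊗[R] T.obj (ModuleCat.of R R)) :
    (T.map g).hom (α T M z) = α T N (g.hom.rTensor _ z) := by
  induction z using TensorProduct.induction_on with
  | zero => simp
  | tmul m t =>
    rw [α_tmul, LinearMap.rTensor_tmul, α_tmul, ← ρ_comp, T.map_comp]
    rfl
  | add x y hx hy => rw [map_add, map_add, hx, hy, map_add, map_add]

theorem α_self_tmul (r : R) (t : T.obj (ModuleCat.of R R)) :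
    α T (ModuleCat.of R R) (r ⊗ₜ t) = r • t := by
  rw [α_tmul, ρ_self, T.map_smul, T.map_id]
  rfl

theorem α_self_eq : α T (ModuleCat.of R R) = (TensorProduct.lid R _).toLinearMap := by
  apply TensorProduct.ext'
  intro r t
  rw [α_self_tmul]
  simp

theorem α_self_bijective : Function.Bijective (α T (ModuleCat.of R R)) := by
  rw [α_self_eq]
  exact (TensorProduct.lid R _).bijective

theorem map_sum_apply {M N : ModuleCat.{u} R} {ι : Type*} (s : Finset ι) (g : ι → (M ⟶ N))
    (x : T.obj M) : (T.map (∑ j ∈ s, g j)).hom x = ∑ j ∈ s, (T.map (g j)).hom x := by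
  rw [T.map_sum, ModuleCat.hom_sum, LinearMap.sum_apply]

/-- `α` is bijective on finite free modules. -/
theorem α_finsupp_bijective (ι : Type u) [Finite ι] :
    Function.Bijective (α T (ModuleCat.of R (ι →₀ R))) := by
  classical
  haveI := Fintype.ofFinite ι
  set F := ModuleCat.of R (ι →₀ R) with hF
  let π : ι → (F ⟶ ModuleCat.of R R) := fun j => ModuleCat.ofHom (Finsupp.lapply (R := R) (M := R) j)
  let σ : ι → (ModuleCat.of R R ⟶ F) := fun j => ModuleCat.ofHom (Finsupp.lsingle (R := R) (M := R) j)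
  have hid : 𝟙 F = ∑ j : ι, π j ≫ σ j := by
    apply ModuleCat.hom_ext
    apply LinearMap.ext
    intro v
    rw [ModuleCat.hom_sum]
    simp only [ModuleCat.hom_id, LinearMap.id_coe, id_eq, ModuleCat.hom_comp, π, σ,
      ModuleCat.hom_ofHom]
    rw [LinearMap.sum_apply]
    simp only [LinearMap.coe_comp, Function.comp_apply, Finsupp.lapply_apply,
      Finsupp.lsingle_apply]
    exact (Finsupp.univ_sum_single v).symm
  have hidT : ∀ z : F ⊗[R] T.obj (ModuleCat.of R R),
      z = ∑ j : ι, (σ j).hom.rTensor _ ((π j).hom.rTensor _ z) := by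
    intro z
    have h1 : (LinearMap.id : (ι →₀ R) →ₗ[R] (ι →₀ R)) = ∑ j : ι, (σ j).hom ∘ₗ (π j).hom := by
      have := congrArg ModuleCat.Hom.hom hid
      rw [ModuleCat.hom_sum] at this
      simpa using this
    calc z = (LinearMap.id : (ι →₀ R) →ₗ[R] (ι →₀ R)).rTensor
          (T.obj (ModuleCat.of R R)) z := (LinearMap.rTensor_id_apply _ _ z).symm
      _ = (∑ j : ι, (σ j).hom ∘ₗ (π j).hom).rTensor (T.obj (ModuleCat.of R R)) z := by rw [← h1]
      _ = ∑ j : ι, ((σ j).hom ∘ₗ (π j).hom).rTensor (T.obj (ModuleCat.of R R)) z := by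
        rw [← LinearMap.coe_rTensorHom, map_sum, LinearMap.sum_apply]
      _ = ∑ j : ι, (σ j).hom.rTensor _ ((π j).hom.rTensor _ z) :=
        Finset.sum_congr rfl (fun j _ => LinearMap.rTensor_comp_apply _ _ _ z)
  constructor
  · rw [injective_iff_map_eq_zero]
    intro z hz
    rw [hidT z]
    apply Finset.sum_eq_zero
    intro j _
    have h1 : α T (ModuleCat.of R R) ((π j).hom.rTensor _ z) = 0 := by
      rw [← α_naturality, hz, map_zero]
    rw [(α_self_bijective T).1 (h1.trans (map_zero _).symm), map_zero]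
  · intro y
    have h1 : y = ∑ j : ι, (T.map (σ j)).hom ((T.map (π j)).hom y) := by
      have h0 : (T.map (𝟙 F)).hom y = y := by rw [T.map_id]; rfl
      have h00 : (T.map (𝟙 F)).hom y = ∑ j : ι, (T.map (σ j)).hom ((T.map (π j)).hom y) := by
        rw [hid, map_sum_apply]
        refine Finset.sum_congr rfl (fun j _ => ?_)
        rw [T.map_comp]; rfl
      rw [← h00, h0]
    choose w hw using fun j => (α_self_bijective T).2 ((T.map (π j)).hom y)
    refine ⟨∑ j : ι, (σ j).hom.rTensor _ (w j), ?_⟩
    rw [map_sum, h1]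
    refine Finset.sum_congr rfl (fun j _ => ?_)
    rw [← α_naturality, hw]

/-- right exactness, elementwise -/
def RightExact : Prop :=
  ∀ {X Y Z : ModuleCat.{u} R} (a : X ⟶ Y) (b : Y ⟶ Z), Function.Exact a.hom b.hom →
    Function.Surjective b.hom →
      Function.Exact (T.map a).hom (T.map b).hom ∧ Function.Surjective (T.map b).hom

/-- five lemma for a presentation -/
theorem α_bijective_of_presentation (hT : RightExact T) {X Y Z : ModuleCat.{u} R} (a : X ⟶ Y)
    (b : Y ⟶ Z) (hex : Function.Exact a.hom b.hom) (hb : Function.Surjective b.hom)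
    (hX : Function.Surjective (α T X)) (hY : Function.Bijective (α T Y)) :
    Function.Bijective (α T Z) := by
  obtain ⟨hTex, hTb⟩ := hT a b hex hb
  have htex := rTensor_exact (T.obj (ModuleCat.of R R)) hex hb
  have htb := LinearMap.rTensor_surjective (T.obj (ModuleCat.of R R)) hb
  constructor
  · rw [injective_iff_map_eq_zero]
    intro z hz
    obtain ⟨z₀, rfl⟩ := htb z
    rw [← α_naturality] at hz
    obtain ⟨y₁, hy₁⟩ := (hTex _).mp hz
    obtain ⟨z₁, rfl⟩ := hX y₁
    rw [α_naturality] at hy₁
    have := hY.1 hy₁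
    rw [← this]
    exact (htex _).mpr ⟨z₁, rfl⟩
  · intro y
    obtain ⟨y₀, rfl⟩ := hTb y
    obtain ⟨z₀, rfl⟩ := hY.2 y₀
    exact ⟨b.hom.rTensor _ z₀, (α_naturality T b z₀).symm⟩

/-- transport along an isomorphism -/
theorem α_bijective_of_iso {M N : ModuleCat.{u} R} (e : M ≅ N)
    (h : Function.Bijective (α T M)) : Function.Bijective (α T N) := by
  have h1 : ∀ z, α T N z = (T.map e.hom).hom (α T M (e.inv.hom.rTensor _ z)) := by
    intro z
    rw [α_naturality, ← LinearMap.rTensor_comp_apply, ← ModuleCat.hom_comp,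
      e.inv_hom_id, ModuleCat.hom_id, LinearMap.rTensor_id_apply]
  have hT : Function.Bijective (T.map e.hom).hom :=
    (ConcreteCategory.isIso_iff_bijective _).mp inferInstance
  have he : Function.Bijective (e.inv.hom.rTensor (T.obj (ModuleCat.of R R))) := by
    refine ⟨?_, ?_⟩
    · intro x y hxy
      have := congrArg (e.hom.hom.rTensor (T.obj (ModuleCat.of R R))) hxy
      rwa [← LinearMap.rTensor_comp_apply, ← LinearMap.rTensor_comp_apply,
        ← ModuleCat.hom_comp, e.inv_hom_id, ModuleCat.hom_id, LinearMap.rTensor_id_apply,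
        LinearMap.rTensor_id_apply] at this
    · intro x
      refine ⟨e.hom.hom.rTensor _ x, ?_⟩
      rw [← LinearMap.rTensor_comp_apply, ← ModuleCat.hom_comp, e.hom_inv_id, ModuleCat.hom_id,
        LinearMap.rTensor_id_apply]
  have : (α T N : _ → _) = (T.map e.hom).hom ∘ (α T M) ∘ (e.inv.hom.rTensor _) := by
    funext z; exact h1 z
  rw [this]
  exact hT.comp (h.comp he)

/-- **Watts:** for right exact linear `T` over a Noetherian ring, `α_M` is bijective for finite
`M`. -/
theorem α_bijective [IsNoetherianRing R] (hT : RightExact T) (M : Type u) [AddCommGroup M]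
    [Module R M] [Module.Finite R M] : Function.Bijective (α T (ModuleCat.of R M)) := by
  obtain ⟨σ, hσ⟩ := (inferInstance : Module.Finite R M).fg_top
  let b : (σ →₀ R) →ₗ[R] M := Finsupp.linearCombination R ((↑) : σ → M)
  have hb : Function.Surjective b :=
    LinearMap.range_eq_top.mp
      (by rw [Finsupp.range_linearCombination, Subtype.range_val, ← hσ])
  haveI : IsNoetherian R (σ →₀ R) := isNoetherian_of_isNoetherianRing_of_finite R _
  obtain ⟨τ, hτ⟩ := (inferInstance : Module.Finite R (LinearMap.ker b)).fg_top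
  let a' : (τ →₀ R) →ₗ[R] LinearMap.ker b :=
    Finsupp.linearCombination R ((↑) : τ → LinearMap.ker b)
  have ha' : Function.Surjective a' :=
    LinearMap.range_eq_top.mp
      (by rw [Finsupp.range_linearCombination, Subtype.range_val, ← hτ])
  let a : (τ →₀ R) →ₗ[R] (σ →₀ R) := (LinearMap.ker b).subtype ∘ₗ a'
  have hex : Function.Exact a b := by
    intro y
    constructor
    · intro hy
      obtain ⟨x, hx⟩ := ha' ⟨y, hy⟩
      exact ⟨x, by simp [a, hx]⟩
    · rintro ⟨x, rfl⟩
      exact (a' x).2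
  exact α_bijective_of_presentation T hT (ModuleCat.ofHom a) (ModuleCat.ofHom b) hex hb
    (α_finsupp_bijective T τ).2 (α_finsupp_bijective T σ)

end Groth.Agent.H2.Watts
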