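import Mathlib
import Groth.Agent.H2.Watts
import Groth.Agent.H58.LCGV

/-!
# Right exactness of top local cohomology and of the double dual; consequences of Watts (helper2)
-/

set_option autoImplicit false
set_option linter.unusedSectionVars false
set_option linter.style.haveILetI false

namespace Groth.Agent.H2.WattsLC

universe u

open CategoryTheory TensorProduct Groth.Agent.H58.LC Groth.Agent.H2.Watts

variable {R : Type u} [CommRing R]

section LC

variable [IsNoetherianRing R] (I : Ideal R) (n : ℕ)

instance : (localCohomology I n).Additive where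
  map_add {M N f g} := by
    apply ModuleCat.hom_ext
    apply LinearMap.ext
    intro x
    exact map_add' I n f g x

instance : (localCohomology I n).Linear R where
  map_smul {M N} f r := by
    apply ModuleCat.hom_ext
    apply LinearMap.ext
    intro x
    exact map_smul' I n r f x

theorem map_surjective_of_surjective (hdim : ringKrullDim R ≤ n) {B C : Type u} [AddCommGroup B]
    [Module R B] [AddCommGroup C] [Module R C] (g : B →ₗ[R] C) (hg : Function.Surjective g) :
    Function.Surjective ((localCohomology I n).map (ModuleCat.ofHom g)).hom := by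
  have hS := shortExact_of (R := R) (A := LinearMap.ker g) (B := B) (C := C)
    (LinearMap.ker g).subtype g (Submodule.injective_subtype _) hg
    (LinearMap.exact_subtype_ker_map g)
  intro z
  haveI : Subsingleton ((localCohomology I (n + 1)).obj (ModuleCat.of R (LinearMap.ker g))) := by
    apply gv I (n + 1) (LinearMap.ker g)
    refine lt_of_le_of_lt ((Module.supportDim_le_ringKrullDim R _).trans hdim) ?_
    exact_mod_cast Nat.lt_succ_self n
  obtain ⟨y, hy⟩ := exact₃ I n hS z (Subsingleton.elim _ _)
  exact ⟨y, hy⟩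

theorem map_exact_of_exact (hdim : ringKrullDim R ≤ n) {A B C : Type u} [AddCommGroup A]
    [Module R A] [AddCommGroup B] [Module R B] [AddCommGroup C] [Module R C]
    (f : A →ₗ[R] B) (g : B →ₗ[R] C) (hfg : Function.Exact f g) (hg : Function.Surjective g) :
    Function.Exact ((localCohomology I n).map (ModuleCat.ofHom f)).hom
      ((localCohomology I n).map (ModuleCat.ofHom g)).hom := by
  have hS := shortExact_of (R := R) (A := LinearMap.ker g) (B := B) (C := C)
    (LinearMap.ker g).subtype g (Submodule.injective_subtype _) hg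
    (LinearMap.exact_subtype_ker_map g)
  have hmem : ∀ a, f a ∈ LinearMap.ker g := fun a => hfg.apply_apply_eq_zero a
  let f' : A →ₗ[R] LinearMap.ker g := f.codRestrict _ hmem
  have hf' : Function.Surjective f' := by
    rintro ⟨b, hb⟩
    obtain ⟨a, rfl⟩ := (hfg b).mp hb
    exact ⟨a, rfl⟩
  have hcomp : ModuleCat.ofHom f = ModuleCat.ofHom f' ≫ ModuleCat.ofHom (LinearMap.ker g).subtype :=
    rfl
  intro y
  constructor
  · intro hy
    obtain ⟨k, hk⟩ := exact₂ I n hS y hy
    obtain ⟨x, hx⟩ := map_surjective_of_surjective I n hdim f' hf' k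
    refine ⟨x, ?_⟩
    rw [hcomp, Functor.map_comp]
    change ((localCohomology I n).map _).hom (((localCohomology I n).map _).hom x) = y
    rw [hx]
    exact hk
  · rintro ⟨x, rfl⟩
    have h0 : ModuleCat.ofHom f ≫ ModuleCat.ofHom g = 0 := by
      apply ModuleCat.hom_ext
      apply LinearMap.ext
      intro a
      exact hfg.apply_apply_eq_zero a
    have : ((localCohomology I n).map (ModuleCat.ofHom f ≫ ModuleCat.ofHom g)).hom x = 0 := by
      rw [h0]; exact map_zero' I n x
    rw [Functor.map_comp] at this
    exact this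

/-- top local cohomology is right exact -/
theorem rightExact_localCohomology (hdim : ringKrullDim R ≤ n) :
    RightExact (localCohomology I n) := by
  intro X Y Z a b hex hb
  exact ⟨map_exact_of_exact I n hdim a.hom b.hom hex hb,
    map_surjective_of_surjective I n hdim b.hom hb⟩

end LC

section DD

variable (K E : Type u) [AddCommGroup K] [Module R K] [AddCommGroup E] [Module R E]

/-- the functor `M ↦ Hom(Hom(M, K), E)` -/
noncomputable def DD : ModuleCat.{u} R ⥤ ModuleCat.{u} R where
  obj M := ModuleCat.of R ((M →ₗ[R] K) →ₗ[R] E)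
  map {M N} g := ModuleCat.ofHom (LinearMap.lcomp R E (LinearMap.lcomp R K g.hom))
  map_id M := by
    apply ModuleCat.hom_ext
    apply LinearMap.ext
    intro φ
    apply LinearMap.ext
    intro ψ
    rfl
  map_comp f g := by
    apply ModuleCat.hom_ext
    apply LinearMap.ext
    intro φ
    apply LinearMap.ext
    intro ψ
    rfl

/-- the map of `DD` as a plain linear map -/
noncomputable def DDmap {M N : ModuleCat.{u} R} (g : M ⟶ N) :
    ((M →ₗ[R] K) →ₗ[R] E) →ₗ[R] ((N →ₗ[R] K) →ₗ[R] E) :=
  LinearMap.lcomp R E (LinearMap.lcomp R K g.hom)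

theorem DDmap_apply {M N : ModuleCat.{u} R} (g : M ⟶ N) (φ : (M →ₗ[R] K) →ₗ[R] E)
    (ψ : N →ₗ[R] K) : DDmap K E g φ ψ = φ (ψ ∘ₗ g.hom) := rfl

theorem DD_map_hom {M N : ModuleCat.{u} R} (g : M ⟶ N) :
    ((DD K E).map g).hom = DDmap K E g := rfl

instance : (DD (R := R) K E).Additive where
  map_add {M N f g} := by
    apply ModuleCat.hom_ext
    change DDmap K E (f + g) = DDmap K E f + DDmap K E g
    apply LinearMap.ext
    intro φ
    apply LinearMap.ext
    intro ψ
    change φ (ψ ∘ₗ (f + g).hom) = φ (ψ ∘ₗ f.hom) + φ (ψ ∘ₗ g.hom)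
    rw [ModuleCat.hom_add, LinearMap.comp_add, map_add]

instance : (DD (R := R) K E).Linear R where
  map_smul {M N} f r := by
    apply ModuleCat.hom_ext
    change DDmap K E (r • f) = r • DDmap K E f
    apply LinearMap.ext
    intro φ
    apply LinearMap.ext
    intro ψ
    change φ (ψ ∘ₗ (r • f).hom) = r • φ (ψ ∘ₗ f.hom)
    rw [ModuleCat.hom_smul, LinearMap.comp_smul, map_smul]

/-- `Hom(Hom(-,K),E)` is right exact when `E` is injective -/
theorem rightExact_DD [Module.Injective R E] : RightExact (DD (R := R) K E) := by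
  intro X Y Z a b hex hb
  change Function.Exact (DDmap K E a) (DDmap K E b) ∧ Function.Surjective (DDmap K E b)
  constructor
  · intro (φ : (Y →ₗ[R] K) →ₗ[R] E)
    constructor
    · intro hφ
      -- `φ` kills `ker a^*`
      let as : (Y →ₗ[R] K) →ₗ[R] (X →ₗ[R] K) := LinearMap.lcomp R K a.hom
      have hker : LinearMap.ker as ≤ LinearMap.ker (φ : (Y →ₗ[R] K) →ₗ[R] E) := by
        intro ψ hψ
        have hψ' : ∀ x, ψ (a.hom x) = 0 := fun x => LinearMap.congr_fun hψ x
        have hkb : LinearMap.ker b.hom ≤ LinearMap.ker ψ := by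
          intro y hy
          obtain ⟨x, rfl⟩ := (hex y).mp hy
          exact hψ' x
        let χ : Z →ₗ[R] K := (LinearMap.ker b.hom).liftQ ψ hkb ∘ₗ
          (b.hom.quotKerEquivOfSurjective hb).symm.toLinearMap
        have hχ : χ ∘ₗ b.hom = ψ := by
          apply LinearMap.ext
          intro y
          have : (b.hom.quotKerEquivOfSurjective hb).symm (b.hom y) =
              Submodule.Quotient.mk y := by
            rw [LinearEquiv.symm_apply_eq]; rfl
          simp only [χ, LinearMap.comp_apply, LinearEquiv.coe_coe, this]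
          rfl
        have h1 := LinearMap.congr_fun hφ χ
        rw [DDmap_apply, hχ] at h1
        exact h1
      let φbar : ((Y →ₗ[R] K) ⧸ LinearMap.ker as) →ₗ[R] E := (LinearMap.ker as).liftQ φ hker
      let ι : ((Y →ₗ[R] K) ⧸ LinearMap.ker as) →ₗ[R] (X →ₗ[R] K) :=
        (LinearMap.ker as).liftQ as le_rfl
      have hι : Function.Injective ι := by
        rw [← LinearMap.ker_eq_bot]
        exact Submodule.ker_liftQ_eq_bot _ _ _ le_rfl
      obtain ⟨φ', hφ'⟩ := Module.Injective.extension_property R _ _ _ ι hι φbar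
      refine ⟨φ', ?_⟩
      apply LinearMap.ext
      intro ψ
      rw [DDmap_apply]
      have := LinearMap.congr_fun hφ' (Submodule.Quotient.mk ψ)
      exact this
    · rintro ⟨φ', rfl⟩
      apply LinearMap.ext
      intro χ
      rw [DDmap_apply, DDmap_apply]
      have : (χ ∘ₗ b.hom) ∘ₗ a.hom = 0 := by
        apply LinearMap.ext
        intro x
        simp [hex.apply_apply_eq_zero x]
      rw [this, map_zero]
      rfl
  · intro (χ : (Z →ₗ[R] K) →ₗ[R] E)
    let bs : (Z →ₗ[R] K) →ₗ[R] (Y →ₗ[R] K) := LinearMap.lcomp R K b.hom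
    have hbs : Function.Injective bs := by
      intro ψ ψ' h
      apply LinearMap.ext
      intro z
      obtain ⟨y, rfl⟩ := hb z
      exact LinearMap.congr_fun h y
    obtain ⟨φ, hφ⟩ := Module.Injective.extension_property R _ _ _ bs hbs
      (χ : (Z →ₗ[R] K) →ₗ[R] E)
    refine ⟨φ, ?_⟩
    apply LinearMap.ext
    intro ψ
    rw [DDmap_apply]
    exact LinearMap.congr_fun hφ ψ

end DD

end Groth.Agent.H2.WattsLC
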