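import Mathlib
import Groth.Agent.H2.WattsLC
import Groth.Agent.H2.GorensteinType
import Groth.Agent.H2.LCAnnih

/-!
# Local duality over a Gorenstein local ring  (helper2)

`H^i_m(M) ≃ Hom(Ext^{d-i}(M, A), E)` for finite `M` over a Gorenstein local ring `A` of dimension
`d`, `E` an injective hull of the residue field.
-/

set_option autoImplicit false
set_option maxHeartbeats 400000
set_option linter.unusedSectionVars false
set_option linter.style.haveILetI false

namespace Groth.Agent.H2.GorDuality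

universe u

open CategoryTheory Abelian IsLocalRing TensorProduct Groth.Agent.H58.LC Groth.Agent.H2.Watts
  Groth.Agent.H2.WattsLC

variable (A : Type u) [CommRing A] [LocCoh.IsGorensteinLocalRing A] (d : ℕ)
  (hd : ringKrullDim A = d)
variable (E : Type u) [AddCommGroup E] [Module A E]
  (f : ResidueField A →ₗ[A] E) (hf : InjHull.IsInjectiveHull f)

/-- `T₁ = H^d_m` -/
noncomputable abbrev T₁ : ModuleCat.{u} A ⥤ ModuleCat.{u} A := localCohomology (maximalIdeal A) d

/-- `T₂ = Hom(Hom(-,A),E)` -/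
noncomputable abbrev T₂ : ModuleCat.{u} A ⥤ ModuleCat.{u} A := DD (R := A) A E

include hd hf in
theorem exists_cEquiv : Nonempty ((T₁ A d).obj (ModuleCat.of A A) ≃ₗ[A]
    (T₂ A E).obj (ModuleCat.of A A)) := by
  obtain ⟨g, hg⟩ := GorensteinType.exists_isInjectiveHull A d hd
  obtain ⟨e, -⟩ := Groth.Agent.H2.IsInjectiveHull.exists_equiv g hg f hf
  let e' : ((A →ₗ[A] A) →ₗ[A] E) ≃ₗ[A] E :=
    (LinearEquiv.congrLeft E A (LinearMap.ringLmapEquivSelf A A A)) ≪≫ₗ
      (LinearMap.ringLmapEquivSelf A A E)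
  exact ⟨e ≪≫ₗ e'.symm⟩

variable {A d E}

section Theta

variable (c : (T₁ A d).obj (ModuleCat.of A A) ≃ₗ[A] (T₂ A E).obj (ModuleCat.of A A))
  [Module.Injective A E]

/-- the natural isomorphism `H^d_m(M) ≃ Hom(Hom(M,A),E)` on finite modules -/
noncomputable def θ (hd : ringKrullDim A = d) (M : Type u) [AddCommGroup M] [Module A M]
    [Module.Finite A M] :
    (T₁ A d).obj (ModuleCat.of A M) ≃ₗ[A] (T₂ A E).obj (ModuleCat.of A M) :=
  (LinearEquiv.ofBijective (α (T₁ A d) (ModuleCat.of A M))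
    (α_bijective (T₁ A d) (rightExact_localCohomology (maximalIdeal A) d hd.le) M)).symm ≪≫ₗ
  (TensorProduct.congr (LinearEquiv.refl A M) c) ≪≫ₗ
  (LinearEquiv.ofBijective (α (T₂ A E) (ModuleCat.of A M))
    (α_bijective (T₂ A E) (rightExact_DD A E) M))

theorem θ_α (M : Type u) [AddCommGroup M] [Module A M] [Module.Finite A M]
    (z : M ⊗[A] (T₁ A d).obj (ModuleCat.of A A)) :
    θ c hd M (α (T₁ A d) (ModuleCat.of A M) z) =
      α (T₂ A E) (ModuleCat.of A M) (c.toLinearMap.lTensor M z) := by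
  unfold θ
  rw [LinearEquiv.trans_apply, LinearEquiv.trans_apply]
  have h1 : (LinearEquiv.ofBijective (α (T₁ A d) (ModuleCat.of A M))
      (α_bijective (T₁ A d) (rightExact_localCohomology (maximalIdeal A) d hd.le) M)).symm
      (α (T₁ A d) (ModuleCat.of A M) z) = z := by
    rw [LinearEquiv.symm_apply_eq]; rfl
  rw [h1]
  rfl

theorem θ_naturality {M N : Type u} [AddCommGroup M] [Module A M] [Module.Finite A M]
    [AddCommGroup N] [Module A N] [Module.Finite A N] (g : M →ₗ[A] N)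
    (x : (T₁ A d).obj (ModuleCat.of A M)) :
    ((T₂ A E).map (ModuleCat.ofHom g)).hom (θ c hd M x) =
      θ c hd N (((T₁ A d).map (ModuleCat.ofHom g)).hom x) := by
  obtain ⟨z, rfl⟩ := (α_bijective (T₁ A d)
    (rightExact_localCohomology (maximalIdeal A) d hd.le) M).2 x
  rw [θ_α, α_naturality, α_naturality, θ_α]
  congr 1
  change (g.rTensor _) ((c.toLinearMap.lTensor M) z) = (c.toLinearMap.lTensor N) ((g.rTensor _) z)
  rw [← LinearMap.comp_apply, ← LinearMap.comp_apply, LinearMap.rTensor_comp_lTensor,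
    LinearMap.lTensor_comp_rTensor]

theorem T₂_map_hom {M N : Type u} [AddCommGroup M] [Module A M] [AddCommGroup N] [Module A N]
    (g : M →ₗ[A] N) : ((T₂ A E).map (ModuleCat.ofHom g)).hom =
      LinearMap.lcomp A E (LinearMap.lcomp A A g) := rfl

theorem θ_naturality' {M N : Type u} [AddCommGroup M] [Module A M] [Module.Finite A M]
    [AddCommGroup N] [Module A N] [Module.Finite A N] (g : M →ₗ[A] N)
    (x : (T₁ A d).obj (ModuleCat.of A M)) :
    (LinearMap.lcomp A E (LinearMap.lcomp A A g)) (θ c hd M x) =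
      θ c hd N (((T₁ A d).map (ModuleCat.ofHom g)).hom x) := by
  rw [← T₂_map_hom]
  exact θ_naturality hd c g x

end Theta

section Vanish

include hd in
theorem subsingleton_H_finsupp (σ : Type u) [Finite σ] (i : ℕ) (hi : i < d) :
    Subsingleton ((localCohomology (maximalIdeal A) i).obj (ModuleCat.of A (σ →₀ A))) := by
  haveI : Subsingleton ((localCohomology (maximalIdeal A) i).obj (ModuleCat.of A A)) :=
    GorensteinType.subsingleton_H_of_lt A d hd i hi
  exact LCAnnih.subsingleton_H_finsupp (maximalIdeal A) i σ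

theorem ext_finsupp_eq_zero (σ : Type u) (Y : ModuleCat.{u} A) (j : ℕ)
    (x : Ext (ModuleCat.of A (σ →₀ A)) Y (j + 1)) : x = 0 := by
  haveI : Projective (ModuleCat.of A (σ →₀ A)) :=
    (IsProjective.iff_projective _).mp inferInstance
  exact Ext.eq_zero_of_projective x

theorem exists_presentation (M : Type u) [AddCommGroup M] [Module A M] [Module.Finite A M] :
    ∃ (σ : Type u) (_ : Finite σ) (π : (σ →₀ A) →ₗ[A] M), Function.Surjective π := by
  obtain ⟨σ, hσ⟩ := (inferInstance : Module.Finite A M).fg_top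
  refine ⟨σ, inferInstance, Finsupp.linearCombination A ((↑) : σ → M), ?_⟩
  exact LinearMap.range_eq_top.mp
    (by rw [Finsupp.range_linearCombination, Subtype.range_val, ← hσ])

end Vanish

/-- `Hom(M, A) ≃ Ext^0(M, A)` -/
noncomputable def homExt₀ (M : Type u) [AddCommGroup M] [Module A M] :
    (M →ₗ[A] A) ≃ₗ[A] Ext (ModuleCat.of A M) (ModuleCat.of A A) 0 :=
  (ModuleCat.homLinearEquiv (S := A) (M := ModuleCat.of A M) (N := ModuleCat.of A A)).symm ≪≫ₗ
    (Ext.linearEquiv₀ (R := A)).symm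

theorem homExt₀_apply (M : Type u) [AddCommGroup M] [Module A M] (φ : M →ₗ[A] A) :
    homExt₀ M φ = Ext.mk₀ (ModuleCat.ofHom φ) := rfl

section Dual

variable (c : (T₁ A d).obj (ModuleCat.of A A) ≃ₗ[A] (T₂ A E).obj (ModuleCat.of A A))
  [Module.Injective A E]

include c hd in
/-- level zero -/
theorem dual_zero (M : Type u) [AddCommGroup M] [Module A M] [Module.Finite A M] :
    Nonempty ((localCohomology (maximalIdeal A) d).obj (ModuleCat.of A M) ≃ₗ[A]
      (Ext (ModuleCat.of A M) (ModuleCat.of A A) 0 →ₗ[A] E)) :=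
  ⟨θ c hd M ≪≫ₗ LinearEquiv.congrLeft E A (homExt₀ M)⟩

include hd in
/-- dimension shifting -/
theorem dual_shift (i j : ℕ) (hj : 1 ≤ j) (hlt : i + 1 < d)
    (ih : ∀ (N : Type u) [AddCommGroup N] [Module A N] [Module.Finite A N],
      Nonempty ((localCohomology (maximalIdeal A) (i + 1)).obj (ModuleCat.of A N) ≃ₗ[A]
        (Ext (ModuleCat.of A N) (ModuleCat.of A A) j →ₗ[A] E)))
    (M : Type u) [AddCommGroup M] [Module A M] [Module.Finite A M] :
    Nonempty ((localCohomology (maximalIdeal A) i).obj (ModuleCat.of A M) ≃ₗ[A]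
      (Ext (ModuleCat.of A M) (ModuleCat.of A A) (j + 1) →ₗ[A] E)) := by
  obtain ⟨σ, hσ, π, hπ⟩ := exists_presentation (A := A) M
  haveI : IsNoetherian A (σ →₀ A) := isNoetherian_of_isNoetherianRing_of_finite A _
  haveI : Module.Finite A (LinearMap.ker π) := inferInstance
  have hS := shortExact_of (R := A) (A := LinearMap.ker π) (B := (σ →₀ A)) (C := M)
    (LinearMap.ker π).subtype π (Submodule.injective_subtype _) hπ
    (LinearMap.exact_subtype_ker_map π)
  -- local cohomology side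
  haveI h1 := subsingleton_H_finsupp hd σ i (by omega)
  haveI h2 := subsingleton_H_finsupp hd σ (i + 1) hlt
  have hδ : Function.Bijective (δ (maximalIdeal A) i hS) := by
    constructor
    · rw [injective_iff_map_eq_zero]
      intro x hx
      obtain ⟨x₂, rfl⟩ := exact₃ (maximalIdeal A) i hS x hx
      rw [Subsingleton.elim x₂ 0, map_zero]
    · intro y
      exact exact₁ (maximalIdeal A) i hS y (Subsingleton.elim _ _)
  -- Ext side
  have h1j : 1 + j = j + 1 := by omega
  let δE : Ext (ModuleCat.of A (LinearMap.ker π)) (ModuleCat.of A A) j →ₗ[A]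
      Ext (ModuleCat.of A M) (ModuleCat.of A A) (j + 1) :=
    Ext.precompOfLinear hS.extClass A (ModuleCat.of A A) h1j
  have hδE : Function.Bijective δE := by
    obtain ⟨j', rfl⟩ : ∃ j', j = j' + 1 := ⟨j - 1, by omega⟩
    constructor
    · rw [injective_iff_map_eq_zero]
      intro x hx
      obtain ⟨x₂, rfl⟩ := Ext.contravariant_sequence_exact₁ hS _ x h1j hx
      rw [ext_finsupp_eq_zero σ _ j' x₂, Ext.comp_zero]
    · intro y
      obtain ⟨x₁, hx₁⟩ := Ext.contravariant_sequence_exact₃ hS _ y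
        (ext_finsupp_eq_zero σ _ (j' + 1) _) h1j
      exact ⟨x₁, hx₁⟩
  obtain ⟨e⟩ := ih (LinearMap.ker π)
  exact ⟨LinearEquiv.ofBijective _ hδ ≪≫ₗ e ≪≫ₗ
    LinearEquiv.congrLeft E A (LinearEquiv.ofBijective δE hδE)⟩

end Dual

section Pieces

/-- kernels correspond under compatible equivalences -/
theorem nonempty_kerEquiv {R : Type*} [CommRing R] {X X' Y Y' : Type*} [AddCommGroup X]
    [Module R X] [AddCommGroup X'] [Module R X'] [AddCommGroup Y] [Module R Y] [AddCommGroup Y']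
    [Module R Y'] (a : X →ₗ[R] Y) (a' : X' →ₗ[R] Y') (e : X ≃ₗ[R] X') (e' : Y ≃ₗ[R] Y')
    (h : ∀ x, a' (e x) = e' (a x)) : Nonempty (LinearMap.ker a ≃ₗ[R] LinearMap.ker a') := by
  have hmaps : ∀ x ∈ LinearMap.ker a, e.toLinearMap x ∈ LinearMap.ker a' := by
    intro x hx
    rw [LinearMap.mem_ker] at hx ⊢
    rw [LinearEquiv.coe_coe, h, hx, map_zero]
  have hbij : Function.Bijective (e.toLinearMap.restrict hmaps) := by
    constructor
    · intro x y hxy
      have := congrArg Subtype.val hxy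
      exact Subtype.ext (e.injective this)
    · rintro ⟨y, hy⟩
      refine ⟨⟨e.symm y, ?_⟩, ?_⟩
      · rw [LinearMap.mem_ker] at hy ⊢
        apply e'.injective
        rw [← h, LinearEquiv.apply_symm_apply, hy, map_zero]
      · apply Subtype.ext
        exact e.apply_symm_apply y
  exact ⟨LinearEquiv.ofBijective _ hbij⟩

/-- `H^k(X₃) ≃ ker(H^{k+1}(X₁) → H^{k+1}(X₂))` when `H^k(X₂) = 0` -/
theorem nonempty_equiv_ker_of_subsingleton {R : Type u} [CommRing R] (I : Ideal R) (k : ℕ)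
    {S : ShortComplex (ModuleCat.{u} R)} (hS : S.ShortExact)
    [Subsingleton ((localCohomology I k).obj S.X₂)] :
    Nonempty ((localCohomology I k).obj S.X₃ ≃ₗ[R]
      LinearMap.ker ((localCohomology I (k + 1)).map S.f).hom) := by
  have hmem : ∀ x, δ I k hS x ∈ LinearMap.ker ((localCohomology I (k + 1)).map S.f).hom :=
    fun x => map_f_δ I k hS x
  have he₁ : Function.Bijective ((δ I k hS).codRestrict _ hmem) := by
    constructor
    · rw [injective_iff_map_eq_zero]
      intro x hx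
      have hx' : δ I k hS x = 0 := congrArg Subtype.val hx
      obtain ⟨x₂, rfl⟩ := exact₃ I k hS x hx'
      rw [Subsingleton.elim x₂ 0, map_zero]
    · rintro ⟨y, hy⟩
      obtain ⟨x, hx⟩ := exact₁ I k hS y hy
      exact ⟨x, Subtype.ext hx⟩
  exact ⟨LinearEquiv.ofBijective _ he₁⟩

/-- `Hom(Ext^1(X₃,Y),E) ≃ {χ : Hom(Hom(X₁,Y),E) | χ kills the image of Hom(X₂,Y)}` when
`Ext^1(X₂,Y) = 0`. -/
theorem nonempty_extOne_equiv {R : Type u} [CommRing R] {N F M Y : Type u} [AddCommGroup N]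
    [Module R N] [AddCommGroup F] [Module R F] [AddCommGroup M] [Module R M] [AddCommGroup Y]
    [Module R Y] (E : Type u) [AddCommGroup E] [Module R E]
    (ι : N →ₗ[R] F) (π : F →ₗ[R] M) (hι : Function.Injective ι) (hπ : Function.Surjective π)
    (hex : Function.Exact ι π)
    (hF : ∀ x : Ext (ModuleCat.of R F) (ModuleCat.of R Y) 1, x = 0) :
    Nonempty ((Ext (ModuleCat.of R M) (ModuleCat.of R Y) 1 →ₗ[R] E) ≃ₗ[R]
      LinearMap.ker (LinearMap.lcomp R E (LinearMap.lcomp R Y ι))) := by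
  have hS := shortExact_of ι π hι hπ hex
  have h10 : 1 + 0 = 1 := rfl
  let e₀N : (N →ₗ[R] Y) ≃ₗ[R] Ext (ModuleCat.of R N) (ModuleCat.of R Y) 0 :=
    (ModuleCat.homLinearEquiv (S := R) (M := ModuleCat.of R N) (N := ModuleCat.of R Y)).symm ≪≫ₗ
      (Ext.linearEquiv₀ (R := R)).symm
  let e₀F : (F →ₗ[R] Y) ≃ₗ[R] Ext (ModuleCat.of R F) (ModuleCat.of R Y) 0 :=
    (ModuleCat.homLinearEquiv (S := R) (M := ModuleCat.of R F) (N := ModuleCat.of R Y)).symm ≪≫ₗ
      (Ext.linearEquiv₀ (R := R)).symm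
  have he₀N : ∀ φ, e₀N φ = Ext.mk₀ (ModuleCat.ofHom φ) := fun φ => rfl
  have he₀F : ∀ φ, e₀F φ = Ext.mk₀ (ModuleCat.ofHom φ) := fun φ => rfl
  let dE : (N →ₗ[R] Y) →ₗ[R] Ext (ModuleCat.of R M) (ModuleCat.of R Y) 1 :=
    (Ext.precompOfLinear hS.extClass R (ModuleCat.of R Y) h10) ∘ₗ e₀N.toLinearMap
  have hdE : ∀ φ, dE φ = hS.extClass.comp (e₀N φ) h10 := fun φ => rfl
  have hdEsurj : Function.Surjective dE := by
    intro y
    obtain ⟨x₁, hx₁⟩ := Ext.contravariant_sequence_exact₃ hS _ y (hF _) h10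
    refine ⟨e₀N.symm x₁, ?_⟩
    rw [hdE, LinearEquiv.apply_symm_apply]
    exact hx₁
  have hdEker : ∀ φ, dE φ = 0 → ∃ ψ : F →ₗ[R] Y, φ = ψ ∘ₗ ι := by
    intro φ hφ
    rw [hdE] at hφ
    obtain ⟨x₂, hx₂⟩ := Ext.contravariant_sequence_exact₁ hS _ _ h10 hφ
    obtain ⟨ψ, rfl⟩ : ∃ ψ : F →ₗ[R] Y, x₂ = Ext.mk₀ (ModuleCat.ofHom ψ) :=
      ⟨e₀F.symm x₂, by rw [← he₀F, LinearEquiv.apply_symm_apply]⟩
    refine ⟨ψ, ?_⟩
    apply e₀N.injective
    rw [← hx₂, he₀N]
    exact Ext.mk₀_comp_mk₀ (ModuleCat.ofHom ι) (ModuleCat.ofHom ψ)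
  have hdEcomp : ∀ ψ : F →ₗ[R] Y, dE (ψ ∘ₗ ι) = 0 := by
    intro ψ
    rw [hdE, he₀N]
    have : Ext.mk₀ (ModuleCat.ofHom (ψ ∘ₗ ι)) =
        (Ext.mk₀ (ModuleCat.ofHom ι)).comp (Ext.mk₀ (ModuleCat.ofHom ψ)) (zero_add 0) := by
      rw [Ext.mk₀_comp_mk₀]; rfl
    rw [this]
    exact hS.extClass_comp_assoc _
  let Φ : (Ext (ModuleCat.of R M) (ModuleCat.of R Y) 1 →ₗ[R] E) →ₗ[R] ((N →ₗ[R] Y) →ₗ[R] E) :=
    LinearMap.lcomp R E dE
  have hΦmem : ∀ ξ, Φ ξ ∈ LinearMap.ker (LinearMap.lcomp R E (LinearMap.lcomp R Y ι)) := by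
    intro ξ
    rw [LinearMap.mem_ker]
    apply LinearMap.ext
    intro ψ
    change ξ (dE (ψ ∘ₗ ι)) = 0
    rw [hdEcomp, map_zero]
  have he₃ : Function.Bijective (Φ.codRestrict _ hΦmem) := by
    constructor
    · rw [injective_iff_map_eq_zero]
      intro ξ hξ
      have hξ' : Φ ξ = 0 := congrArg Subtype.val hξ
      apply LinearMap.ext
      intro y
      obtain ⟨φ, rfl⟩ := hdEsurj y
      exact LinearMap.congr_fun hξ' φ
    · rintro ⟨χ, hχ⟩
      have hle : LinearMap.ker dE ≤ LinearMap.ker χ := by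
        intro φ hφ
        obtain ⟨ψ, rfl⟩ := hdEker φ hφ
        exact LinearMap.congr_fun hχ ψ
      refine ⟨(LinearMap.ker dE).liftQ χ hle ∘ₗ
        (dE.quotKerEquivOfSurjective hdEsurj).symm.toLinearMap, ?_⟩
      apply Subtype.ext
      apply LinearMap.ext
      intro φ
      change ((LinearMap.ker dE).liftQ χ hle)
        ((dE.quotKerEquivOfSurjective hdEsurj).symm (dE φ)) = χ φ
      have : (dE.quotKerEquivOfSurjective hdEsurj).symm (dE φ) = Submodule.Quotient.mk φ := by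
        rw [LinearEquiv.symm_apply_eq]; rfl
      rw [this]
      rfl
  exact ⟨LinearEquiv.ofBijective _ he₃⟩

end Pieces


section Theta2

variable (c : (T₁ A d).obj (ModuleCat.of A A) ≃ₗ[A] (T₂ A E).obj (ModuleCat.of A A))
  [Module.Injective A E]

include c hd in
theorem nonempty_kerEquiv_T {M N : Type u} [AddCommGroup M] [Module A M] [Module.Finite A M]
    [AddCommGroup N] [Module A N] [Module.Finite A N] (g : M →ₗ[A] N) :
    Nonempty (LinearMap.ker ((T₁ A d).map (ModuleCat.ofHom g)).hom ≃ₗ[A]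
      LinearMap.ker (LinearMap.lcomp A E (LinearMap.lcomp A A g))) := by
  rw [← T₂_map_hom (E := E) g]
  exact nonempty_kerEquiv _ _ (θ c hd M) (θ c hd N) (fun x => θ_naturality hd c g x)

end Theta2

end Groth.Agent.H2.GorDuality
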