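import Mathlib
import Groth.Agent.H2.GorDualityBase

/-!
# Local duality over a Gorenstein local ring, final statement  (helper2)

`H^i_m(M) ≃ Hom(Ext^{d-i}(M, A), E)` for finite `M` over a Gorenstein local ring `A` of dimension
`d`, `E` an injective hull of the residue field.
-/

set_option autoImplicit false
set_option maxHeartbeats 400000
set_option linter.unusedSectionVars false
set_option linter.style.haveILetI false

namespace Groth.Agent.H2.GorDuality

universe u

open CategoryTheory Abelian IsLocalRing TensorProduct Groth.Agent.H58.LC Groth.Agent.H2.Watts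
  Groth.Agent.H2.WattsLC

variable {A : Type u} [CommRing A] [LocCoh.IsGorensteinLocalRing A] {d : ℕ}
variable {E : Type u} [AddCommGroup E] [Module A E]

section DualOne

variable {k : ℕ} (hk : ringKrullDim A = (k + 1 : ℕ))
  (c : (T₁ A (k + 1)).obj (ModuleCat.of A A) ≃ₗ[A] (T₂ A E).obj (ModuleCat.of A A))
  [Module.Injective A E]

include c hk in
/-- level one -/
theorem dual_one (M : Type u) [AddCommGroup M] [Module A M] [Module.Finite A M] :
    Nonempty ((localCohomology (maximalIdeal A) k).obj (ModuleCat.of A M) ≃ₗ[A]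
      (Ext (ModuleCat.of A M) (ModuleCat.of A A) 1 →ₗ[A] E)) := by
  obtain ⟨σ, hσ, π, hπ⟩ := exists_presentation (A := A) M
  haveI : IsNoetherian A (σ →₀ A) := isNoetherian_of_isNoetherianRing_of_finite A _
  haveI : Module.Finite A (LinearMap.ker π) := inferInstance
  have hS := shortExact_of (R := A) (A := LinearMap.ker π) (B := (σ →₀ A)) (C := M)
    (LinearMap.ker π).subtype π (Submodule.injective_subtype _) hπ
    (LinearMap.exact_subtype_ker_map π)
  have h1 : Subsingleton ((localCohomology (maximalIdeal A) k).obj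
      (ModuleCat.of A (σ →₀ A))) :=
    subsingleton_H_finsupp hk σ k (Nat.lt_succ_self k)
  obtain ⟨e₁⟩ := @nonempty_equiv_ker_of_subsingleton _ _ (maximalIdeal A) k _ hS h1
  obtain ⟨e₂⟩ := nonempty_kerEquiv_T (M := LinearMap.ker π) (N := (σ →₀ A)) hk c
    (LinearMap.ker π).subtype
  obtain ⟨e₃⟩ := nonempty_extOne_equiv (N := LinearMap.ker π) (F := (σ →₀ A)) (M := M) (Y := A) E
    (LinearMap.ker π).subtype π
    (Submodule.injective_subtype _) hπ (LinearMap.exact_subtype_ker_map π)
    (fun x => ext_finsupp_eq_zero σ _ 0 x)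
  exact ⟨e₁ ≪≫ₗ e₂ ≪≫ₗ e₃.symm⟩

end DualOne

/-- **Local duality for Gorenstein local rings.** -/
theorem nonempty_dual (A : Type u) [CommRing A] [LocCoh.IsGorensteinLocalRing A] (d : ℕ)
    (hd : ringKrullDim A = d) (E : Type u) [AddCommGroup E] [Module A E]
    (f : ResidueField A →ₗ[A] E) (hf : InjHull.IsInjectiveHull f) :
    ∀ (j i : ℕ), i + j = d → ∀ (M : Type u) [AddCommGroup M] [Module A M] [Module.Finite A M],
      Nonempty ((localCohomology (maximalIdeal A) i).obj (ModuleCat.of A M) ≃ₗ[A]
        (Ext (ModuleCat.of A M) (ModuleCat.of A A) j →ₗ[A] E)) := by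
  haveI : Module.Injective A E := hf.isInjective
  obtain ⟨c⟩ := exists_cEquiv A d hd E f hf
  intro j
  induction j with
  | zero =>
    intro i hi M _ _ _
    obtain rfl : i = d := by omega
    exact dual_zero hd c M
  | succ j ih =>
    intro i hi M _ _ _
    rcases Nat.eq_zero_or_pos j with h0 | hpos
    · subst h0
      obtain rfl : d = i + 1 := by omega
      exact dual_one hd c M
    · exact dual_shift hd i j hpos (by omega) (fun N _ _ _ => ih (i + 1) (by omega) N) M

end Groth.Agent.H2.GorDuality
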