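import Mathlib
import Groth.Agent.H2.GorDuality

/-!
# Local duality with a "canonical module"  (helper2)

`A` Noetherian local of dimension `d` with `H^i_m(A) = 0` for `i < d` (e.g. Cohen–Macaulay),
`E` injective, `K` a module with `H^d_m(A) ≃ Hom(K, E)`.  Then for all finite `M`:
`H^i_m(M) ≃ Hom(Ext^{d-i}(M, K), E)`.

This generalizes `Groth.Agent.H2.GorDuality` (where `K = A`).
-/

set_option autoImplicit false
set_option maxHeartbeats 400000
set_option linter.unusedSectionVars false
set_option linter.style.haveILetI false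

namespace Groth.Agent.H2.CanonDuality

universe u

open CategoryTheory Abelian IsLocalRing TensorProduct Groth.Agent.H58.LC Groth.Agent.H2.Watts
  Groth.Agent.H2.WattsLC Groth.Agent.H2.GorDuality

variable {A : Type u} [CommRing A] [IsNoetherianRing A] [IsLocalRing A] {d : ℕ}
variable {E : Type u} [AddCommGroup E] [Module A E]
variable {K : Type u} [AddCommGroup K] [Module A K]

/-- `T₁ = H^d_m` -/
noncomputable abbrev T₁ (A : Type u) [CommRing A] [IsLocalRing A] (d : ℕ) :
    ModuleCat.{u} A ⥤ ModuleCat.{u} A := localCohomology (maximalIdeal A) d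

/-- `T₂ = Hom(Hom(-,K),E)` -/
noncomputable abbrev T₂ (A : Type u) [CommRing A] (K E : Type u) [AddCommGroup K] [Module A K]
    [AddCommGroup E] [Module A E] : ModuleCat.{u} A ⥤ ModuleCat.{u} A := DD (R := A) K E

/-- from `H^d_m(A) ≃ Hom(K,E)` to `T₁(A) ≃ T₂(A)` -/
noncomputable def cOfEquiv (e : (K →ₗ[A] E) ≃ₗ[A] (T₁ A d).obj (ModuleCat.of A A)) :
    (T₁ A d).obj (ModuleCat.of A A) ≃ₗ[A] (T₂ A K E).obj (ModuleCat.of A A) :=
  e.symm ≪≫ₗ (LinearEquiv.congrLeft E A (LinearMap.ringLmapEquivSelf A A K)).symm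

section Theta

variable (c : (T₁ A d).obj (ModuleCat.of A A) ≃ₗ[A] (T₂ A K E).obj (ModuleCat.of A A))
  [Module.Injective A E]

/-- the natural isomorphism `H^d_m(M) ≃ Hom(Hom(M,K),E)` on finite modules -/
noncomputable def θ (hd : ringKrullDim A = d) (M : Type u) [AddCommGroup M] [Module A M]
    [Module.Finite A M] :
    (T₁ A d).obj (ModuleCat.of A M) ≃ₗ[A] (T₂ A K E).obj (ModuleCat.of A M) :=
  (LinearEquiv.ofBijective (α (T₁ A d) (ModuleCat.of A M))
    (α_bijective (T₁ A d) (rightExact_localCohomology (maximalIdeal A) d hd.le) M)).symm ≪≫ₗ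
  (TensorProduct.congr (LinearEquiv.refl A M) c) ≪≫ₗ
  (LinearEquiv.ofBijective (α (T₂ A K E) (ModuleCat.of A M))
    (α_bijective (T₂ A K E) (rightExact_DD K E) M))

theorem θ_α (hd : ringKrullDim A = d) (M : Type u) [AddCommGroup M] [Module A M]
    [Module.Finite A M] (z : M ⊗[A] (T₁ A d).obj (ModuleCat.of A A)) :
    θ c hd M (α (T₁ A d) (ModuleCat.of A M) z) =
      α (T₂ A K E) (ModuleCat.of A M) (c.toLinearMap.lTensor M z) := by
  unfold θ
  rw [LinearEquiv.trans_apply, LinearEquiv.trans_apply]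
  have h1 : (LinearEquiv.ofBijective (α (T₁ A d) (ModuleCat.of A M))
      (α_bijective (T₁ A d) (rightExact_localCohomology (maximalIdeal A) d hd.le) M)).symm
      (α (T₁ A d) (ModuleCat.of A M) z) = z := by
    rw [LinearEquiv.symm_apply_eq]; rfl
  rw [h1]
  rfl

theorem θ_naturality (hd : ringKrullDim A = d) {M N : Type u} [AddCommGroup M] [Module A M]
    [Module.Finite A M] [AddCommGroup N] [Module A N] [Module.Finite A N] (g : M →ₗ[A] N)
    (x : (T₁ A d).obj (ModuleCat.of A M)) :
    ((T₂ A K E).map (ModuleCat.ofHom g)).hom (θ c hd M x) =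
      θ c hd N (((T₁ A d).map (ModuleCat.ofHom g)).hom x) := by
  obtain ⟨z, rfl⟩ := (α_bijective (T₁ A d)
    (rightExact_localCohomology (maximalIdeal A) d hd.le) M).2 x
  rw [θ_α, α_naturality, α_naturality, θ_α]
  congr 1
  change (g.rTensor _) ((c.toLinearMap.lTensor M) z) = (c.toLinearMap.lTensor N) ((g.rTensor _) z)
  rw [← LinearMap.comp_apply, ← LinearMap.comp_apply, LinearMap.rTensor_comp_lTensor,
    LinearMap.lTensor_comp_rTensor]

theorem T₂_map_hom {M N : Type u} [AddCommGroup M] [Module A M] [AddCommGroup N] [Module A N]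
    (g : M →ₗ[A] N) : ((T₂ A K E).map (ModuleCat.ofHom g)).hom =
      LinearMap.lcomp A E (LinearMap.lcomp A K g) := rfl

include c in
theorem nonempty_kerEquiv_T (hd : ringKrullDim A = d) {M N : Type u} [AddCommGroup M]
    [Module A M] [Module.Finite A M]
    [AddCommGroup N] [Module A N] [Module.Finite A N] (g : M →ₗ[A] N) :
    Nonempty (LinearMap.ker ((T₁ A d).map (ModuleCat.ofHom g)).hom ≃ₗ[A]
      LinearMap.ker (LinearMap.lcomp A E (LinearMap.lcomp A K g))) := by
  rw [← T₂_map_hom (E := E) (K := K) g]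
  exact nonempty_kerEquiv _ _ (θ c hd M) (θ c hd N) (fun x => θ_naturality c hd g x)

end Theta

theorem ext_finsupp_eq_zero' {R : Type u} [CommRing R] (σ : Type u) (Y : ModuleCat.{u} R) (j : ℕ)
    (x : Ext (ModuleCat.of R (σ →₀ R)) Y (j + 1)) : x = 0 := by
  haveI : Projective (ModuleCat.of R (σ →₀ R)) :=
    (IsProjective.iff_projective _).mp inferInstance
  exact Ext.eq_zero_of_projective x

theorem exists_presentation' {R : Type u} [CommRing R] (M : Type u) [AddCommGroup M] [Module R M]
    [Module.Finite R M] :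
    ∃ (σ : Type u) (_ : Finite σ) (π : (σ →₀ R) →ₗ[R] M), Function.Surjective π := by
  obtain ⟨σ, hσ⟩ := (inferInstance : Module.Finite R M).fg_top
  refine ⟨σ, inferInstance, Finsupp.linearCombination R ((↑) : σ → M), ?_⟩
  exact LinearMap.range_eq_top.mp
    (by rw [Finsupp.range_linearCombination, Subtype.range_val, ← hσ])

/-- `Hom(M, K) ≃ Ext^0(M, K)` -/
noncomputable def homExt₀ (M : Type u) [AddCommGroup M] [Module A M] :
    (M →ₗ[A] K) ≃ₗ[A] Ext (ModuleCat.of A M) (ModuleCat.of A K) 0 :=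
  (ModuleCat.homLinearEquiv (S := A) (M := ModuleCat.of A M) (N := ModuleCat.of A K)).symm ≪≫ₗ
    (Ext.linearEquiv₀ (R := A)).symm

section Dual

variable (hd : ringKrullDim A = d)
  (hvan : ∀ i, i < d → Subsingleton ((localCohomology (maximalIdeal A) i).obj (ModuleCat.of A A)))
  (c : (T₁ A d).obj (ModuleCat.of A A) ≃ₗ[A] (T₂ A K E).obj (ModuleCat.of A A))
  [Module.Injective A E]

include hvan in
theorem subsingleton_H_finsupp (σ : Type u) [Finite σ] (i : ℕ) (hi : i < d) :
    Subsingleton ((localCohomology (maximalIdeal A) i).obj (ModuleCat.of A (σ →₀ A))) := by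
  haveI : Subsingleton ((localCohomology (maximalIdeal A) i).obj (ModuleCat.of A A)) := hvan i hi
  exact LCAnnih.subsingleton_H_finsupp (maximalIdeal A) i σ

include c hd in
/-- level zero -/
theorem dual_zero (M : Type u) [AddCommGroup M] [Module A M] [Module.Finite A M] :
    Nonempty ((localCohomology (maximalIdeal A) d).obj (ModuleCat.of A M) ≃ₗ[A]
      (Ext (ModuleCat.of A M) (ModuleCat.of A K) 0 →ₗ[A] E)) :=
  ⟨θ c hd M ≪≫ₗ LinearEquiv.congrLeft E A (homExt₀ M)⟩

include hvan in
/-- dimension shifting -/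
theorem dual_shift (i j : ℕ) (hj : 1 ≤ j) (hlt : i + 1 < d)
    (ih : ∀ (N : Type u) [AddCommGroup N] [Module A N] [Module.Finite A N],
      Nonempty ((localCohomology (maximalIdeal A) (i + 1)).obj (ModuleCat.of A N) ≃ₗ[A]
        (Ext (ModuleCat.of A N) (ModuleCat.of A K) j →ₗ[A] E)))
    (M : Type u) [AddCommGroup M] [Module A M] [Module.Finite A M] :
    Nonempty ((localCohomology (maximalIdeal A) i).obj (ModuleCat.of A M) ≃ₗ[A]
      (Ext (ModuleCat.of A M) (ModuleCat.of A K) (j + 1) →ₗ[A] E)) := by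
  obtain ⟨σ, hσ, π, hπ⟩ := exists_presentation' (R := A) M
  haveI : IsNoetherian A (σ →₀ A) := isNoetherian_of_isNoetherianRing_of_finite A _
  haveI : Module.Finite A (LinearMap.ker π) := inferInstance
  have hS := shortExact_of (R := A) (A := LinearMap.ker π) (B := (σ →₀ A)) (C := M)
    (LinearMap.ker π).subtype π (Submodule.injective_subtype _) hπ
    (LinearMap.exact_subtype_ker_map π)
  -- local cohomology side
  haveI h1 := subsingleton_H_finsupp hvan σ i (by omega)
  haveI h2 := subsingleton_H_finsupp hvan σ (i + 1) hlt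
  have hδ : Function.Bijective (δ (maximalIdeal A) i hS) := by
    constructor
    · rw [injective_iff_map_eq_zero]
      intro x hx
      obtain ⟨x₂, rfl⟩ := exact₃ (maximalIdeal A) i hS x hx
      rw [Subsingleton.elim x₂ 0, map_zero]
    · intro y
      exact exact₁ (maximalIdeal A) i hS y (Subsingleton.elim _ _)
  -- Ext side
  have h1j : 1 + j = j + 1 := by omega
  let δE : Ext (ModuleCat.of A (LinearMap.ker π)) (ModuleCat.of A K) j →ₗ[A]
      Ext (ModuleCat.of A M) (ModuleCat.of A K) (j + 1) :=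
    Ext.precompOfLinear hS.extClass A (ModuleCat.of A K) h1j
  have hδE : Function.Bijective δE := by
    obtain ⟨j', rfl⟩ : ∃ j', j = j' + 1 := ⟨j - 1, by omega⟩
    constructor
    · rw [injective_iff_map_eq_zero]
      intro x hx
      obtain ⟨x₂, rfl⟩ := Ext.contravariant_sequence_exact₁ hS _ x h1j hx
      rw [ext_finsupp_eq_zero' σ _ j' x₂, Ext.comp_zero]
    · intro y
      obtain ⟨x₁, hx₁⟩ := Ext.contravariant_sequence_exact₃ hS _ y
        (ext_finsupp_eq_zero' σ _ (j' + 1) _) h1j
      exact ⟨x₁, hx₁⟩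
  obtain ⟨e⟩ := ih (LinearMap.ker π)
  exact ⟨LinearEquiv.ofBijective _ hδ ≪≫ₗ e ≪≫ₗ
    LinearEquiv.congrLeft E A (LinearEquiv.ofBijective δE hδE)⟩

end Dual

section DualOne

variable {k : ℕ} (hk : ringKrullDim A = (k + 1 : ℕ))
  (hvan : ∀ i, i < k + 1 →
    Subsingleton ((localCohomology (maximalIdeal A) i).obj (ModuleCat.of A A)))
  (c : (T₁ A (k + 1)).obj (ModuleCat.of A A) ≃ₗ[A] (T₂ A K E).obj (ModuleCat.of A A))
  [Module.Injective A E]

include c hk hvan in
/-- level one -/
theorem dual_one (M : Type u) [AddCommGroup M] [Module A M] [Module.Finite A M] :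
    Nonempty ((localCohomology (maximalIdeal A) k).obj (ModuleCat.of A M) ≃ₗ[A]
      (Ext (ModuleCat.of A M) (ModuleCat.of A K) 1 →ₗ[A] E)) := by
  obtain ⟨σ, hσ, π, hπ⟩ := exists_presentation' (R := A) M
  haveI : IsNoetherian A (σ →₀ A) := isNoetherian_of_isNoetherianRing_of_finite A _
  haveI : Module.Finite A (LinearMap.ker π) := inferInstance
  have hS := shortExact_of (R := A) (A := LinearMap.ker π) (B := (σ →₀ A)) (C := M)
    (LinearMap.ker π).subtype π (Submodule.injective_subtype _) hπ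
    (LinearMap.exact_subtype_ker_map π)
  have h1 : Subsingleton ((localCohomology (maximalIdeal A) k).obj
      (ModuleCat.of A (σ →₀ A))) :=
    subsingleton_H_finsupp hvan σ k (Nat.lt_succ_self k)
  obtain ⟨e₁⟩ := @nonempty_equiv_ker_of_subsingleton _ _ (maximalIdeal A) k _ hS h1
  obtain ⟨e₂⟩ := nonempty_kerEquiv_T (M := LinearMap.ker π) (N := (σ →₀ A)) c hk
    (LinearMap.ker π).subtype
  obtain ⟨e₃⟩ := nonempty_extOne_equiv (N := LinearMap.ker π) (F := (σ →₀ A)) (M := M) (Y := K) E
    (LinearMap.ker π).subtype π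
    (Submodule.injective_subtype _) hπ (LinearMap.exact_subtype_ker_map π)
    (fun x => ext_finsupp_eq_zero' σ _ 0 x)
  exact ⟨e₁ ≪≫ₗ e₂ ≪≫ₗ e₃.symm⟩

end DualOne

/-- **Local duality with a canonical module.** -/
theorem nonempty_dual (A : Type u) [CommRing A] [IsNoetherianRing A] [IsLocalRing A] (d : ℕ)
    (hd : ringKrullDim A = d)
    (hvan : ∀ i, i < d →
      Subsingleton ((localCohomology (maximalIdeal A) i).obj (ModuleCat.of A A)))
    (E : Type u) [AddCommGroup E] [Module A E] [Module.Injective A E]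
    (K : Type u) [AddCommGroup K] [Module A K]
    (e : (K →ₗ[A] E) ≃ₗ[A] (localCohomology (maximalIdeal A) d).obj (ModuleCat.of A A)) :
    ∀ (j i : ℕ), i + j = d → ∀ (M : Type u) [AddCommGroup M] [Module A M] [Module.Finite A M],
      Nonempty ((localCohomology (maximalIdeal A) i).obj (ModuleCat.of A M) ≃ₗ[A]
        (Ext (ModuleCat.of A M) (ModuleCat.of A K) j →ₗ[A] E)) := by
  have c := cOfEquiv (d := d) e
  intro j
  induction j with
  | zero =>
    intro i hi M _ _ _
    obtain rfl : i = d := by omega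
    exact dual_zero hd c M
  | succ j ih =>
    intro i hi M _ _ _
    rcases Nat.eq_zero_or_pos j with h0 | hpos
    · subst h0
      obtain rfl : d = i + 1 := by omega
      exact dual_one hd hvan c M
    · exact dual_shift hvan i j hpos (by omega) (fun N _ _ _ => ih (i + 1) (by omega) N) M

end Groth.Agent.H2.CanonDuality
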