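import Mathlib
import Groth.Agent.H2.CanonDuality
import Groth.Agent.H30.Matlis
import Groth.Agent.H58.NV.Main
import Groth.Agent.H58.LCGV
import Groth.Agent.H29.InjDim
import Groth.Agent.H2.DepthExtIso
import Groth.Agent.H29.CM

/-!
# Basic properties of a canonical module over a Cohen–Macaulay local ring  (helper2)

`A` Noetherian local of dimension `d` with `H^i_m(A) = 0` for `i < d`, `E` an injective hull of the
residue field, `K` a finite module with `Hom(K, E) ≃ H^d_m(A)`.
-/

set_option autoImplicit false
set_option maxHeartbeats 400000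
set_option linter.unusedSectionVars false
set_option linter.style.haveILetI false

namespace Groth.Agent.H2.CanonModule

universe u

open CategoryTheory Abelian IsLocalRing Groth.Agent.H58.LC Groth.Agent.H2.GorDuality
  Groth.Agent.H2.CanonDuality

variable {A : Type u} [CommRing A] [IsNoetherianRing A] [IsLocalRing A] {d : ℕ}
variable {E : Type u} [AddCommGroup E] [Module A E]
  (f : ResidueField A →ₗ[A] E) (hf : InjHull.IsInjectiveHull f)
variable {K : Type u} [AddCommGroup K] [Module A K]

include hf in
/-- `E` is a cogenerator -/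
theorem subsingleton_of_subsingleton_dual (X : Type u) [AddCommGroup X] [Module A X]
    (h : Subsingleton (X →ₗ[A] E)) : Subsingleton X := by
  constructor
  intro x y
  apply Groth.Agent.H30.Matlis.applyₗ_injective f hf X
  apply LinearMap.ext
  intro φ
  rw [Subsingleton.elim φ 0]
  rfl

include hf in
theorem subsingleton_of_equiv_dual (X H : Type u) [AddCommGroup X] [Module A X] [AddCommGroup H]
    [Module A H] (e : H ≃ₗ[A] (X →ₗ[A] E)) (h : Subsingleton H) : Subsingleton X :=
  subsingleton_of_subsingleton_dual f hf X e.symm.toEquiv.subsingleton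

include hf in
theorem nontrivial_of_equiv_dual (X H : Type u) [AddCommGroup X] [Module A X] [AddCommGroup H]
    [Module A H] (e : H ≃ₗ[A] (X →ₗ[A] E)) (h : Nontrivial H) : Nontrivial X := by
  by_contra hcon
  rw [not_nontrivial_iff_subsingleton] at hcon
  have : Subsingleton (X →ₗ[A] E) := ⟨fun φ ψ => LinearMap.ext fun x => by
    rw [Subsingleton.elim x 0, map_zero, map_zero]⟩
  exact not_subsingleton H e.toEquiv.subsingleton

theorem map_f_injective (I : Ideal A) {S : ShortComplex (ModuleCat.{u} A)} (hS : S.ShortExact) :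
    Function.Injective ((localCohomology I 0).map S.f).hom :=
  haveI := hS.mono_f
  map_injective_of_mono I S.f

section Main

variable (hd : ringKrullDim A = d)
  (hvan : ∀ i, i < d → Subsingleton ((localCohomology (maximalIdeal A) i).obj (ModuleCat.of A A)))
  (e : (K →ₗ[A] E) ≃ₗ[A] (localCohomology (maximalIdeal A) d).obj (ModuleCat.of A A))

include hf hd hvan e in
/-- the duality, restated -/
theorem nonempty_dual' (i j : ℕ) (hij : i + j = d) (M : Type u) [AddCommGroup M] [Module A M]
    [Module.Finite A M] :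
    Nonempty ((localCohomology (maximalIdeal A) i).obj (ModuleCat.of A M) ≃ₗ[A]
      (Ext (ModuleCat.of A M) (ModuleCat.of A K) j →ₗ[A] E)) := by
  haveI : Module.Injective A E := hf.isInjective
  exact nonempty_dual A d hd hvan E K e j i hij M

include hf hd hvan e in
/-- `Ext^{d+1}(M, K) = 0` for finite `M` -/
theorem subsingleton_ext_succ (M : Type u) [AddCommGroup M] [Module A M] [Module.Finite A M] :
    Subsingleton (Ext (ModuleCat.of A M) (ModuleCat.of A K) (d + 1)) := by
  haveI : Module.Injective A E := hf.isInjective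
  obtain ⟨σ, hσ, π, hπ⟩ := exists_presentation' (R := A) M
  haveI : IsNoetherian A (σ →₀ A) := isNoetherian_of_isNoetherianRing_of_finite A _
  haveI : Module.Finite A (LinearMap.ker π) := inferInstance
  have hS := shortExact_of (R := A) (A := LinearMap.ker π) (B := (σ →₀ A)) (C := M)
    (LinearMap.ker π).subtype π (Submodule.injective_subtype _) hπ
    (LinearMap.exact_subtype_ker_map π)
  have hinj0 := map_f_injective (maximalIdeal A) hS
  rcases Nat.eq_zero_or_pos d with h0 | hpos
  · subst h0
    obtain ⟨e₃⟩ := nonempty_extOne_equiv (N := LinearMap.ker π) (F := (σ →₀ A)) (M := M) (Y := K) E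
      (LinearMap.ker π).subtype π
      (Submodule.injective_subtype _) hπ (LinearMap.exact_subtype_ker_map π)
      (fun x => ext_finsupp_eq_zero' σ _ 0 x)
    obtain ⟨e₂⟩ := nonempty_kerEquiv_T (M := LinearMap.ker π) (N := (σ →₀ A))
      (cOfEquiv (d := 0) e) hd (LinearMap.ker π).subtype
    have h2 : Subsingleton (LinearMap.ker (LinearMap.lcomp A E (LinearMap.lcomp A K
        (LinearMap.ker π).subtype))) := by
      apply e₂.toEquiv.subsingleton_congr.mp
      constructor
      intro x y
      apply Subtype.ext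
      apply hinj0
      exact (LinearMap.mem_ker.mp x.2).trans (LinearMap.mem_ker.mp y.2).symm
    exact subsingleton_of_subsingleton_dual f hf _ e₃.toEquiv.subsingleton
  · -- `d ≥ 1`
    have hF0 : Subsingleton ((localCohomology (maximalIdeal A) 0).obj
        (ModuleCat.of A (σ →₀ A))) := subsingleton_H_finsupp hvan σ 0 hpos
    have hK0 : Subsingleton ((localCohomology (maximalIdeal A) 0).obj
        (ModuleCat.of A (LinearMap.ker π))) :=
      ⟨fun x y => hinj0 (Subsingleton.elim _ _)⟩
    obtain ⟨e₁⟩ := nonempty_dual' f hf hd hvan e 0 d (by omega) (LinearMap.ker π)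
    have hExt : Subsingleton (Ext (ModuleCat.of A (LinearMap.ker π)) (ModuleCat.of A K) d) :=
      subsingleton_of_equiv_dual f hf _ _ e₁ hK0
    constructor
    intro y y'
    have h1d : 1 + d = d + 1 := by omega
    have key : ∀ z : Ext (ModuleCat.of A M) (ModuleCat.of A K) (d + 1), z = 0 := by
      intro z
      obtain ⟨x₁, hx₁⟩ := Ext.contravariant_sequence_exact₃ hS _ z
        (ext_finsupp_eq_zero' σ _ d _) h1d
      rw [← hx₁, Subsingleton.elim x₁ 0, Ext.comp_zero]
    rw [key y, key y']

include hf hd hvan e in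
/-- `K` has injective dimension at most `d` -/
theorem hasInjectiveDimensionLT [Module.Finite A K] :
    HasInjectiveDimensionLT (ModuleCat.of A K) (d + 1) :=
  Groth.Agent.H29.InjDimL.hasInjectiveDimensionLT_of_ext A d (ModuleCat.of A K)
    (fun I => subsingleton_ext_succ f hf hd hvan e (A ⧸ I))

/-- `H^0_m(A/m) ≠ 0` -/
theorem nontrivial_H0_residue :
    Nontrivial ((localCohomology (maximalIdeal A) 0).obj
      (ModuleCat.of A (A ⧸ maximalIdeal A))) := by
  have htop : DRing.torsionSub (maximalIdeal A) (A ⧸ maximalIdeal A) = ⊤ := by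
    rw [eq_top_iff]
    intro x _
    refine ⟨1, fun a ha => ?_⟩
    rw [pow_one] at ha
    obtain ⟨r, rfl⟩ := Ideal.Quotient.mk_surjective x
    rw [Algebra.smul_def, Ideal.Quotient.algebraMap_eq, ← map_mul, Ideal.Quotient.eq_zero_iff_mem]
    exact Ideal.mul_mem_right _ _ ha
  have e0 := H0equiv (maximalIdeal A) (ModuleCat.of A (A ⧸ maximalIdeal A))
  have hnt : Nontrivial (A ⧸ maximalIdeal A) :=
    Ideal.Quotient.nontrivial_iff.mpr (Ideal.IsPrime.ne_top inferInstance)
  have h2 : Nontrivial (DRing.torsionSub (maximalIdeal A) (A ⧸ maximalIdeal A)) := by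
    obtain ⟨a, b, hab⟩ := hnt
    exact ⟨⟨⟨a, htop ▸ Submodule.mem_top⟩, ⟨b, htop ▸ Submodule.mem_top⟩,
      fun h => hab (congrArg Subtype.val h)⟩⟩
  exact e0.toEquiv.nontrivial

/-- `H^i_m(A/m) = 0` for `i > 0` -/
theorem subsingleton_H_residue (i : ℕ) :
    Subsingleton ((localCohomology (maximalIdeal A) (i + 1)).obj
      (ModuleCat.of A (A ⧸ maximalIdeal A))) := by
  apply subsingleton_of_isPowerTorsion (maximalIdeal A) i
  intro x
  refine ⟨1, fun a ha => ?_⟩
  rw [pow_one] at ha
  obtain ⟨r, rfl⟩ := Ideal.Quotient.mk_surjective x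
  change a • (Ideal.Quotient.mk (maximalIdeal A) r) = 0
  rw [Algebra.smul_def, Ideal.Quotient.algebraMap_eq, ← map_mul, Ideal.Quotient.eq_zero_iff_mem]
  exact Ideal.mul_mem_right _ _ ha

include hf hd hvan e in
theorem subsingleton_ext_residue (i : ℕ) (hi : i < d) :
    Subsingleton (Ext (ModuleCat.of A (A ⧸ maximalIdeal A)) (ModuleCat.of A K) i) := by
  obtain ⟨e₁⟩ := nonempty_dual' f hf hd hvan e (d - i) i (by omega) (A ⧸ maximalIdeal A)
  obtain ⟨j, hj⟩ : ∃ j, d - i = j + 1 := ⟨d - i - 1, by omega⟩
  rw [hj] at e₁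
  exact subsingleton_of_equiv_dual f hf _ _ e₁ (subsingleton_H_residue j)

include hf hd hvan e in
theorem nontrivial_ext_residue :
    Nontrivial (Ext (ModuleCat.of A (A ⧸ maximalIdeal A)) (ModuleCat.of A K) d) := by
  obtain ⟨e₁⟩ := nonempty_dual' f hf hd hvan e 0 d (by omega) (A ⧸ maximalIdeal A)
  exact nontrivial_of_equiv_dual f hf _ _ e₁ nontrivial_H0_residue

include hf hd hvan e in
/-- the injective dimension of `K` is not smaller than `d` -/
theorem not_hasInjectiveDimensionLT : ¬ HasInjectiveDimensionLT (ModuleCat.of A K) d := by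
  intro h
  obtain ⟨x, y, hxy⟩ := nontrivial_ext_residue f hf hd hvan e
  apply hxy
  rw [Ext.eq_zero_of_hasInjectiveDimensionLT x d le_rfl,
    Ext.eq_zero_of_hasInjectiveDimensionLT y d le_rfl]

include hf hd e in
/-- `K ≠ 0` -/
theorem nontrivial_K : Nontrivial K := by
  have h1 : Nontrivial ((localCohomology (maximalIdeal A) d).obj (ModuleCat.of A A)) :=
    Groth.Agent.H58.NV.nonvanishing_ring A d hd
  exact nontrivial_of_equiv_dual f hf K _ e.symm h1

include hf hd hvan e in
/-- `depth K = d` -/
theorem depth_eq [Module.Finite A K] : LocCoh.depth A K = d := by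
  haveI := nontrivial_K f hf hd e
  have hne : maximalIdeal A • (⊤ : Submodule A K) ≠ ⊤ := Groth.Agent.H29.CML.smul_top_ne_top K
  exact (DepthExtIso.idealDepth_eq_iff_ext (maximalIdeal A) K hne d).mpr
    ⟨fun i hi => subsingleton_ext_residue f hf hd hvan e i hi,
      nontrivial_ext_residue f hf hd hvan e⟩

include hf hd hvan e in
/-- `dim K = d` -/
theorem supportDim_eq [Module.Finite A K] : Module.supportDim A K = d := by
  haveI := nontrivial_K f hf hd e
  apply le_antisymm
  · rw [← hd]
    exact Module.supportDim_le_ringKrullDim A K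
  · have h1 := Groth.Agent.H29.CML.depth_le_supportDim (A := A) K
    rw [depth_eq f hf hd hvan e] at h1
    exact_mod_cast h1

include hf hd hvan e in
/-- `K` is Cohen–Macaulay -/
theorem isCohenMacaulayModule [Module.Finite A K] : LocCoh.IsCohenMacaulayModule A K := by
  unfold LocCoh.IsCohenMacaulayModule
  rw [supportDim_eq f hf hd hvan e, depth_eq f hf hd hvan e]
  rfl

end Main

/-- vanishing of `H^i_m(A)` below the dimension for a Cohen–Macaulay local ring -/
theorem hvan_of_isCM (R : Type u) [CommRing R] [LocCoh.IsCohenMacaulayLocalRing R] (n : ℕ)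
    (hn : ringKrullDim R = n) : ∀ j, j < n → Subsingleton
      ((localCohomology (IsLocalRing.maximalIdeal R) j).obj (ModuleCat.of R R)) := by
  have hcm := (inferInstance : LocCoh.IsCohenMacaulayLocalRing R).supportDim_eq_depth
  rw [Module.supportDim_self_eq_ringKrullDim, hn] at hcm
  have hdepth : LocCoh.depth R R = n := by
    have : ((n : ℕ∞) : WithBot ℕ∞) = ((LocCoh.depth R R : ℕ∞) : WithBot ℕ∞) := by
      exact_mod_cast hcm
    exact (WithBot.coe_injective this).symm
  have hne : IsLocalRing.maximalIdeal R • (⊤ : Submodule R R) ≠ ⊤ :=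
    Groth.Agent.H29.CML.smul_top_ne_top R
  exact fun j hj =>
    Groth.Agent.H2.LCInjective.subsingleton_H_of_lt_depth (IsLocalRing.maximalIdeal R) n R hne
      (le_of_eq hdepth.symm) j hj

end Groth.Agent.H2.CanonModule
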