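import Mathlib
import Groth.Agent.H2.CanonModule
import Groth.Agent.H58.LCDepth

/-!
# Canonical modules over CM local rings: regular elements and endomorphisms  (helper2)
-/

set_option autoImplicit false
set_option maxHeartbeats 400000
set_option linter.unusedSectionVars false
set_option linter.style.haveILetI false

namespace Groth.Agent.H2.CanonModule

universe u

open CategoryTheory Abelian IsLocalRing Groth.Agent.H58.LC Groth.Agent.H2.GorDuality
  Groth.Agent.H2.CanonDuality Pointwise

variable {A : Type u} [CommRing A] [IsNoetherianRing A] [IsLocalRing A] {d : ℕ}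
variable {E : Type u} [AddCommGroup E] [Module A E]
  (f : ResidueField A →ₗ[A] E) (hf : InjHull.IsInjectiveHull f)
variable {K : Type u} [AddCommGroup K] [Module A K]
variable (hd : ringKrullDim A = d)
  (hvan : ∀ i, i < d → Subsingleton ((localCohomology (maximalIdeal A) i).obj (ModuleCat.of A A)))
  (e : (K →ₗ[A] E) ≃ₗ[A] (localCohomology (maximalIdeal A) d).obj (ModuleCat.of A A))

omit [IsNoetherianRing A] in
theorem nontrivial_quotSMulTop (a : A) (ha : a ∈ maximalIdeal A) :
    Nontrivial (QuotSMulTop a A) := by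
  apply Submodule.Quotient.nontrivial_iff.mpr
  intro h
  have h1 : (1 : A) ∈ a • (⊤ : Submodule A A) := by rw [h]; exact Submodule.mem_top
  obtain ⟨s, -, hs⟩ := (Submodule.mem_smul_pointwise_iff_exists 1 a ⊤).mp h1
  have : a * s = 1 := hs
  exact (IsLocalRing.mem_maximalIdeal a).mp ha (IsUnit.of_mul_eq_one _ this)

include hd in
theorem exists_supportDim_quotSMulTop (a : A) (ha : a ∈ maximalIdeal A)
    (hreg : IsSMulRegular A a) :
    ∃ s : ℕ, Module.supportDim A (QuotSMulTop a A) = s ∧ s + 1 = d := by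
  have hdim : Module.supportDim A (QuotSMulTop a A) + 1 = Module.supportDim A A :=
    Module.supportDim_quotSMulTop_succ_eq_supportDim hreg ha
  rw [Module.supportDim_self_eq_ringKrullDim, hd] at hdim
  haveI := nontrivial_quotSMulTop a ha
  obtain ⟨s, hs⟩ := Groth.Agent.H29.CML.exists_nat_supportDim_eq (A := A) (QuotSMulTop a A)
  refine ⟨s, hs, ?_⟩
  rw [hs] at hdim
  exact_mod_cast hdim

include hf hd hvan e in
/-- `Hom(M, K) = 0` when `dim M < d` -/
theorem hom_eq_zero_of_supportDim_lt (M : Type u) [AddCommGroup M] [Module A M] [Module.Finite A M]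
    (hM : Module.supportDim A M < (d : WithBot ℕ∞)) (φ : M →ₗ[A] K) : φ = 0 := by
  obtain ⟨e₁⟩ := nonempty_dual' f hf hd hvan e d 0 (by omega) M
  have h0 : Subsingleton ((localCohomology (maximalIdeal A) d).obj (ModuleCat.of A M)) :=
    gv (maximalIdeal A) d M hM
  have h1 : Subsingleton (Ext (ModuleCat.of A M) (ModuleCat.of A K) 0) :=
    subsingleton_of_equiv_dual f hf _ _ e₁ h0
  have h2 : Subsingleton (M →ₗ[A] K) := (homExt₀ (K := K) M).toEquiv.subsingleton
  exact Subsingleton.elim _ _

include hf hd hvan e in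
/-- an `A`-regular element of the maximal ideal is `K`-regular -/
theorem isSMulRegular_K (a : A) (ha : a ∈ maximalIdeal A) (hreg : IsSMulRegular A a) :
    IsSMulRegular K a := by
  obtain ⟨s, hs, hsd⟩ := exists_supportDim_quotSMulTop hd a ha hreg
  have hlt : Module.supportDim A (QuotSMulTop a A) < (d : WithBot ℕ∞) := by
    rw [hs]
    exact_mod_cast (by omega : s < d)
  have key : ∀ x : K, a • x = 0 → x = 0 := by
    intro x hx
    let φ : QuotSMulTop a A →ₗ[A] K :=
      (a • (⊤ : Submodule A A)).liftQ (LinearMap.toSpanSingleton A K x) (by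
        intro r hr
        obtain ⟨s, -, rfl⟩ := (Submodule.mem_smul_pointwise_iff_exists r a ⊤).mp hr
        rw [LinearMap.mem_ker, LinearMap.toSpanSingleton_apply, smul_assoc, smul_comm, hx,
          smul_zero])
    have hφ : φ = 0 := hom_eq_zero_of_supportDim_lt f hf hd hvan e _ hlt φ
    have h1 : φ (Submodule.Quotient.mk 1) = x := by
      change (LinearMap.toSpanSingleton A K x) 1 = x
      rw [LinearMap.toSpanSingleton_apply, one_smul]
    rw [← h1, hφ]
    rfl
  intro x y hxy
  have : a • (x - y) = 0 := by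
    rw [smul_sub]
    exact sub_eq_zero.mpr hxy
  exact sub_eq_zero.mp (key _ this)

include hf hd hvan e in
/-- `Ext^j(K, K) = 0` for `1 ≤ j ≤ d` -/
theorem subsingleton_ext_KK [Module.Finite A K] (j : ℕ) (hj : 1 ≤ j) (hjd : j ≤ d) :
    Subsingleton (Ext (ModuleCat.of A K) (ModuleCat.of A K) j) := by
  haveI := nontrivial_K f hf hd e
  have hne : maximalIdeal A • (⊤ : Submodule A K) ≠ ⊤ := Groth.Agent.H29.CML.smul_top_ne_top K
  have hdepth := depth_eq f hf hd hvan e
  have h0 : Subsingleton ((localCohomology (maximalIdeal A) (d - j)).obj (ModuleCat.of A K)) :=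
    Groth.Agent.H2.LCInjective.subsingleton_H_of_lt_depth (maximalIdeal A) d K hne
      (le_of_eq hdepth.symm) (d - j) (by omega)
  obtain ⟨e₁⟩ := nonempty_dual' f hf hd hvan e (d - j) j (by omega) K
  exact subsingleton_of_equiv_dual f hf _ _ e₁ h0

include hf hd hvan e in
/-- lifting maps `K → K/aK` to endomorphisms of `K` -/
theorem exists_lift [Module.Finite A K] (a : A) (ha : a ∈ maximalIdeal A)
    (hreg : IsSMulRegular A a) (φ : K →ₗ[A] QuotSMulTop a K) :
    ∃ g : K →ₗ[A] K, (a • (⊤ : Submodule A K)).mkQ ∘ₗ g = φ := by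
  have hregK := isSMulRegular_K f hf hd hvan e a ha hreg
  have hS := shortExact_smul K hregK
  have hd1 : 1 ≤ d := by
    obtain ⟨s, -, hsd⟩ := exists_supportDim_quotSMulTop hd a ha hreg
    omega
  haveI := subsingleton_ext_KK f hf hd hvan e 1 le_rfl hd1
  obtain ⟨x₂, hx₂⟩ := Ext.covariant_sequence_exact₃ (ModuleCat.of A K) hS
    (Ext.mk₀ (ModuleCat.ofHom φ)) (zero_add 1) (Subsingleton.elim _ _)
  obtain ⟨g, rfl⟩ := exists_mk₀ x₂
  rw [Ext.mk₀_comp_mk₀] at hx₂
  have h3 := (Ext.mk₀_bijective _ _).1 hx₂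
  refine ⟨g.hom, ?_⟩
  have h4 := congrArg ModuleCat.Hom.hom h3
  exact h4

end Groth.Agent.H2.CanonModule
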