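import Mathlib
import Groth.Agent.H58.LCGV
import Groth.Agent.H58.LCCd
import Groth.Agent.H58.LCColim3
import Groth.Agent.H34.HomNonzero

/-!
# `cd(I) < dim R` from the vanishing of one top local cohomology module  (helper2)
-/

set_option autoImplicit false
set_option linter.unusedSectionVars false
set_option linter.style.haveILetI false

namespace Groth.Agent.H2.CdTop

universe u

open CategoryTheory Groth.Agent.H58.LC

variable {R : Type u} [CommRing R]

/-- a proper enlargement of a prime ideal lowers the dimension of the quotient -/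
theorem ringKrullDim_quotient_lt_of_lt (q : Ideal R) [hq : q.IsPrime] (b : Ideal R) (hqb : q < b)
    (n : ℕ) (h : ringKrullDim (R ⧸ q) ≤ n) : ringKrullDim (R ⧸ b) < n := by
  rw [ringKrullDim_quotient, Order.krullDim_lt_coe_iff]
  intro l
  by_contra hcon
  rw [not_lt] at hcon
  rw [ringKrullDim_quotient] at h
  have hmem : ∀ i, (l i : PrimeSpectrum R) ∈ PrimeSpectrum.zeroLocus (q : Set R) := by
    intro i
    have := (l i).2
    rw [PrimeSpectrum.mem_zeroLocus, SetLike.coe_subset_coe] at this ⊢
    exact hqb.le.trans this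
  let l' : LTSeries (PrimeSpectrum.zeroLocus (q : Set R)) :=
    { length := l.length
      toFun := fun i => ⟨l i, hmem i⟩
      step := fun i => l.step i }
  have hq0 : (⟨q, hq⟩ : PrimeSpectrum R) ∈ PrimeSpectrum.zeroLocus (q : Set R) := by
    rw [PrimeSpectrum.mem_zeroLocus]
  have hlt : (⟨⟨q, hq⟩, hq0⟩ : PrimeSpectrum.zeroLocus (q : Set R)) < l'.head := by
    show (⟨q, hq⟩ : PrimeSpectrum R) < (l.head : PrimeSpectrum R)
    have := l.head.2
    rw [PrimeSpectrum.mem_zeroLocus, SetLike.coe_subset_coe] at this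
    rw [← PrimeSpectrum.asIdeal_lt_asIdeal]
    exact lt_of_lt_of_le (show q < b from hqb) this
  let l'' := l'.cons ⟨⟨q, hq⟩, hq0⟩ hlt
  have h1 : ((l''.length : ℕ) : WithBot ℕ∞) ≤ Order.krullDim (PrimeSpectrum.zeroLocus (q : Set R)) :=
    Order.LTSeries.length_le_krullDim l''
  have h2 : l''.length = l.length + 1 := by simp [l'', l']
  have h3 := h1.trans h
  rw [h2] at h3
  have : l.length + 1 ≤ n := by exact_mod_cast h3
  omega

variable [IsNoetherianRing R] (I : Ideal R)

section prime

variable (d : ℕ) (hd : ringKrullDim R = d)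
  (M : Type u) [AddCommGroup M] [Module R M] [Module.Finite R M]
  (hsupp : ∀ p ∈ minimalPrimes R, ringKrullDim (R ⧸ p) = d → ∀ hp : p.IsPrime,
    (⟨p, hp⟩ : PrimeSpectrum R) ∈ Module.support R M)
  (hvan : Subsingleton (LocCoh.H I d M))

include hd hsupp hvan in
/-- the top local cohomology of `R/p` vanishes for every prime `p` -/
theorem subsingleton_H_quotient_prime (p : PrimeSpectrum R) :
    Subsingleton (LocCoh.H I d (R ⧸ p.asIdeal)) := by
  have hdimp : ringKrullDim (R ⧸ p.asIdeal) ≤ d := hd ▸ ringKrullDim_quotient_le p.asIdeal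
  by_cases hlt : ringKrullDim (R ⧸ p.asIdeal) < d
  · apply gv I d
    rwa [Module.supportDim_quotient_eq_ringKrullDim]
  have heq : ringKrullDim (R ⧸ p.asIdeal) = d := le_antisymm hdimp (not_lt.mp hlt)
  -- `p` is a minimal prime
  have hmin : p.asIdeal ∈ minimalPrimes R := by
    obtain ⟨q, hq, hqle⟩ := Ideal.exists_minimalPrimes_le
      (I := (⊥ : Ideal R)) (J := p.asIdeal) bot_le
    rcases eq_or_lt_of_le hqle with h | h
    · exact h ▸ hq
    · exfalso
      haveI : q.IsPrime := hq.1.1
      have := ringKrullDim_quotient_lt_of_lt q p.asIdeal h d (hd ▸ ringKrullDim_quotient_le q)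
      exact hlt this
  have hpM : p ∈ Module.support R M := hsupp p.asIdeal hmin heq p.2
  -- a nonzero map `M → R/p`
  haveI : Nontrivial (R ⧸ p.asIdeal) := Ideal.Quotient.nontrivial_iff.mpr p.2.ne_top
  haveI : Module.FinitePresentation R M := Module.finitePresentation_of_finite R M
  have hsub : Module.support R (R ⧸ p.asIdeal) ⊆ Module.support R M := by
    intro q hq
    rw [Module.support_eq_zeroLocus, Ideal.annihilator_quotient, PrimeSpectrum.mem_zeroLocus,
      SetLike.coe_subset_coe] at hq
    exact Module.mem_support_mono hq hpM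
  haveI : Nontrivial (M →ₗ[R] (R ⧸ p.asIdeal)) :=
    Groth.Agent.H34.nontrivial_linearMap_of_support_subset R M (R ⧸ p.asIdeal) hsub
  obtain ⟨φ, hφ⟩ := exists_ne (0 : M →ₗ[R] (R ⧸ p.asIdeal))
  -- `H^d(range φ) = 0`
  have hS1 := shortExact_of (LinearMap.ker φ).subtype φ.rangeRestrict
    (Submodule.injective_subtype _) φ.surjective_rangeRestrict
    (by
      intro y
      rw [← LinearMap.mem_ker, LinearMap.ker_rangeRestrict]
      constructor
      · intro h; exact ⟨⟨y, h⟩, rfl⟩
      · rintro ⟨z, rfl⟩; exact z.2)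
  have hvK : Subsingleton (LocCoh.H I (d + 1) (LinearMap.ker φ)) := by
    apply gv I (d + 1)
    refine lt_of_le_of_lt (Module.supportDim_le_ringKrullDim R _) ?_
    rw [hd]
    exact_mod_cast Nat.lt_succ_self d
  have hvR : Subsingleton (LocCoh.H I d (LinearMap.range φ)) :=
    subsingleton_right I hS1 d hvan hvK
  -- the cokernel has smaller dimension
  have hS2 := shortExact_of (LinearMap.range φ).subtype (LinearMap.range φ).mkQ
    (Submodule.injective_subtype _) (Submodule.mkQ_surjective _)
    (LinearMap.exact_subtype_mkQ _)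
  have hvC : Subsingleton (LocCoh.H I d ((R ⧸ p.asIdeal) ⧸ LinearMap.range φ)) := by
    apply gv I d
    rw [Module.supportDim_eq_ringKrullDim_quotient_annihilator]
    apply ringKrullDim_quotient_lt_of_lt p.asIdeal _ _ d hdimp
    -- `p < ann`
    obtain ⟨m, hm⟩ : ∃ m, φ m ≠ 0 := by
      by_contra hcon
      push Not at hcon
      exact hφ (LinearMap.ext hcon)
    obtain ⟨s, hs⟩ := Ideal.Quotient.mk_surjective (φ m)
    have hsp : s ∉ p.asIdeal := by
      intro h
      apply hm
      rw [← hs]
      exact Ideal.Quotient.eq_zero_iff_mem.mpr h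
    have hsann : s ∈ Module.annihilator R ((R ⧸ p.asIdeal) ⧸ LinearMap.range φ) := by
      rw [Module.mem_annihilator]
      intro y
      obtain ⟨y', rfl⟩ := Submodule.mkQ_surjective _ y
      obtain ⟨r, rfl⟩ := Ideal.Quotient.mk_surjective y'
      rw [← map_smul, Submodule.mkQ_apply, Submodule.Quotient.mk_eq_zero]
      refine ⟨r • m, ?_⟩
      rw [map_smul, ← hs]
      show r • Ideal.Quotient.mk p.asIdeal s = s • Ideal.Quotient.mk p.asIdeal r
      rw [Algebra.smul_def, Algebra.smul_def, Ideal.Quotient.algebraMap_eq, ← map_mul, ← map_mul,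
        mul_comm]
    refine lt_of_le_of_ne ?_ (fun h => hsp (h ▸ hsann))
    intro a ha
    rw [Module.mem_annihilator]
    intro y
    obtain ⟨y', rfl⟩ := Submodule.mkQ_surjective _ y
    obtain ⟨r, rfl⟩ := Ideal.Quotient.mk_surjective y'
    rw [← map_smul]
    have : a • Ideal.Quotient.mk p.asIdeal r = 0 := by
      rw [Algebra.smul_def, Ideal.Quotient.algebraMap_eq, ← map_mul,
        Ideal.Quotient.eq_zero_iff_mem]
      exact Ideal.mul_mem_right _ _ ha
    rw [this, map_zero]
  exact subsingleton_mid I hS2 d hvR hvC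

include hd hsupp hvan in
/-- the top local cohomology vanishes on all finite modules -/
theorem subsingleton_H_of_finite (N : Type u) [AddCommGroup N] [Module R N] [hN : Module.Finite R N] :
    Subsingleton (LocCoh.H I d N) := by
  refine IsNoetherianRing.induction_on_isQuotientEquivQuotientPrime R hN
    (motive := fun N _ _ _ => Subsingleton (LocCoh.H I d N)) ?_ ?_ ?_
  · intro N _ _ _ _
    exact subsingleton_H_of_subsingleton I (ModuleCat.of R N) d
  · intro N _ _ _ p e
    exact subsingleton_H_of_linearEquiv I e.symm d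
      (subsingleton_H_quotient_prime I d hd M hsupp hvan p)
  · intro N₁ _ _ _ N₂ _ _ _ N₃ _ _ _ f g hf hg hfg h₁ h₃
    exact subsingleton_mid I (shortExact_of f g hf hg hfg) d h₁ h₃

include hd hsupp hvan in
/-- **`H^i_I(N) = 0` for all `i ≥ dim R` and all modules `N`.** -/
theorem subsingleton_H (N : Type u) [AddCommGroup N] [Module R N] (i : ℕ) (hi : d ≤ i) :
    Subsingleton (LocCoh.H I i N) := by
  rcases eq_or_lt_of_le hi with rfl | hlt
  · apply Groth.Agent.H58.LCColim.subsingleton_H_of_fg N I d
    intro N' hN'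
    haveI : Module.Finite R N' := Module.Finite.iff_fg.2 hN'
    exact subsingleton_H_of_finite I d hd M hsupp hvan N'
  · apply gv I i
    refine lt_of_le_of_lt (Module.supportDim_le_ringKrullDim R _) ?_
    rw [hd]
    exact_mod_cast hlt

end prime

end Groth.Agent.H2.CdTop
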