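import Mathlib
import Groth.Agent.H58.LCGamma

/-!
# The Rees isomorphism `Ext^j(N, M) ≃ Hom(N, M/(x₁..x_j)M)`  (helper2)

for an `M`-regular sequence `x₁, …, x_j` killing `N`.
-/

set_option autoImplicit false
set_option maxHeartbeats 400000
set_option linter.unusedSectionVars false
set_option linter.style.haveILetI false

namespace Groth.Agent.H2.ReesExt

universe u

open CategoryTheory Abelian RingTheory.Sequence Pointwise

variable {R : Type u} [CommRing R]

/-- one step: `Ext^i(N, M/xM) ≃ Ext^{i+1}(N, M)` if `x` is `M`-regular, kills `N` and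
`Ext^i(N, M) = 0`. -/
theorem nonempty_ext_succ_equiv (N M : ModuleCat.{u} R) (x : R) (hreg : IsSMulRegular M x)
    (hxN : x • 𝟙 N = 0) (i : ℕ) (hvan : Subsingleton (Ext N M i)) :
    Nonempty (Ext N (ModuleCat.of R (QuotSMulTop x M)) i ≃ₗ[R] Ext N M (i + 1)) := by
  have hS := hreg.smulShortComplex_shortExact
  let δ : Ext N (M.smulShortComplex x).X₃ i →ₗ[R] Ext N M (i + 1) :=
    hS.extClass.postcompOfLinear R N rfl
  have hδ : Function.Bijective δ := by
    constructor
    · rw [injective_iff_map_eq_zero]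
      intro x₃ hx₃
      obtain ⟨x₂, rfl⟩ := Ext.covariant_sequence_exact₃ N hS x₃ rfl hx₃
      have hx2 : x₂ = 0 := @Subsingleton.elim _ hvan x₂ 0
      rw [hx2, Ext.zero_comp]
    · intro x₁
      have h2 : x₁.comp (Ext.mk₀ (x • 𝟙 M)) (add_zero (i + 1)) = 0 := by
        rw [Ext.mk₀_smul, Ext.comp_smul, Ext.comp_mk₀_id]
        have h1 : x • x₁ = (Ext.mk₀ (x • 𝟙 N)).comp x₁ (zero_add (i + 1)) := by
          rw [Ext.mk₀_smul, Ext.smul_comp, Ext.mk₀_id_comp]
        rw [h1, hxN, Ext.mk₀_zero, Ext.zero_comp]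
      have h0 : x₁.comp (Ext.mk₀ (M.smulShortComplex x).f) (add_zero (i + 1)) = 0 := h2
      obtain ⟨x₃, hx₃⟩ := Ext.covariant_sequence_exact₁ N hS x₁ h0 rfl
      exact ⟨x₃, hx₃⟩
  exact ⟨LinearEquiv.ofBijective δ hδ⟩

/-- `Hom(N, M) ≃ Ext^0(N, M)` -/
noncomputable def homExt₀ (N M : Type u) [AddCommGroup N] [Module R N] [AddCommGroup M]
    [Module R M] : (N →ₗ[R] M) ≃ₗ[R] Ext (ModuleCat.of R N) (ModuleCat.of R M) 0 :=
  (ModuleCat.homLinearEquiv (S := R) (M := ModuleCat.of R N) (N := ModuleCat.of R M)).symm ≪≫ₗ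
    (Ext.linearEquiv₀ (R := R)).symm

variable [IsNoetherianRing R]

/-- **Rees**: `Ext^j(N, M) ≃ Hom(N, M/(x₁..x_j)M)` -/
theorem nonempty_ext_equiv_hom (N : Type u) [AddCommGroup N] [Module R N] [Module.Finite R N] :
    ∀ (rs : List R) (M : Type u) [AddCommGroup M] [Module R M] [Module.Finite R M],
      IsRegular M rs → (∀ r ∈ rs, ∀ y : N, r • y = 0) →
      Nonempty (Ext (ModuleCat.of R N) (ModuleCat.of R M) rs.length ≃ₗ[R]
        (N →ₗ[R] M ⧸ (Ideal.ofList rs • ⊤ : Submodule R M))) := by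
  intro rs
  induction rs with
  | nil =>
    intro M _ _ _ _ _
    have hbot : (Ideal.ofList ([] : List R) • ⊤ : Submodule R M) = ⊥ := by
      rw [Ideal.ofList_nil, Submodule.bot_smul]
    exact ⟨(homExt₀ N M).symm ≪≫ₗ
      LinearEquiv.congrRight (Submodule.quotEquivOfEqBot _ hbot).symm⟩
  | cons a rs ih =>
    intro M _ _ _ hreg hkill
    have hreg' := (isRegular_cons_iff M a rs).mp hreg
    obtain ⟨e₁⟩ := ih (QuotSMulTop a M) hreg'.2
      (fun r hr y => hkill r (List.mem_cons_of_mem _ hr) y)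
    -- vanishing of `Ext^{|rs|}(N, M)`
    have hvan : Subsingleton (Ext (ModuleCat.of R N) (ModuleCat.of R M) rs.length) := by
      have hI : Ideal.ofList (a :: rs) ≤ Module.annihilator R N := by
        rw [Ideal.ofList, Ideal.span_le]
        intro r hr
        rw [SetLike.mem_coe, Module.mem_annihilator]
        exact hkill r hr
      have hsupp : Module.support R (ModuleCat.of R N) ⊆
          PrimeSpectrum.zeroLocus (Ideal.ofList (a :: rs)) := by
        rw [Module.support_eq_zeroLocus]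
        exact PrimeSpectrum.zeroLocus_anti_mono hI
      have hlt : Ideal.ofList (a :: rs) • (⊤ : Submodule R (ModuleCat.of R M)) < ⊤ :=
        lt_top_iff_ne_top.mpr hreg.top_ne_smul.symm
      exact ModuleCat.subsingleton_ext_of_exists_isRegular (Ideal.ofList (a :: rs))
        (ModuleCat.of R N) hsupp (ModuleCat.of R M) hlt (a :: rs)
        (fun r hr => Ideal.subset_span hr) hreg rs.length (by simp)
    have haN : a • 𝟙 (ModuleCat.of R N) = 0 := by
      apply ModuleCat.hom_ext
      apply LinearMap.ext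
      intro y
      exact hkill a List.mem_cons_self y
    obtain ⟨e₂⟩ := nonempty_ext_succ_equiv (ModuleCat.of R N) (ModuleCat.of R M) a hreg'.1 haN
      rs.length hvan
    exact ⟨e₂.symm ≪≫ₗ e₁ ≪≫ₗ LinearEquiv.congrRight
      (Submodule.quotOfListConsSMulTopEquivQuotSMulTopInner M a rs).symm⟩

omit [IsNoetherianRing R] in
/-- `Hom(R/I, Q) ≃ Q` when `I` kills `Q` -/
theorem nonempty_hom_quotient_equiv (I : Ideal R) (Q : Type u) [AddCommGroup Q] [Module R Q]
    (hI : ∀ a ∈ I, ∀ q : Q, a • q = 0) : Nonempty (((R ⧸ I) →ₗ[R] Q) ≃ₗ[R] Q) := by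
  let F : ((R ⧸ I) →ₗ[R] Q) →ₗ[R] Q :=
    { toFun := fun φ => φ 1
      map_add' := fun φ ψ => rfl
      map_smul' := fun r φ => rfl }
  have hF : Function.Bijective F := by
    constructor
    · intro φ ψ h
      apply LinearMap.ext
      intro y
      obtain ⟨r, rfl⟩ := Ideal.Quotient.mk_surjective y
      have h1 : Ideal.Quotient.mk I r = r • (1 : R ⧸ I) := by
        rw [Algebra.smul_def, mul_one]; rfl
      rw [h1, map_smul, map_smul]
      exact congrArg (r • ·) h
    · intro q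
      refine ⟨Submodule.liftQ I (LinearMap.toSpanSingleton R Q q) ?_, ?_⟩
      · intro a ha
        rw [LinearMap.mem_ker, LinearMap.toSpanSingleton_apply]
        exact hI a ha q
      · change (LinearMap.toSpanSingleton R Q q) 1 = q
        rw [LinearMap.toSpanSingleton_apply, one_smul]
  exact ⟨LinearEquiv.ofBijective F hF⟩

/-- `Ext^j(R/(rs), M) ≃ M/(rs)M` -/
theorem nonempty_ext_quotient_equiv (rs : List R) (M : Type u) [AddCommGroup M] [Module R M]
    [Module.Finite R M] (hreg : IsRegular M rs) :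
    Nonempty (Ext (ModuleCat.of R (R ⧸ Ideal.ofList rs)) (ModuleCat.of R M) rs.length ≃ₗ[R]
      (M ⧸ (Ideal.ofList rs • ⊤ : Submodule R M))) := by
  obtain ⟨e₁⟩ := nonempty_ext_equiv_hom (R ⧸ Ideal.ofList rs) rs M hreg (by
    intro r hr y
    obtain ⟨s, rfl⟩ := Ideal.Quotient.mk_surjective y
    rw [Algebra.smul_def, Ideal.Quotient.algebraMap_eq, ← map_mul, Ideal.Quotient.eq_zero_iff_mem]
    exact Ideal.mul_mem_right _ _ (Ideal.subset_span hr))
  obtain ⟨e₂⟩ := nonempty_hom_quotient_equiv (Ideal.ofList rs)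
    (M ⧸ (Ideal.ofList rs • ⊤ : Submodule R M)) (by
      intro a ha q
      obtain ⟨m, rfl⟩ := Submodule.Quotient.mk_surjective _ q
      rw [← Submodule.Quotient.mk_smul, Submodule.Quotient.mk_eq_zero]
      exact Submodule.smul_mem_smul ha Submodule.mem_top)
  exact ⟨e₁ ≪≫ₗ e₂⟩

end Groth.Agent.H2.ReesExt
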