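import Mathlib
import Groth.Agent.H2.CanonModule2
import Groth.Agent.H2.ReesExt
import Groth.Agent.H2.CdTop
import Groth.Agent.H29.DimL3

/-!
# Canonical modules over CM local rings: regular sequences  (helper2)
-/

set_option autoImplicit false
set_option maxHeartbeats 400000
set_option linter.unusedSectionVars false
set_option linter.style.haveILetI false

namespace Groth.Agent.H2.CanonModule

universe u

open CategoryTheory Abelian IsLocalRing Groth.Agent.H58.LC Groth.Agent.H2.GorDuality
  Groth.Agent.H2.CanonDuality Pointwise RingTheory.Sequence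

variable {A : Type u} [CommRing A] [IsNoetherianRing A] [IsLocalRing A] {d : ℕ}
variable {E : Type u} [AddCommGroup E] [Module A E]
  (f : ResidueField A →ₗ[A] E) (hf : InjHull.IsInjectiveHull f)
variable {K : Type u} [AddCommGroup K] [Module A K]
variable (hd : ringKrullDim A = d)
  (hvan : ∀ i, i < d → Subsingleton ((localCohomology (maximalIdeal A) i).obj (ModuleCat.of A A)))
  (e : (K →ₗ[A] E) ≃ₗ[A] (localCohomology (maximalIdeal A) d).obj (ModuleCat.of A A))

omit [IsNoetherianRing A] [IsLocalRing A] in
theorem supportDim_le_of_support_subset {M N : Type u} [AddCommGroup M] [Module A M]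
    [AddCommGroup N] [Module A N] (h : Module.support A M ⊆ Module.support A N) :
    Module.supportDim A M ≤ Module.supportDim A N :=
  Order.krullDim_le_of_strictMono (fun a => ⟨a.1, h a.2⟩) (fun {_ _} lt => lt)

omit [IsNoetherianRing A] [IsLocalRing A] in
theorem support_self : Module.support A A = Set.univ := by
  rw [Module.support_eq_zeroLocus, Module.annihilator_eq_bot.mpr inferInstance]
  simp

include hf hd hvan e in
/-- an `A`-regular sequence in the maximal ideal is `K`-regular -/
theorem isRegular_K [Module.Finite A K] (as : List A) (has : ∀ a ∈ as, a ∈ maximalIdeal A)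
    (hreg : IsRegular A as) : IsRegular K as := by
  haveI := nontrivial_K f hf hd e
  have hCMK := isCohenMacaulayModule f hf hd hvan e
  have hdimK := supportDim_eq f hf hd hvan e
  have h1 := Module.supportDim_add_length_eq_supportDim_of_isRegular as hreg
  rw [Module.supportDim_self_eq_ringKrullDim, hd] at h1
  have h2 : Module.supportDim A (K ⧸ (Ideal.ofList as • ⊤ : Submodule A K)) ≤
      Module.supportDim A (A ⧸ (Ideal.ofList as • ⊤ : Submodule A A)) := by
    apply supportDim_le_of_support_subset
    rw [Module.support_quotient, Module.support_quotient, support_self]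
    exact fun p hp => ⟨trivial, hp.2⟩
  have hjac : ∀ x ∈ as, x ∈ Ring.jacobson A := by
    rw [IsLocalRing.ringJacobson_eq_maximalIdeal]
    exact has
  obtain ⟨hnt, h3⟩ := Groth.Agent.H29.DimL.supportDim_le_supportDim_quotient_add_length K as hjac
  have heq : Module.supportDim A (K ⧸ (Ideal.ofList as • ⊤ : Submodule A K)) + as.length =
      Module.supportDim A K := by
    apply le_antisymm
    · rw [hdimK, ← h1]
      gcongr
    · exact h3
  refine ⟨Groth.Agent.H29.CML.isWeaklyRegular_of_supportDim_eq as K hCMK has heq, ?_⟩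
  intro htop
  rw [Submodule.Quotient.nontrivial_iff] at hnt
  exact hnt htop.symm

include hf hd hvan e in
/-- minimal primes of `A` are associated primes of `K` (when `A` is Cohen–Macaulay) -/
theorem mem_associatedPrimes_K [Module.Finite A K] (hCM : LocCoh.IsCohenMacaulayModule A A)
    (q : Ideal A) (hq : q ∈ minimalPrimes A) : q ∈ associatedPrimes A K := by
  haveI hqp : q.IsPrime := hq.1.1
  have hqass : q ∈ associatedPrimes A A := by
    apply Module.associatedPrimes.minimalPrimes_annihilator_subset_associatedPrimes A A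
    rw [Module.annihilator_eq_bot.mpr inferInstance]
    exact hq
  have hdq : ringKrullDim (A ⧸ q) = d := by
    rw [Groth.Agent.H29.CML.ringKrullDim_quotient_eq_supportDim_of_isCM A hCM q hqass,
      Module.supportDim_self_eq_ringKrullDim, hd]
  have hsd : Module.supportDim A (A ⧸ q) = d := by
    rw [Module.supportDim_quotient_eq_ringKrullDim, hdq]
  have hnv : Nontrivial ((localCohomology (maximalIdeal A) d).obj (ModuleCat.of A (A ⧸ q))) :=
    Groth.Agent.H58.NV.nonvanishing A (A ⧸ q) d hsd
  obtain ⟨e₁⟩ := nonempty_dual' f hf hd hvan e d 0 (by omega) (A ⧸ q)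
  have h1 : Nontrivial (Ext (ModuleCat.of A (A ⧸ q)) (ModuleCat.of A K) 0) :=
    nontrivial_of_equiv_dual f hf _ _ e₁ hnv
  have h2 : Nontrivial ((A ⧸ q) →ₗ[A] K) := (homExt₀ (K := K) (A ⧸ q)).toEquiv.nontrivial
  obtain ⟨φ, hφ⟩ := exists_ne (0 : (A ⧸ q) →ₗ[A] K)
  have hx : φ 1 ≠ 0 := by
    intro h0
    apply hφ
    apply LinearMap.ext
    intro y
    obtain ⟨r, rfl⟩ := Ideal.Quotient.mk_surjective y
    have : Ideal.Quotient.mk q r = r • (1 : A ⧸ q) := by
      rw [Algebra.smul_def, mul_one]; rfl
    rw [this, map_smul, h0, smul_zero, LinearMap.zero_apply]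
  obtain ⟨P, hP, hle⟩ := exists_le_isAssociatedPrime_of_isNoetherianRing A (φ 1) hx
  have hqP : q ≤ P := by
    intro r hr
    apply hle
    rw [Submodule.mem_colon_singleton, Submodule.mem_bot, ← map_smul]
    have : r • (1 : A ⧸ q) = 0 := by
      rw [Algebra.smul_def, mul_one]
      exact Ideal.Quotient.eq_zero_iff_mem.mpr hr
    rw [this, map_zero]
  have hCMK := isCohenMacaulayModule f hf hd hvan e
  have hdP : ringKrullDim (A ⧸ P) = d := by
    rw [Groth.Agent.H29.CML.ringKrullDim_quotient_eq_supportDim_of_isCM K hCMK P hP,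
      supportDim_eq f hf hd hvan e]
  rcases eq_or_lt_of_le hqP with heq | hlt
  · rw [heq]; exact hP
  · exfalso
    have := Groth.Agent.H2.CdTop.ringKrullDim_quotient_lt_of_lt q P hlt d hdq.le
    rw [hdP] at this
    exact lt_irrefl _ this

include hf hd hvan e in
/-- `Supp K = Spec A` -/
theorem support_K [Module.Finite A K] (hCM : LocCoh.IsCohenMacaulayModule A A) :
    Module.support A K = Set.univ := by
  rw [Set.eq_univ_iff_forall]
  intro p
  obtain ⟨q, hq, hqp⟩ := Ideal.exists_minimalPrimes_le (bot_le : (⊥ : Ideal A) ≤ p.asIdeal)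
  have hqK := mem_associatedPrimes_K f hf hd hvan e hCM q hq
  have hqs := Groth.Agent.H29.CML.mem_support_of_mem_associatedPrimes K q hqK
  exact Module.mem_support_mono (p := ⟨q, hqK.isPrime⟩) hqp hqs

include hf hd hvan e in
/-- a `K`-regular sequence in the maximal ideal is `A`-regular -/
theorem isRegular_of_isRegular_K [Module.Finite A K] (hCM : LocCoh.IsCohenMacaulayModule A A)
    (as : List A) (has : ∀ a ∈ as, a ∈ maximalIdeal A)
    (hreg : IsRegular K as) : IsRegular A as := by
  have hdimK := supportDim_eq f hf hd hvan e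
  have h1 := Module.supportDim_add_length_eq_supportDim_of_isRegular as hreg
  rw [hdimK] at h1
  have h2 : Module.supportDim A (A ⧸ (Ideal.ofList as • ⊤ : Submodule A A)) =
      Module.supportDim A (K ⧸ (Ideal.ofList as • ⊤ : Submodule A K)) := by
    unfold Module.supportDim
    rw [Module.support_quotient, Module.support_quotient, support_self,
      support_K f hf hd hvan e hCM]
  have heq : Module.supportDim A (A ⧸ (Ideal.ofList as • ⊤ : Submodule A A)) + as.length =
      Module.supportDim A A := by
    rw [h2, h1, Module.supportDim_self_eq_ringKrullDim, hd]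
  refine ⟨Groth.Agent.H29.CML.isWeaklyRegular_of_supportDim_eq as A hCM has heq, ?_⟩
  intro htop
  have hjac : ∀ x ∈ as, x ∈ Ring.jacobson A := by
    rw [IsLocalRing.ringJacobson_eq_maximalIdeal]
    exact has
  obtain ⟨hnt, -⟩ := Groth.Agent.H29.DimL.supportDim_le_supportDim_quotient_add_length A as hjac
  rw [Submodule.Quotient.nontrivial_iff] at hnt
  exact hnt htop.symm

include hf hd hvan e in
/-- `Hom(K/IK, E) ≃ H^{d-j}_m(A/I)` for `I` generated by a regular sequence of length `j` -/
theorem nonempty_dual_quotient [Module.Finite A K] (as : List A)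
    (has : ∀ a ∈ as, a ∈ maximalIdeal A) (hreg : IsRegular A as) :
    Nonempty (((K ⧸ (Ideal.ofList as • ⊤ : Submodule A K)) →ₗ[A] E) ≃ₗ[A]
      (localCohomology (maximalIdeal A) (d - as.length)).obj
        (ModuleCat.of A (A ⧸ Ideal.ofList as))) := by
  have hregK := isRegular_K f hf hd hvan e as has hreg
  have hlen : as.length ≤ d := by
    have h1 := Module.supportDim_add_length_eq_supportDim_of_isRegular as hreg
    rw [Module.supportDim_self_eq_ringKrullDim, hd] at h1
    have hjac : ∀ x ∈ as, x ∈ Ring.jacobson A := by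
      rw [IsLocalRing.ringJacobson_eq_maximalIdeal]
      exact has
    obtain ⟨hnt, -⟩ := Groth.Agent.H29.DimL.supportDim_le_supportDim_quotient_add_length A as hjac
    obtain ⟨s, hs⟩ := Groth.Agent.H29.CML.exists_nat_supportDim_eq (A := A)
      (A ⧸ (Ideal.ofList as • ⊤ : Submodule A A))
    rw [hs] at h1
    have : s + as.length = d := by exact_mod_cast h1
    omega
  obtain ⟨e₁⟩ := nonempty_dual' f hf hd hvan e (d - as.length) as.length (by omega)
    (A ⧸ Ideal.ofList as)
  obtain ⟨e₂⟩ := ReesExt.nonempty_ext_quotient_equiv as K hregK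
  exact ⟨(e₁ ≪≫ₗ LinearEquiv.congrLeft E A e₂).symm⟩

end Groth.Agent.H2.CanonModule
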