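import Groth.Agent.H2.MatlisEnd
import Groth.Agent.H20.ComplNoeth2

set_option autoImplicit false
set_option linter.unusedSectionVars false
universe u

namespace Groth.Agent.H2.MatlisArtin

open IsLocalRing Groth.Agent.H2.MatlisEnd

variable {R : Type u} [CommRing R] [IsLocalRing R] [IsNoetherianRing R]
variable {E : Type u} [AddCommGroup E] [Module R E]
variable (f : ResidueField R →ₗ[R] E) (hf : InjHull.IsInjectiveHull f)

/-- the left ideal of endomorphisms killing a submodule -/
def annEnd (M : Submodule R E) : Submodule (Module.End R E) (Module.End R E) where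
  carrier := {φ | ∀ x ∈ M, φ x = 0}
  add_mem' := by
    intro φ ψ hφ hψ x hx
    rw [LinearMap.add_apply, hφ x hx, hψ x hx, add_zero]
  zero_mem' := fun x _ => rfl
  smul_mem' := by
    intro c φ hφ x hx
    rw [smul_eq_mul, Module.End.mul_apply, hφ x hx, map_zero]

include hf in
lemma annEnd_strictAnti : StrictAnti (annEnd (R := R) (E := E)) := by
  intro M M' hlt
  obtain ⟨hle, hne⟩ := lt_iff_le_and_ne.mp hlt
  refine lt_of_le_of_ne (fun φ hφ x hx => hφ x (hle hx)) ?_
  intro heq
  obtain ⟨x, hxM', hxM⟩ := SetLike.exists_of_lt hlt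
  have hx0 : Submodule.Quotient.mk (p := M) x ≠ 0 := by
    rwa [Ne, Submodule.Quotient.mk_eq_zero]
  have hinj := Groth.Agent.H30.Matlis.applyₗ_injective f hf (E ⧸ M)
  obtain ⟨g, hg⟩ : ∃ g : (E ⧸ M) →ₗ[R] E, g (Submodule.Quotient.mk x) ≠ 0 := by
    by_contra hcon
    push Not at hcon
    apply hx0
    apply hinj
    rw [map_zero]
    ext g
    exact hcon g
  have h1 : g ∘ₗ M.mkQ ∈ annEnd M := by
    intro y hy
    rw [LinearMap.comp_apply, Submodule.mkQ_apply, (Submodule.Quotient.mk_eq_zero M).mpr hy,
      map_zero]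
  rw [← heq] at h1
  exact hg (h1 x hxM')

include hf in
/-- **Matlis**: the injective hull of the residue field of a Noetherian local ring is Artinian. -/
theorem isArtinian : IsArtinian R E := by
  have e := endEquivCompletion f hf
  have hN : IsNoetherianRing (Module.End R E) :=
    isNoetherianRing_of_ringEquiv (AdicCompletion (maximalIdeal R) R) e.symm.toRingEquiv
  have hW : WellFoundedGT (Submodule (Module.End R E) (Module.End R E)) :=
    isNoetherian_iff'.mp hN
  exact (annEnd_strictAnti f hf).wellFoundedLT

end Groth.Agent.H2.MatlisArtin
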