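import Mathlib
import Groth.Agent.H2.LCInjective
import Groth.Agent.H2.MatlisArtin
import Groth.Agent.H2.MatlisEmbed
import Groth.Agent.H98.GrStar.RegVanish

/-!
# `H^i_m(M)` is Artinian for finite `M` over a Noetherian local ring  (helper2)
-/

set_option autoImplicit false
set_option linter.unusedSectionVars false
set_option linter.style.haveILetI false

namespace Groth.Agent.H2.LCArtinian

universe u

open CategoryTheory Abelian IsLocalRing Groth.Agent.H58.LC Groth.Agent.H2.LCInjective

variable {A : Type u} [CommRing A] [IsNoetherianRing A] [IsLocalRing A]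

/-- an `m`-power torsion module whose socle is finite over the residue field is Artinian -/
theorem isArtinian_of_finite_socle (H : Type u) [AddCommGroup H] [Module A H]
    (hPT : LocCoh.IsPowerTorsion (maximalIdeal A) H)
    [Module.Finite (A ⧸ maximalIdeal A) (LocCoh.torsionBy (maximalIdeal A) H)] :
    IsArtinian A H := by
  obtain ⟨E, _, _, fE, hfE⟩ := Groth.Agent.H2.exists_isInjectiveHull (R := A) (ResidueField A)
  obtain ⟨g, hg⟩ := Groth.Agent.H2.exists_injective_to_pi_of_isPowerTorsion E fE hfE H hPT _ rfl
  haveI : IsArtinian A E := Groth.Agent.H2.MatlisArtin.isArtinian fE hfE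
  exact isArtinian_of_injective g hg

/-- an `m`-power torsion module whose socle is Artinian is Artinian -/
theorem isArtinian_of_isArtinian_socle (H : Type u) [AddCommGroup H] [Module A H]
    (hPT : LocCoh.IsPowerTorsion (maximalIdeal A) H)
    (hsoc : IsArtinian A (LocCoh.torsionBy (maximalIdeal A) H)) : IsArtinian A H := by
  letI : Field (A ⧸ maximalIdeal A) := Ideal.Quotient.field _
  haveI : IsArtinian (A ⧸ maximalIdeal A) (LocCoh.torsionBy (maximalIdeal A) H) :=
    isArtinian_of_tower A hsoc
  haveI : Module.Finite (A ⧸ maximalIdeal A) (LocCoh.torsionBy (maximalIdeal A) H) := by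
    have h := (IsSemisimpleModule.finite_tfae (R := A ⧸ maximalIdeal A)
      (M := LocCoh.torsionBy (maximalIdeal A) H)).out 0 2
    exact h.mpr inferInstance
  exact isArtinian_of_finite_socle H hPT

theorem isArtinian_of_linearEquiv {M N : Type u} [AddCommGroup M] [Module A M] [AddCommGroup N]
    [Module A N] (e : M ≃ₗ[A] N) [IsArtinian A M] : IsArtinian A N :=
  isArtinian_of_injective e.symm.toLinearMap e.symm.injective

/-- **`H^i_m(M)` is Artinian.** -/
theorem isArtinian_H (i : ℕ) : ∀ (M : Type u) [AddCommGroup M] [Module A M] [Module.Finite A M],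
    IsArtinian A (H (maximalIdeal A) i (ModuleCat.of A M)) := by
  induction i with
  | zero =>
    intro M _ _ _
    have hPT : LocCoh.IsPowerTorsion (maximalIdeal A) (DRing.torsionSub (maximalIdeal A) M) := by
      rintro ⟨x, n, hn⟩
      exact ⟨n, fun a ha => Subtype.ext (hn a ha)⟩
    haveI : IsNoetherian A M := isNoetherian_of_isNoetherianRing_of_finite A M
    haveI : Module.Finite (A ⧸ maximalIdeal A)
        (LocCoh.torsionBy (maximalIdeal A) (DRing.torsionSub (maximalIdeal A) M)) :=
      Module.Finite.of_restrictScalars_finite A _ _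
    haveI : IsArtinian A (DRing.torsionSub (maximalIdeal A) M) :=
      isArtinian_of_finite_socle _ hPT
    exact isArtinian_of_linearEquiv (H0equiv (maximalIdeal A) (ModuleCat.of A M)).symm
  | succ i ih =>
    intro M _ _ _
    -- pass to `M' = M / Γ_m(M)`
    set M' := M ⧸ DRing.torsionSub (maximalIdeal A) M with hM'
    suffices h : IsArtinian A (H (maximalIdeal A) (i + 1) (ModuleCat.of A M')) by
      exact isArtinian_of_injective _
        (map_mkQ_torsionSub_bijective (maximalIdeal A) M i).1
    have hbot : DRing.torsionSub (maximalIdeal A) M' = ⊥ :=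
      Groth.Agent.H98.GrStar.torsionSub_quot_eq_bot (maximalIdeal A) M
    obtain ⟨x, hxm, hreg⟩ :=
      Groth.Agent.H98.LCRes.exists_isSMulRegular_of_torsionSub_eq_bot (maximalIdeal A) M' hbot
    have hS := shortExact_smul M' hreg
    have hPT : LocCoh.IsPowerTorsion (maximalIdeal A)
        (H (maximalIdeal A) (i + 1) (ModuleCat.of A M')) :=
      isTors_H (maximalIdeal A) (i + 1) (ModuleCat.of A M')
    apply isArtinian_of_isArtinian_socle _ hPT
    haveI := ih (QuotSMulTop x M')
    haveI : IsArtinian A (LinearMap.range (δ (maximalIdeal A) i hS)) :=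
      isArtinian_of_surjective _ (δ (maximalIdeal A) i hS).rangeRestrict
        (LinearMap.surjective_rangeRestrict _)
    refine isArtinian_of_le (t := LinearMap.range (δ (maximalIdeal A) i hS)) ?_
    intro z hz
    have hxz : x • z = 0 := (Submodule.mem_torsionBySet_iff _ _).mp hz ⟨x, hxm⟩
    have h1 : ((localCohomology (maximalIdeal A) (i + 1)).map
        (ModuleCat.ofHom (LinearMap.lsmul A M' x))).hom z = x • z := by
      have : ModuleCat.ofHom (LinearMap.lsmul A M' x) = x • 𝟙 (ModuleCat.of A M') := by
        apply ModuleCat.hom_ext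
        apply LinearMap.ext
        intro m; rfl
      rw [this, map_smul', CategoryTheory.Functor.map_id]
      rfl
    obtain ⟨z₃, hz₃⟩ := exact₁ (maximalIdeal A) i hS z (by rw [h1, hxz])
    exact ⟨z₃, hz₃⟩

end Groth.Agent.H2.LCArtinian
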