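import Mathlib
import Groth.Agent.H2.CanonModule3

/-!
# Canonical modules over arbitrary Noetherian local rings  (helper2)

`A` Noetherian local of dimension `d`, `E` an injective hull of the residue field, `K` a finite
module with `Hom(K, E) ≃ H^d_m(A)`.  Level-zero duality `H^d_m(M) ≃ Hom(Hom(M, K), E)` holds for all
finite `M` without any Cohen–Macaulay hypothesis.
-/

set_option autoImplicit false
set_option maxHeartbeats 400000
set_option linter.unusedSectionVars false
set_option linter.style.haveILetI false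

namespace Groth.Agent.H2.CanonGeneral

universe u

open CategoryTheory Abelian IsLocalRing Groth.Agent.H58.LC Groth.Agent.H2.GorDuality
  Groth.Agent.H2.CanonDuality Groth.Agent.H2.CanonModule Pointwise RingTheory.Sequence

variable {A : Type u} [CommRing A] [IsNoetherianRing A] [IsLocalRing A] {d : ℕ}
variable {E : Type u} [AddCommGroup E] [Module A E]
  (f : ResidueField A →ₗ[A] E) (hf : InjHull.IsInjectiveHull f)
variable {K : Type u} [AddCommGroup K] [Module A K]
variable (hd : ringKrullDim A = d)
  (e : (K →ₗ[A] E) ≃ₗ[A] (localCohomology (maximalIdeal A) d).obj (ModuleCat.of A A))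

include hf hd e in
/-- level-zero duality -/
theorem nonempty_dual_zero (M : Type u) [AddCommGroup M] [Module A M] [Module.Finite A M] :
    Nonempty ((localCohomology (maximalIdeal A) d).obj (ModuleCat.of A M) ≃ₗ[A]
      ((M →ₗ[A] K) →ₗ[A] E)) := by
  haveI : Module.Injective A E := hf.isInjective
  obtain ⟨e₁⟩ := dual_zero hd (cOfEquiv (d := d) e) M
  exact ⟨e₁ ≪≫ₗ LinearEquiv.congrLeft E A (homExt₀ (K := K) M).symm⟩

include hf hd e in
theorem nontrivial_hom_iff (M : Type u) [AddCommGroup M] [Module A M] [Module.Finite A M] :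
    Nontrivial (M →ₗ[A] K) ↔
      Nontrivial ((localCohomology (maximalIdeal A) d).obj (ModuleCat.of A M)) := by
  obtain ⟨e₁⟩ := nonempty_dual_zero f hf hd e M
  constructor
  · intro h
    by_contra hcon
    rw [not_nontrivial_iff_subsingleton] at hcon
    have := subsingleton_of_equiv_dual f hf _ _ e₁ hcon
    exact not_subsingleton _ this
  · intro h
    exact nontrivial_of_equiv_dual f hf _ _ e₁ h

include hf hd e in
/-- `Hom(M, K) = 0` when `dim M < d` -/
theorem hom_eq_zero_of_supportDim_lt (M : Type u) [AddCommGroup M] [Module A M]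
    [Module.Finite A M] (hM : Module.supportDim A M < (d : WithBot ℕ∞)) (φ : M →ₗ[A] K) :
    φ = 0 := by
  have h0 : Subsingleton ((localCohomology (maximalIdeal A) d).obj (ModuleCat.of A M)) :=
    gv (maximalIdeal A) d M hM
  have h2 : Subsingleton (M →ₗ[A] K) := by
    by_contra hcon
    rw [not_subsingleton_iff_nontrivial] at hcon
    have := (nontrivial_hom_iff f hf hd e M).mp hcon
    exact not_subsingleton _ h0
  exact Subsingleton.elim _ _

omit [IsNoetherianRing A] [IsLocalRing A] in
/-- a nonzero element killed by `p` gives a nonzero map `A/p → K` -/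
theorem nontrivial_hom_quotient (p : Ideal A) (x : K) (hx : x ≠ 0) (hpx : ∀ a ∈ p, a • x = 0) :
    Nontrivial ((A ⧸ p) →ₗ[A] K) := by
  let φ : (A ⧸ p) →ₗ[A] K := Submodule.liftQ p (LinearMap.toSpanSingleton A K x) (by
    intro a ha
    rw [LinearMap.mem_ker, LinearMap.toSpanSingleton_apply]
    exact hpx a ha)
  refine ⟨φ, 0, fun h => hx ?_⟩
  have h1 : φ (Submodule.Quotient.mk 1) = x := by
    change (LinearMap.toSpanSingleton A K x) 1 = x
    rw [LinearMap.toSpanSingleton_apply, one_smul]
  rw [← h1, h]
  rfl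

omit [IsNoetherianRing A] [IsLocalRing A] in
/-- a nonzero map `A/p → K` gives a nonzero element killed by `p` -/
theorem exists_ne_zero_of_nontrivial_hom (p : Ideal A) (h : Nontrivial ((A ⧸ p) →ₗ[A] K)) :
    ∃ x : K, x ≠ 0 ∧ ∀ a ∈ p, a • x = 0 := by
  obtain ⟨φ, hφ⟩ := exists_ne (0 : (A ⧸ p) →ₗ[A] K)
  refine ⟨φ 1, ?_, ?_⟩
  · intro h0
    apply hφ
    apply LinearMap.ext
    intro y
    obtain ⟨r, rfl⟩ := Ideal.Quotient.mk_surjective y
    have : Ideal.Quotient.mk p r = r • (1 : A ⧸ p) := by
      rw [Algebra.smul_def, mul_one]; rfl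
    rw [this, map_smul, h0, smul_zero, LinearMap.zero_apply]
  · intro a ha
    rw [← map_smul]
    have : a • (1 : A ⧸ p) = 0 := by
      rw [Algebra.smul_def, mul_one]
      exact Ideal.Quotient.eq_zero_iff_mem.mpr ha
    rw [this, map_zero]

include hf hd e in
/-- associated primes of `K` have maximal dimension -/
theorem ringKrullDim_quotient_of_mem_associatedPrimes (p : Ideal A)
    (hp : p ∈ associatedPrimes A K) : ringKrullDim (A ⧸ p) = d := by
  obtain ⟨hpp, x, hx⟩ := (isAssociatedPrime_iff (M := K)).mp hp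
  have hx0 : x ≠ 0 := by
    rintro rfl
    apply hpp.ne_top
    rw [hx, Submodule.colon_singleton_zero]
  have hpx : ∀ a ∈ p, a • x = 0 := by
    intro a ha
    rw [hx, Submodule.mem_colon_singleton, Submodule.mem_bot] at ha
    exact ha
  have h1 := (nontrivial_hom_iff f hf hd e (A ⧸ p)).mp (nontrivial_hom_quotient p x hx0 hpx)
  apply le_antisymm
  · rw [← hd]
    exact ringKrullDim_quotient_le p
  · by_contra hcon
    rw [not_le] at hcon
    have h2 : Module.supportDim A (A ⧸ p) < (d : WithBot ℕ∞) := by
      rw [Module.supportDim_quotient_eq_ringKrullDim]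
      exact hcon
    have := gv (maximalIdeal A) d (A ⧸ p) h2
    exact not_subsingleton _ this

include hf hd e in
/-- primes of maximal dimension are associated to `K` -/
theorem mem_associatedPrimes_of_ringKrullDim_quotient (p : Ideal A) [hpp : p.IsPrime]
    (hdp : ringKrullDim (A ⧸ p) = d) : p ∈ associatedPrimes A K := by
  have hsd : Module.supportDim A (A ⧸ p) = d := by
    rw [Module.supportDim_quotient_eq_ringKrullDim, hdp]
  have hnv : Nontrivial ((localCohomology (maximalIdeal A) d).obj (ModuleCat.of A (A ⧸ p))) :=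
    Groth.Agent.H58.NV.nonvanishing A (A ⧸ p) d hsd
  obtain ⟨x, hx, hpx⟩ := exists_ne_zero_of_nontrivial_hom p
    ((nontrivial_hom_iff f hf hd e (A ⧸ p)).mpr hnv)
  obtain ⟨P, hP, hle⟩ := exists_le_isAssociatedPrime_of_isNoetherianRing A x hx
  have hqP : p ≤ P := by
    intro r hr
    apply hle
    rw [Submodule.mem_colon_singleton, Submodule.mem_bot]
    exact hpx r hr
  have hdP := ringKrullDim_quotient_of_mem_associatedPrimes f hf hd e P hP
  rcases eq_or_lt_of_le hqP with heq | hlt
  · rw [heq]; exact hP
  · exfalso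
    have := Groth.Agent.H2.CdTop.ringKrullDim_quotient_lt_of_lt p P hlt d hdp.le
    rw [hdP] at this
    exact lt_irrefl _ this

end Groth.Agent.H2.CanonGeneral
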