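import Mathlib
import Groth.Agent.H2.CanonGeneral

/-!
# Canonical modules and systems of parameters  (helper2)

For a canonical module `K` of a Noetherian local ring `A` of dimension `d` and a system of
parameters `a₀, a₁, …`: `a₀` is `K`-regular and `a₀, a₁` is a `K`-regular sequence.
-/

set_option autoImplicit false
set_option maxHeartbeats 400000
set_option linter.unusedSectionVars false
set_option linter.style.haveILetI false

namespace Groth.Agent.H2.CanonSop

universe u

open CategoryTheory Abelian IsLocalRing Groth.Agent.H58.LC Groth.Agent.H2.GorDuality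
  Groth.Agent.H2.CanonDuality Groth.Agent.H2.CanonModule Groth.Agent.H2.CanonGeneral
  Pointwise RingTheory.Sequence

variable {A : Type u} [CommRing A] [IsNoetherianRing A] [IsLocalRing A] {d : ℕ}
variable {E : Type u} [AddCommGroup E] [Module A E]
  (f : ResidueField A →ₗ[A] E) (hf : InjHull.IsInjectiveHull f)
variable {K : Type u} [AddCommGroup K] [Module A K]

section Dim

/-- a module supported only at the closed point has dimension `≤ 0` -/
theorem supportDim_le_zero (M : Type u) [AddCommGroup M] [Module A M]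
    (h : ∀ p ∈ Module.support A M, p.asIdeal = maximalIdeal A) : Module.supportDim A M ≤ 0 := by
  haveI : Subsingleton (Module.support A M) := by
    constructor
    rintro ⟨p, hp⟩ ⟨q, hq⟩
    apply Subtype.ext
    apply PrimeSpectrum.ext
    rw [h p hp, h q hq]
  exact Order.krullDim_nonpos_of_subsingleton

/-- if `J + (xs)` is `m`-primary then `dim A/J ≤ |xs|` -/
theorem supportDim_quotient_le (J : Ideal A) (hJ : J ≤ maximalIdeal A) (xs : List A)
    (hxs : ∀ x ∈ xs, x ∈ maximalIdeal A)
    (hprim : maximalIdeal A ≤ (J ⊔ Ideal.ofList xs).radical) :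
    Module.supportDim A (A ⧸ J) ≤ (xs.length : WithBot ℕ∞) := by
  haveI : Nontrivial (A ⧸ J) :=
    Ideal.Quotient.nontrivial_iff.mpr (fun h => (Ideal.IsPrime.ne_top inferInstance)
      (top_le_iff.mp (h ▸ hJ)))
  have hjac : ∀ x ∈ xs, x ∈ Ring.jacobson A := by
    rw [IsLocalRing.ringJacobson_eq_maximalIdeal]
    exact hxs
  obtain ⟨-, h1⟩ := Groth.Agent.H29.DimL.supportDim_le_supportDim_quotient_add_length
    (A ⧸ J) xs hjac
  have h2 : Module.supportDim A ((A ⧸ J) ⧸ (Ideal.ofList xs • ⊤ : Submodule A (A ⧸ J))) ≤ 0 := by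
    apply supportDim_le_zero
    intro p hp
    rw [Module.support_quotient, Module.support_eq_zeroLocus, Ideal.annihilator_quotient] at hp
    obtain ⟨hp1, hp2⟩ := hp
    rw [PrimeSpectrum.mem_zeroLocus] at hp1 hp2
    have h3 : J ⊔ Ideal.ofList xs ≤ p.asIdeal := sup_le hp1 hp2
    have h4 : maximalIdeal A ≤ p.asIdeal :=
      hprim.trans ((Ideal.IsPrime.radical_le_iff p.2).mpr h3)
    exact (IsLocalRing.eq_maximalIdeal
      (Ideal.IsMaximal.eq_of_le (maximalIdeal.isMaximal A) p.2.ne_top h4 ▸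
        maximalIdeal.isMaximal A)).symm ▸ rfl
  calc Module.supportDim A (A ⧸ J) ≤ _ := h1
    _ ≤ 0 + (xs.length : WithBot ℕ∞) := by gcongr
    _ = _ := zero_add _

end Dim

variable (hd : ringKrullDim A = d)
  (e : (K →ₗ[A] E) ≃ₗ[A] (localCohomology (maximalIdeal A) d).obj (ModuleCat.of A A))

include hf hd e in
/-- elements of `K` killed by an ideal `J` with `dim A/J < d` vanish -/
theorem eq_zero_of_smul_eq_zero (J : Ideal A)
    (hJ : Module.supportDim A (A ⧸ J) < (d : WithBot ℕ∞)) (x : K) (hx : ∀ a ∈ J, a • x = 0) :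
    x = 0 := by
  by_contra hne
  obtain ⟨φ, ψ, hφψ⟩ := nontrivial_hom_quotient J x hne hx
  apply hφψ
  rw [hom_eq_zero_of_supportDim_lt f hf hd e (A ⧸ J) hJ φ,
    hom_eq_zero_of_supportDim_lt f hf hd e (A ⧸ J) hJ ψ]

section ExtOne

variable {k : ℕ} (hk : ringKrullDim A = (k + 1 : ℕ))
  (e' : (K →ₗ[A] E) ≃ₗ[A] (localCohomology (maximalIdeal A) (k + 1)).obj (ModuleCat.of A A))

include hf hk e' in
/-- `Ext^1(M, K) = 0` if `H^{d-1}_m(M) = 0` -/
theorem subsingleton_ext_one (M : Type u) [AddCommGroup M] [Module A M] [Module.Finite A M]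
    (hM : Subsingleton ((localCohomology (maximalIdeal A) k).obj (ModuleCat.of A M))) :
    Subsingleton (Ext (ModuleCat.of A M) (ModuleCat.of A K) 1) := by
  haveI : Module.Injective A E := hf.isInjective
  obtain ⟨σ, hσ, π, hπ⟩ := exists_presentation' (R := A) M
  haveI : IsNoetherian A (σ →₀ A) := isNoetherian_of_isNoetherianRing_of_finite A _
  haveI : Module.Finite A (LinearMap.ker π) := inferInstance
  have hS := shortExact_of (R := A) (A := LinearMap.ker π) (B := (σ →₀ A)) (C := M)
    (LinearMap.ker π).subtype π (Submodule.injective_subtype _) hπ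
    (LinearMap.exact_subtype_ker_map π)
  obtain ⟨e₃⟩ := nonempty_extOne_equiv (N := LinearMap.ker π) (F := (σ →₀ A)) (M := M) (Y := K) E
    (LinearMap.ker π).subtype π
    (Submodule.injective_subtype _) hπ (LinearMap.exact_subtype_ker_map π)
    (fun x => ext_finsupp_eq_zero' σ _ 0 x)
  obtain ⟨e₂⟩ := nonempty_kerEquiv_T (M := LinearMap.ker π) (N := (σ →₀ A))
    (cOfEquiv (d := k + 1) e') hk (LinearMap.ker π).subtype
  have h2 : Subsingleton (LinearMap.ker (LinearMap.lcomp A E (LinearMap.lcomp A K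
      (LinearMap.ker π).subtype))) := by
    apply e₂.toEquiv.subsingleton_congr.mp
    have key : ∀ x : LinearMap.ker ((T₁ A (k + 1)).map
        (ModuleCat.ofHom (X := LinearMap.ker π) (Y := (σ →₀ A)) (LinearMap.ker π).subtype)).hom,
        x = 0 := by
      intro x
      apply Subtype.ext
      obtain ⟨x₃, hx₃⟩ := exact₁ (maximalIdeal A) k hS x.1 (LinearMap.mem_ker.mp x.2)
      rw [← hx₃, Subsingleton.elim x₃ 0, map_zero]
      rfl
    exact ⟨fun x y => (key x).trans (key y).symm⟩
  exact subsingleton_of_subsingleton_dual f hf _ e₃.toEquiv.subsingleton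

end ExtOne

section Second

variable {k : ℕ} (hk : ringKrullDim A = (k + 1 : ℕ))
  (e' : (K →ₗ[A] E) ≃ₗ[A] (localCohomology (maximalIdeal A) (k + 1)).obj (ModuleCat.of A A))

include hf hk e' in
/-- the second element of a system of parameters is regular on `K/a₀K` -/
theorem isSMulRegular_quot (a₀ a₁ : A) (hreg₀ : IsSMulRegular K a₀)
    (hJ : Module.supportDim A (A ⧸ Ideal.span {a₀, a₁}) < (k : WithBot ℕ∞)) :
    IsSMulRegular (QuotSMulTop a₀ K) a₁ := by
  have hExt1 : Subsingleton (Ext (ModuleCat.of A (A ⧸ Ideal.span {a₀, a₁})) (ModuleCat.of A K) 1) :=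
    subsingleton_ext_one f hf hk e' _ (gv (maximalIdeal A) k _ hJ)
  have hJ' : Module.supportDim A (A ⧸ Ideal.span {a₀, a₁}) < ((k + 1 : ℕ) : WithBot ℕ∞) :=
    hJ.trans (by exact_mod_cast Nat.lt_succ_self k)
  have hHom : ∀ φ : (A ⧸ Ideal.span {a₀, a₁}) →ₗ[A] K, φ = 0 :=
    hom_eq_zero_of_supportDim_lt f hf hk e' _ hJ'
  have hS : ((ModuleCat.of A K).smulShortComplex a₀).ShortExact :=
    IsSMulRegular.smulShortComplex_shortExact (M := ModuleCat.of A K) hreg₀
  have key : ∀ y : QuotSMulTop a₀ K, a₁ • y = 0 → y = 0 := by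
    intro y hy
    have h0 : a₀ • y = 0 := by
      obtain ⟨z, rfl⟩ := Submodule.Quotient.mk_surjective _ y
      rw [← Submodule.Quotient.mk_smul, Submodule.Quotient.mk_eq_zero]
      exact Submodule.smul_mem_pointwise_smul z a₀ ⊤ Submodule.mem_top
    let ψ : (A ⧸ Ideal.span {a₀, a₁}) →ₗ[A] QuotSMulTop a₀ K :=
      Submodule.liftQ _ (LinearMap.toSpanSingleton A (QuotSMulTop a₀ K) y) (by
        intro a ha
        obtain ⟨r, s, rfl⟩ := Ideal.mem_span_pair.mp ha
        rw [LinearMap.mem_ker, LinearMap.toSpanSingleton_apply, add_smul, mul_smul, mul_smul, h0,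
          hy, smul_zero, smul_zero, add_zero])
    have hψ1 : ψ (Submodule.Quotient.mk 1) = y := by
      change (LinearMap.toSpanSingleton A (QuotSMulTop a₀ K) y) 1 = y
      rw [LinearMap.toSpanSingleton_apply, one_smul]
    let x₃ : Ext (ModuleCat.of A (A ⧸ Ideal.span {a₀, a₁}))
        ((ModuleCat.of A K).smulShortComplex a₀).X₃ 0 := Ext.mk₀ (ModuleCat.ofHom ψ)
    obtain ⟨x₂, hx₂⟩ := Ext.covariant_sequence_exact₃
      (ModuleCat.of A (A ⧸ Ideal.span {a₀, a₁})) hS x₃ (zero_add 1)
      (@Subsingleton.elim _ hExt1 _ _)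
    obtain ⟨g, rfl⟩ := exists_mk₀ x₂
    have hg : g = 0 := by
      apply ModuleCat.hom_ext
      exact hHom g.hom
    rw [hg, Ext.mk₀_zero, Ext.zero_comp] at hx₂
    have hψ0 : ModuleCat.ofHom ψ = 0 := by
      apply (Ext.mk₀_bijective _ _).1
      rw [Ext.mk₀_zero]
      exact hx₂.symm
    have : ψ = 0 := congrArg ModuleCat.Hom.hom hψ0
    rw [← hψ1, this]
    rfl
  intro x y hxy
  have : a₁ • (x - y) = 0 := by
    rw [smul_sub]
    exact sub_eq_zero.mpr hxy
  exact sub_eq_zero.mp (key _ this)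

end Second

section Sop

variable {n : ℕ} (a : Fin n → A) (ha : ∀ i, a i ∈ maximalIdeal A)
  (hsop : maximalIdeal A ≤ (Ideal.span (Set.range a)).radical)

include ha hsop in
theorem supportDim_quot_first (hn0 : 0 < n) :
    Module.supportDim A (A ⧸ Ideal.span {a ⟨0, hn0⟩}) ≤ ((n - 1 : ℕ) : WithBot ℕ∞) := by
  have h := supportDim_quotient_le (Ideal.span {a ⟨0, hn0⟩})
    ((Ideal.span_singleton_le_iff_mem _).mpr (ha _))
    (List.ofFn (fun i : Fin (n - 1) => a ⟨i.1 + 1, by omega⟩))
    (by
      intro x hx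
      obtain ⟨i, rfl⟩ := (List.mem_ofFn' _ _).mp hx
      exact ha _)
    (by
      refine hsop.trans (Ideal.radical_mono ?_)
      rw [Ideal.span_le]
      rintro _ ⟨i, rfl⟩
      rcases Nat.eq_zero_or_pos i.1 with h0 | hpos
      · have : i = ⟨0, hn0⟩ := Fin.ext h0
        rw [this]
        exact Ideal.mem_sup_left (Ideal.subset_span rfl)
      · refine Ideal.mem_sup_right (Ideal.subset_span ?_)
        rw [Set.mem_ofPred_eq, List.mem_ofFn']
        have hi : (⟨i.1 - 1 + 1, by omega⟩ : Fin n) = i := Fin.ext (by dsimp only; omega)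
        exact ⟨⟨i.1 - 1, by omega⟩, congrArg a hi⟩)
  rwa [List.length_ofFn] at h

include ha hsop in
theorem supportDim_quot_second (h2 : 2 ≤ n) :
    Module.supportDim A (A ⧸ Ideal.span {a ⟨0, by omega⟩, a ⟨1, h2⟩}) ≤
      ((n - 2 : ℕ) : WithBot ℕ∞) := by
  have h := supportDim_quotient_le (Ideal.span {a ⟨0, by omega⟩, a ⟨1, h2⟩})
    (by
      rw [Ideal.span_le]
      intro x hx
      rcases hx with rfl | rfl
      · exact ha _
      · exact ha _)
    (List.ofFn (fun i : Fin (n - 2) => a ⟨i.1 + 2, by omega⟩))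
    (by
      intro x hx
      obtain ⟨i, rfl⟩ := (List.mem_ofFn' _ _).mp hx
      exact ha _)
    (by
      refine hsop.trans (Ideal.radical_mono ?_)
      rw [Ideal.span_le]
      rintro _ ⟨i, rfl⟩
      rcases Nat.lt_or_ge i.1 2 with hlt | hge
      · rcases Nat.eq_zero_or_pos i.1 with h0 | hpos
        · have : i = ⟨0, by omega⟩ := Fin.ext h0
          rw [this]
          exact Ideal.mem_sup_left (Ideal.subset_span (Set.mem_insert _ _))
        · have : i = ⟨1, h2⟩ := Fin.ext (by simp only []; omega)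
          rw [this]
          exact Ideal.mem_sup_left (Ideal.subset_span (Set.mem_insert_of_mem _ rfl))
      · refine Ideal.mem_sup_right (Ideal.subset_span ?_)
        rw [Set.mem_ofPred_eq, List.mem_ofFn']
        have hi : (⟨i.1 - 2 + 2, by omega⟩ : Fin n) = i := Fin.ext (by dsimp only; omega)
        exact ⟨⟨i.1 - 2, by omega⟩, congrArg a hi⟩)
  rwa [List.length_ofFn] at h

end Sop

end Groth.Agent.H2.CanonSop
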