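import Mathlib
import Groth.Agent.H2.LCInjective

/-!
# `cd(I + J) ≤ cd(I) + cd(J)`  (helper2)

by dimension shifting (no spectral sequence).
-/

set_option autoImplicit false
set_option linter.unusedSectionVars false
set_option linter.style.haveILetI false

namespace Groth.Agent.H2.CdSup

universe u

open CategoryTheory Abelian Groth.Agent.H58.LC Groth.Agent.H2.LCInjective Groth.Agent.H2.InjDimQuot

variable {R : Type u} [CommRing R] [IsNoetherianRing R]

section gamma

variable (J : Ideal R)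

/-- the restriction of a morphism to the `J`-power torsion submodules -/
noncomputable def Γmap {X Y : ModuleCat.{u} R} (f : X ⟶ Y) :
    DRing.torsionSub J X →ₗ[R] DRing.torsionSub J Y :=
  f.hom.restrict (fun x hx => by
    obtain ⟨n, hn⟩ := hx
    exact ⟨n, fun a ha => by rw [← map_smul, hn a ha, map_zero]⟩)

theorem Γmap_val {X Y : ModuleCat.{u} R} (f : X ⟶ Y) (x : DRing.torsionSub J X) :
    (Γmap J f x : Y) = f.hom (x : X) := rfl

/-- `Γ_J(M)` as an object -/
noncomputable abbrev Γ (M : ModuleCat.{u} R) : ModuleCat.{u} R :=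
  ModuleCat.of R (DRing.torsionSub J M)

variable {S : ShortComplex (ModuleCat.{u} R)} (hS : S.ShortExact)

include hS in
theorem Γ_exact (h1 : Subsingleton (H J 1 S.X₁)) :
    Function.Injective (Γmap J S.f) ∧ Function.Surjective (Γmap J S.g) ∧
      Function.Exact (Γmap J S.f) (Γmap J S.g) := by
  have hf := injective_f hS
  have hfg := exact_fg hS
  refine ⟨?_, ?_, ?_⟩
  · intro x y hxy
    apply Subtype.ext
    apply hf
    exact congrArg Subtype.val hxy
  · intro c
    set z := (H0equiv J S.X₃).symm c with hz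
    have hδ : δ J 0 hS z = 0 := Subsingleton.elim _ _
    obtain ⟨z₂, hz₂⟩ := exact₃ J 0 hS z hδ
    refine ⟨H0equiv J S.X₂ z₂, ?_⟩
    apply Subtype.ext
    rw [Γmap_val, ← H0equiv_map, hz₂, hz, LinearEquiv.apply_symm_apply]
  · intro x₂
    constructor
    · intro hx
      have hx' : S.g.hom (x₂ : S.X₂) = 0 := congrArg Subtype.val hx
      obtain ⟨x₁, hx₁⟩ := (hfg (x₂ : S.X₂)).mp hx'
      have hmem : x₁ ∈ DRing.torsionSub J S.X₁ := by
        obtain ⟨n, hn⟩ := x₂.2
        refine ⟨n, fun a ha => ?_⟩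
        apply hf
        rw [map_smul, hx₁, hn a ha, map_zero]
      exact ⟨⟨x₁, hmem⟩, Subtype.ext hx₁⟩
    · rintro ⟨x₁, rfl⟩
      apply Subtype.ext
      rw [Γmap_val, Γmap_val]
      exact (hfg _).mpr ⟨_, rfl⟩

end gamma

section main

variable (I J : Ideal R)

/-- `H^q_J(M) = 0` for all `q > b` -/
def Acyc (b : ℕ) (M : ModuleCat.{u} R) : Prop := ∀ q, b < q → Subsingleton (H J q M)

variable {J} in
theorem Acyc.X₃ {S : ShortComplex (ModuleCat.{u} R)} (hS : S.ShortExact) [Injective S.X₂] {b : ℕ}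
    (h : Acyc J (b + 1) S.X₁) : Acyc J b S.X₃ := by
  intro q hq
  obtain ⟨j, rfl⟩ : ∃ j, q = j + 1 := ⟨q - 1, by omega⟩
  have := h (j + 2) (by omega)
  exact (δEquiv J hS j).toEquiv.subsingleton

variable {J} in
theorem Acyc.X₃_zero {S : ShortComplex (ModuleCat.{u} R)} (hS : S.ShortExact) [Injective S.X₂]
    (h : Acyc J 0 S.X₁) : Acyc J 0 S.X₃ := by
  intro q hq
  obtain ⟨j, rfl⟩ : ∃ j, q = j + 1 := ⟨q - 1, by omega⟩
  have := h (j + 2) (by omega)
  exact (δEquiv J hS j).toEquiv.subsingleton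

theorem mem_torsionSub_sup {M : ModuleCat.{u} R} (x : M) :
    x ∈ DRing.torsionSub (I ⊔ J) M ↔ x ∈ DRing.torsionSub I M ∧ x ∈ DRing.torsionSub J M := by
  constructor
  · rintro ⟨n, hn⟩
    exact ⟨⟨n, fun a ha => hn a (Ideal.pow_right_mono le_sup_left n ha)⟩,
      ⟨n, fun a ha => hn a (Ideal.pow_right_mono le_sup_right n ha)⟩⟩
  · rintro ⟨⟨n, hn⟩, ⟨m, hm⟩⟩
    refine ⟨n + m, fun a ha => ?_⟩
    have := Ideal.sup_pow_add_le_pow_sup_pow (I := I) (J := J) (n := n) (m := m) ha
    obtain ⟨a₁, ha₁, a₂, ha₂, rfl⟩ := Submodule.mem_sup.mp this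
    rw [add_smul, hn a₁ ha₁, hm a₂ ha₂, add_zero]

/-- the key step in degree one -/
theorem subsingleton_H1_sup (M : ModuleCat.{u} R) (hM : Acyc J 0 M)
    (h : Subsingleton (H I 1 (Γ J M))) : Subsingleton (H (I ⊔ J) 1 M) := by
  have hS := injSC_shortExact M
  obtain ⟨hf, hg, hfg⟩ := Γ_exact J hS (hM 1 (by omega))
  have hS' := Groth.Agent.H29.GlDimL.shortExact_of_exact _ _ hf hg hfg
  -- surjectivity of `Γ_K E → Γ_K C`
  have hsurj : ∀ c : DRing.torsionSub (I ⊔ J) (injSC M).X₃,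
      ∃ e : DRing.torsionSub (I ⊔ J) (injSC M).X₂, (injSC M).g.hom (e : (injSC M).X₂) = c := by
    intro c
    obtain ⟨hcI, hcJ⟩ := (mem_torsionSub_sup I J (c : (injSC M).X₃)).mp c.2
    let c' : DRing.torsionSub J (injSC M).X₃ := ⟨c, hcJ⟩
    have hc' : c' ∈ DRing.torsionSub I (Γ J (injSC M).X₃) := by
      obtain ⟨n, hn⟩ := hcI
      exact ⟨n, fun a ha => Subtype.ext (hn a ha)⟩
    set z := (H0equiv I (Γ J (injSC M).X₃)).symm ⟨c', hc'⟩ with hz
    have hδ : δ I 0 hS' z = 0 := Subsingleton.elim (h := h) _ _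
    obtain ⟨z₂, hz₂⟩ := exact₃ I 0 hS' z hδ
    set e' := H0equiv I (Γ J (injSC M).X₂) z₂ with he'
    have key : (Γmap J (injSC M).g (e' : DRing.torsionSub J (injSC M).X₂)) = c' := by
      have h1 := H0equiv_map I (ModuleCat.ofHom (Γmap J (injSC M).g)) z₂
      have h2 : ((localCohomology I 0).map (ModuleCat.ofHom (Γmap J (injSC M).g))).hom z₂ = z := hz₂
      rw [h2, hz, LinearEquiv.apply_symm_apply] at h1
      exact h1.symm
    have heI : ((e' : DRing.torsionSub J (injSC M).X₂) : (injSC M).X₂) ∈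
        DRing.torsionSub I (injSC M).X₂ := by
      obtain ⟨n, hn⟩ := e'.2
      exact ⟨n, fun a ha => congrArg Subtype.val (hn a ha)⟩
    refine ⟨⟨((e' : DRing.torsionSub J (injSC M).X₂) : (injSC M).X₂),
      (mem_torsionSub_sup I J _).mpr ⟨heI, (e' : DRing.torsionSub J (injSC M).X₂).2⟩⟩, ?_⟩
    exact congrArg Subtype.val key
  refine InjDimResidue.subsingleton_of_forall_eq_zero fun y => ?_
  obtain ⟨x₃, rfl⟩ := δ_zero_surjective (I ⊔ J) hS y
  obtain ⟨e, he⟩ := hsurj (H0equiv (I ⊔ J) (injSC M).X₃ x₃)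
  have hx : ((localCohomology (I ⊔ J) 0).map (injSC M).g).hom
      ((H0equiv (I ⊔ J) (injSC M).X₂).symm e) = x₃ := by
    apply (H0equiv (I ⊔ J) (injSC M).X₃).injective
    apply Subtype.ext
    rw [H0equiv_map, LinearEquiv.apply_symm_apply, he]
  rw [← hx, δ_map_g]

/-- the key step in all positive degrees -/
theorem subsingleton_H_sup_zero (n : ℕ) : ∀ (M : ModuleCat.{u} R), Acyc J 0 M →
    Subsingleton (H I (n + 1) (Γ J M)) → Subsingleton (H (I ⊔ J) (n + 1) M) := by
  induction n with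
  | zero => exact fun M hM h => subsingleton_H1_sup I J M hM h
  | succ n ih =>
    intro M hM h
    have hS := injSC_shortExact M
    obtain ⟨hf, hg, hfg⟩ := Γ_exact J hS (hM 1 (by omega))
    have hS' := Groth.Agent.H29.GlDimL.shortExact_of_exact _ _ hf hg hfg
    haveI : Injective (ModuleCat.of R ((injSC M).X₂ : Type u)) :=
      inferInstanceAs (Injective (injSC M).X₂)
    haveI : Module.Injective R (injSC M).X₂ :=
      Module.injective_module_of_injective_object R (injSC M).X₂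
    haveI : Module.Injective R (DRing.torsionSub J (injSC M).X₂) := injective_torsionSub J _
    have hinj' : Injective (Γ J (injSC M).X₂) := Module.injective_object_of_injective_module R _
    have h3 : Subsingleton (H I (n + 1) (Γ J (injSC M).X₃)) :=
      @Equiv.subsingleton _ _ (δEquiv I hS' (hinj := hinj') n).toEquiv h
    have := ih (injSC M).X₃ (Acyc.X₃_zero hS hM) h3
    exact (δEquiv (I ⊔ J) hS n).symm.toEquiv.subsingleton

theorem subsingleton_H_sup (a : ℕ) (hI : LocCoh.CdLE R I a) (b : ℕ) :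
    ∀ (M : ModuleCat.{u} R), Acyc J b M → ∀ n, a + b < n → Subsingleton (H (I ⊔ J) n M) := by
  induction b with
  | zero =>
    intro M hM n hn
    obtain ⟨n', rfl⟩ : ∃ n', n = n' + 1 := ⟨n - 1, by omega⟩
    exact subsingleton_H_sup_zero I J n' M hM (hI (DRing.torsionSub J M) (n' + 1) (by omega))
  | succ b ih =>
    intro M hM n hn
    obtain ⟨n', rfl⟩ : ∃ n', n = n' + 2 := ⟨n - 2, by omega⟩
    have hS := injSC_shortExact M
    have := ih (injSC M).X₃ (Acyc.X₃ hS hM) (n' + 1) (by omega)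
    exact (δEquiv (I ⊔ J) hS n').symm.toEquiv.subsingleton

/-- **`cd(I + J) ≤ cd(I) + cd(J)`** -/
theorem cdLE_sup (a b : ℕ) (hI : LocCoh.CdLE R I a) (hJ : LocCoh.CdLE R J b) :
    LocCoh.CdLE R (I ⊔ J) (a + b) := by
  intro M _ _ i hi
  exact subsingleton_H_sup I J a hI b (ModuleCat.of R M) (fun q hq => hJ M q hq) i hi

end main

end Groth.Agent.H2.CdSup
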