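import Mathlib
import Groth.Agent.H2.LCInjective
import Groth.Agent.H98.LCRes.NonVanish

/-!
# Non-vanishing of local cohomology at the depth  (helper2)
-/

set_option autoImplicit false
set_option linter.unusedSectionVars false
set_option linter.style.haveILetI false

namespace Groth.Agent.H2.LCDepthNonvanish

universe u

open CategoryTheory Abelian Groth.Agent.H58.LC Groth.Agent.H2.LCInjective RingTheory.Sequence

variable {R : Type u} [CommRing R] [IsNoetherianRing R] (I : Ideal R)

theorem idealDepth_quotSMulTop (M : Type u) [AddCommGroup M] [Module R M] [Module.Finite R M]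
    (x : R) (hxI : x ∈ I) (hx : IsSMulRegular M x) (n : ℕ)
    (h : LocCoh.idealDepth I M = (n + 1 : ℕ)) : LocCoh.idealDepth I (QuotSMulTop x M) = n := by
  apply le_antisymm
  · by_contra hcon
    rw [not_le] at hcon
    have h1 : ((n + 1 : ℕ) : ℕ∞) ≤ LocCoh.idealDepth I (QuotSMulTop x M) := by
      have := Order.add_one_le_of_lt hcon
      exact_mod_cast this
    have h2 := Groth.Agent.H72.DepthFinite.succ_le_idealDepth_of_quotSMulTop I M x hxI hx (n + 1) h1
    rw [h] at h2
    have : n + 1 + 1 ≤ n + 1 := by exact_mod_cast h2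
    omega
  · exact Groth.Agent.H15.le_idealDepth_quotSMulTop I M x hxI hx n (le_of_eq h.symm)

/-- **Non-vanishing at the depth.** -/
theorem nontrivial_H_of_idealDepth_eq (n : ℕ) : ∀ (M : Type u) [AddCommGroup M] [Module R M]
    [Module.Finite R M], I • (⊤ : Submodule R M) ≠ ⊤ → LocCoh.idealDepth I M = n →
    Nontrivial (H I n (ModuleCat.of R M)) := by
  induction n with
  | zero =>
    intro M _ _ _ hne hd
    by_contra hcon
    rw [not_nontrivial_iff_subsingleton] at hcon
    have hbot : DRing.torsionSub I M = ⊥ := by
      have : Subsingleton (DRing.torsionSub I M) :=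
        (H0equiv I (ModuleCat.of R M)).symm.toEquiv.subsingleton
      exact Submodule.subsingleton_iff_eq_bot.mp this
    obtain ⟨x, hxI, hreg⟩ :=
      Groth.Agent.H98.LCRes.exists_isSMulRegular_of_torsionSub_eq_bot I M hbot
    have hw : IsWeaklyRegular M [x] :=
      (isWeaklyRegular_cons_iff M x []).mpr ⟨hreg, IsWeaklyRegular.nil R _⟩
    have h1 := Groth.Agent.H15.le_idealDepth I M hw (by simpa using hxI)
    rw [hd] at h1
    simp at h1
  | succ n ih =>
    intro M _ _ _ hne hd
    obtain ⟨x, hxI, hreg⟩ :=
      Groth.Agent.H72.DepthFinite.exists_isSMulRegular_of_one_le_idealDepth I M hne n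
        (le_of_eq hd.symm)
    have hne' : I • (⊤ : Submodule R (QuotSMulTop x M)) ≠ ⊤ :=
      Groth.Agent.H15.smul_top_quotSMulTop_ne_top hxI hne
    have hd' := idealDepth_quotSMulTop I M x hxI hreg n hd
    have hnt := ih (QuotSMulTop x M) hne' hd'
    have hvan : Subsingleton (H I n (ModuleCat.of R M)) :=
      subsingleton_H_of_lt_depth I (n + 1) M hne (le_of_eq hd.symm) n (by omega)
    have hS := shortExact_smul M hreg
    have hinj : Function.Injective (δ I n hS) := by
      rw [injective_iff_map_eq_zero]
      intro z hz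
      obtain ⟨z₂, rfl⟩ := exact₃ I n hS z hz
      rw [Subsingleton.elim z₂ 0, map_zero]
    exact hinj.nontrivial

/-- **Depth is the least non-vanishing degree of local cohomology.** -/
theorem idealDepth_eq_iff (M : Type u) [AddCommGroup M] [Module R M] [Module.Finite R M]
    (hIM : I • (⊤ : Submodule R M) ≠ ⊤) (n : ℕ) :
    LocCoh.idealDepth I M = n ↔ ((∀ i : ℕ, i < n → Subsingleton (H I i (ModuleCat.of R M))) ∧
      Nontrivial (H I n (ModuleCat.of R M))) := by
  constructor
  · intro h
    exact ⟨subsingleton_H_of_lt_depth I n M hIM (le_of_eq h.symm),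
      nontrivial_H_of_idealDepth_eq I n M hIM h⟩
  · rintro ⟨hvan, hnt⟩
    cases hd : LocCoh.idealDepth I M with
    | top =>
      have := subsingleton_H_of_lt_depth I (n + 1) M hIM (by rw [hd]; exact le_top) n (by omega)
      exact absurd hnt (not_nontrivial_iff_subsingleton.mpr this)
    | coe d =>
      have h1 := subsingleton_H_of_lt_depth I d M hIM (le_of_eq hd.symm)
      have h2 := nontrivial_H_of_idealDepth_eq I d M hIM hd
      rcases lt_trichotomy d n with hlt | heq | hgt
      · exact absurd h2 (not_nontrivial_iff_subsingleton.mpr (hvan d hlt))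
      · rw [heq]
      · exact absurd hnt (not_nontrivial_iff_subsingleton.mpr (h1 n hgt))

end Groth.Agent.H2.LCDepthNonvanish
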