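import Mathlib
import Groth.Agent.H58.LCGV
import Groth.Agent.H58.LCDepth

/-!
# Multiplication by a parameter is surjective on the top local cohomology  (helper2)
-/

set_option autoImplicit false
set_option linter.unusedSectionVars false
set_option linter.style.haveILetI false

namespace Groth.Agent.H2.LCTopSurj

universe u

open CategoryTheory Groth.Agent.H58.LC

variable {R : Type u} [CommRing R] [IsNoetherianRing R]

/-- a finite module killed by an element avoiding the top-dimensional minimal primes has
dimension `< dim R` -/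
theorem supportDim_lt_of_smul_eq_zero (d : ℕ) (hd : ringKrullDim R = d) (f : R)
    (hf : ∀ p ∈ minimalPrimes R, ringKrullDim (R ⧸ p) = d → f ∉ p)
    (N : Type u) [AddCommGroup N] [Module R N] [Module.Finite R N] (hN : ∀ y : N, f • y = 0) :
    Module.supportDim R N < (d : WithBot ℕ∞) := by
  rw [Module.supportDim, Order.krullDim_lt_coe_iff]
  intro l
  by_contra hcon
  rw [not_lt] at hcon
  have hfann : f ∈ Module.annihilator R N := Module.mem_annihilator.mpr hN
  have hhead : f ∈ (l.head : PrimeSpectrum R).asIdeal :=
    (Module.mem_support_iff_of_finite.mp l.head.2) hfann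
  obtain ⟨q, hq, hqle⟩ := Ideal.exists_minimalPrimes_le
    (I := (⊥ : Ideal R)) (J := (l.head : PrimeSpectrum R).asIdeal) bot_le
  have hqprime : q.IsPrime := hq.1.1
  -- the chain in `Spec R`
  let l' : LTSeries (PrimeSpectrum R) := l.map Subtype.val (fun _ _ h => h)
  rcases eq_or_lt_of_le hqle with heq | hlt
  · -- `q` is the head
    have hfq : f ∈ q := heq ▸ hhead
    apply hf q hq ?_ hfq
    apply le_antisymm
    · rw [← hd]; exact ringKrullDim_quotient_le q
    · rw [ringKrullDim_quotient]
      have hmem : ∀ i, (l i : PrimeSpectrum R) ∈ PrimeSpectrum.zeroLocus (q : Set R) := by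
        intro i
        rw [PrimeSpectrum.mem_zeroLocus, SetLike.coe_subset_coe, heq]
        have : l.head ≤ l i := l.monotone (Fin.zero_le _)
        exact this
      let l'' : LTSeries (PrimeSpectrum.zeroLocus (q : Set R)) :=
        { length := l.length
          toFun := fun i => ⟨l i, hmem i⟩
          step := fun i => l.step i }
      calc (d : WithBot ℕ∞) ≤ (l.length : ℕ) := by exact_mod_cast hcon
        _ = (l''.length : ℕ) := rfl
        _ ≤ Order.krullDim (PrimeSpectrum.zeroLocus (q : Set R)) := Order.LTSeries.length_le_krullDim l''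
  · -- `q` is strictly below the head: a longer chain in `Spec R`
    let l'' : LTSeries (PrimeSpectrum R) := l'.cons ⟨q, hqprime⟩ (by
      show (⟨q, hqprime⟩ : PrimeSpectrum R) < l'.head
      rw [LTSeries.head_map]
      exact hlt)
    have h1 : ((l''.length : ℕ) : WithBot ℕ∞) ≤ ringKrullDim R := Order.LTSeries.length_le_krullDim l''
    have h2 : l''.length = l.length + 1 := by simp [l'', l']
    rw [hd, h2] at h1
    have : l.length + 1 ≤ d := by exact_mod_cast h1
    omega

variable (I : Ideal R)

/-- **Surjectivity of multiplication on top local cohomology.** -/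
theorem smul_surjective (d : ℕ) (hd : ringKrullDim R = d) (f : R)
    (hf : ∀ p ∈ minimalPrimes R, ringKrullDim (R ⧸ p) = d → f ∉ p)
    (M : Type u) [AddCommGroup M] [Module R M] [Module.Finite R M] :
    Function.Surjective (fun x : LocCoh.H I d M => f • x) := by
  let φ : M →ₗ[R] M := LinearMap.lsmul R M f
  -- the two short exact sequences
  have hS1 := shortExact_of (LinearMap.ker φ).subtype φ.rangeRestrict
    (Submodule.injective_subtype _) φ.surjective_rangeRestrict
    (by
      intro y
      rw [← LinearMap.mem_ker, LinearMap.ker_rangeRestrict]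
      constructor
      · intro h; exact ⟨⟨y, h⟩, rfl⟩
      · rintro ⟨z, rfl⟩; exact z.2)
  have hS2 := shortExact_of (LinearMap.range φ).subtype (LinearMap.range φ).mkQ
    (Submodule.injective_subtype _) (Submodule.mkQ_surjective _)
    (LinearMap.exact_subtype_mkQ _)
  -- vanishing
  have hv1 : Subsingleton (LocCoh.H I (d + 1) (LinearMap.ker φ)) := by
    apply gv I (d + 1)
    refine lt_of_le_of_lt (Module.supportDim_le_ringKrullDim R _) ?_
    rw [hd]
    exact_mod_cast Nat.lt_succ_self d
  have hv2 : Subsingleton (LocCoh.H I d (M ⧸ LinearMap.range φ)) := by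
    apply gv I d
    apply supportDim_lt_of_smul_eq_zero d hd f hf
    intro y
    obtain ⟨m, rfl⟩ := Submodule.mkQ_surjective _ y
    rw [← map_smul, Submodule.mkQ_apply, Submodule.Quotient.mk_eq_zero]
    exact ⟨m, rfl⟩
  intro x
  -- lift along `H^d(fM) → H^d(M)`
  obtain ⟨x₁, hx₁⟩ := exact₂ I d hS2 x (Subsingleton.elim (h := hv2) _ _)
  -- lift along `H^d(M) → H^d(fM)`
  obtain ⟨x₂, hx₂⟩ := exact₃ I d hS1 x₁ (Subsingleton.elim (h := hv1) _ _)
  refine ⟨x₂, ?_⟩
  show f • x₂ = x
  have hcomp : ModuleCat.ofHom φ.rangeRestrict ≫ ModuleCat.ofHom (LinearMap.range φ).subtype =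
      f • 𝟙 (ModuleCat.of R M) := by
    apply ModuleCat.hom_ext
    apply LinearMap.ext
    intro m; rfl
  have h1 : ((localCohomology I d).map (f • 𝟙 (ModuleCat.of R M))).hom x₂ = f • x₂ := by
    rw [map_smul', CategoryTheory.Functor.map_id]
    rfl
  rw [← h1, ← hcomp, Functor.map_comp]
  show ((localCohomology I d).map (ModuleCat.ofHom (LinearMap.range φ).subtype)).hom
    (((localCohomology I d).map (ModuleCat.ofHom φ.rangeRestrict)).hom x₂) = x
  rw [hx₂, hx₁]

end Groth.Agent.H2.LCTopSurj
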