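import Groth.Prelude.Def_FEt
import Mathlib.AlgebraicGeometry.Morphisms.Separated
import Mathlib.AlgebraicGeometry.Morphisms.FormallyUnramified
import Mathlib.AlgebraicGeometry.Morphisms.UniversallyOpen
import Mathlib.AlgebraicGeometry.Morphisms.UnderlyingMap
import Mathlib.AlgebraicGeometry.PullbackCarrier

set_option autoImplicit false
universe u

open CategoryTheory CategoryTheory.Limits AlgebraicGeometry

namespace Groth.Agent.H2.FEtFaithful

set_option backward.isDefEq.respectTransparency false in
/-- the equalizer of two `S`-morphisms into an unramified `S`-scheme is an open immersion -/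
lemma isOpenImmersion_equalizer_ι_left {S : Scheme.{u}} {X Y : Over S}
    [FormallyUnramified Y.hom] [LocallyOfFiniteType Y.hom]
    (f g : X ⟶ Y) : IsOpenImmersion (equalizer.ι f g).left := by
  refine MorphismProperty.of_isPullback
    ((Limits.isPullback_equalizer_prod f g).map (Over.forget _)).flip ?_
  rw [← MorphismProperty.cancel_right_of_respectsIso @IsOpenImmersion _
    (Over.prodLeftIsoPullback Y Y).hom]
  convert! (inferInstance : IsOpenImmersion (pullback.diagonal Y.hom))
  ext1 <;> simp [← Over.comp_left]

set_option backward.isDefEq.respectTransparency false in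
/-- two morphisms over `Z` into a separated unramified `Z`-scheme agreeing on a dominant
morphism are equal (no reducedness needed). -/
lemma ext_of_isDominant_of_unramified {W X Y Z : Scheme.{u}} {f g : X ⟶ Y}
    (s : Y ⟶ Z) [IsSeparated s] [FormallyUnramified s] [LocallyOfFiniteType s]
    (h : f ≫ s = g ≫ s)
    (ι : W ⟶ X) [IsDominant ι] (hU : ι ≫ f = ι ≫ g) : f = g := by
  let X' : Over Z := Over.mk (f ≫ s)
  let Y' : Over Z := Over.mk s
  let U' : Over Z := Over.mk (ι ≫ f ≫ s)
  let f' : X' ⟶ Y' := Over.homMk f
  let g' : X' ⟶ Y' := Over.homMk g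
  let ι' : U' ⟶ X' := Over.homMk ι
  have : IsSeparated Y'.hom := ‹_›
  have : FormallyUnramified Y'.hom := ‹_›
  have : LocallyOfFiniteType Y'.hom := ‹_›
  have : IsDominant (equalizer.ι f' g').left := by
    apply +allowSynthFailures IsDominant.of_comp (equalizer.lift ι' ?_).left
    · rwa [← Over.comp_left, equalizer.lift_ι]
    · ext1; exact hU
  have : Surjective (equalizer.ι f' g').left :=
    surjective_of_isDominant_of_isClosed_range _ (Scheme.Hom.isClosedEmbedding _).isClosed_range
  have : IsOpenImmersion (equalizer.ι f' g').left := isOpenImmersion_equalizer_ι_left f' g'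
  have : IsIso (equalizer.ι f' g').left := by
    rw [isIso_iff_isOpenImmersion_and_epi_base]
    refine ⟨inferInstance, ?_⟩
    rw [TopCat.epi_iff_surjective]
    exact (equalizer.ι f' g').left.surjective
  rw [← cancel_epi (equalizer.ι f' g').left]
  exact congr($(equalizer.condition f' g').left)

/-- **S0237**: pulling back finite étale covers along a morphism with dense image is faithful. -/
theorem restrict_faithful_of_denseRange {X Y : Scheme.{u}} (f : X ⟶ Y)
    (h : DenseRange f.base) : (FEt.restrict f).Faithful := by
  refine ⟨fun {A B} a b hab => ?_⟩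
  have hA : IsFinite A.hom ∧ Etale A.hom := A.prop
  have hB : IsFinite B.hom ∧ Etale B.hom := B.prop
  have : IsFinite A.hom := hA.1
  have : Etale A.hom := hA.2
  have : IsFinite B.hom := hB.1
  have : Etale B.hom := hB.2
  -- the two maps agree after precomposition with the projection
  have h1 : pullback.fst A.hom f ≫ a.left = pullback.fst A.hom f ≫ b.left := by
    have e := congrArg (fun φ => φ.left ≫ pullback.fst B.hom f) hab
    have ea : ((FEt.restrict f).map a).left ≫ pullback.fst B.hom f =
        pullback.fst A.hom f ≫ a.left := pullback.lift_fst _ _ _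
    have eb : ((FEt.restrict f).map b).left ≫ pullback.fst B.hom f =
        pullback.fst A.hom f ≫ b.left := pullback.lift_fst _ _ _
    exact ea.symm.trans (e.trans eb)
  -- the projection is dominant
  have hdom : IsDominant (pullback.fst A.hom f) := by
    constructor
    have hopen : IsOpenMap A.hom.base := A.hom.isOpenMap
    have : Dense (Set.range (pullback.fst A.hom f)) := by
      rw [Scheme.Pullback.range_fst]
      exact h.preimage hopen
    exact this
  have hleft : a.left = b.left :=
    ext_of_isDominant_of_unramified B.hom (by rw [MorphismProperty.Over.w, MorphismProperty.Over.w])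
      (pullback.fst A.hom f) h1
  exact MorphismProperty.Over.Hom.ext hleft


set_option backward.isDefEq.respectTransparency false in
/-- the locus where two morphisms over `Z` into a separated unramified `Z`-scheme agree is clopen:
there is a clopen set containing the image of any morphism equalizing them, and if it is everything
the two morphisms are equal. -/
lemma exists_isClopen_of_unramified {W X Y Z : Scheme.{u}} {f g : X ⟶ Y}
    (s : Y ⟶ Z) [IsSeparated s] [FormallyUnramified s] [LocallyOfFiniteType s]
    (h : f ≫ s = g ≫ s) (ι : W ⟶ X) (hU : ι ≫ f = ι ≫ g) :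
    ∃ U : Set X, IsClopen U ∧ Set.range ι ⊆ U ∧ (U = Set.univ → f = g) := by
  let X' : Over Z := Over.mk (f ≫ s)
  let Y' : Over Z := Over.mk s
  let U' : Over Z := Over.mk (ι ≫ f ≫ s)
  let f' : X' ⟶ Y' := Over.homMk f
  let g' : X' ⟶ Y' := Over.homMk g
  let ι' : U' ⟶ X' := Over.homMk ι
  have : IsSeparated Y'.hom := ‹_›
  have : FormallyUnramified Y'.hom := ‹_›
  have : LocallyOfFiniteType Y'.hom := ‹_›
  have hopen : IsOpenImmersion (equalizer.ι f' g').left := isOpenImmersion_equalizer_ι_left f' g'
  have hlift : ι' ≫ f' = ι' ≫ g' := by ext1; exact hU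
  refine ⟨Set.range (equalizer.ι f' g').left, ⟨?_, ?_⟩, ?_, ?_⟩
  · exact (Scheme.Hom.isClosedEmbedding (equalizer.ι f' g').left).isClosed_range
  · exact (Scheme.Hom.isOpenEmbedding (equalizer.ι f' g').left).isOpen_range
  · rintro _ ⟨w, rfl⟩
    refine ⟨(equalizer.lift ι' hlift).left w, ?_⟩
    rw [← Scheme.Hom.comp_apply, ← Over.comp_left, equalizer.lift_ι]
    rfl
  · intro huniv
    have : IsIso (equalizer.ι f' g').left := by
      rw [isIso_iff_isOpenImmersion_and_epi_base]
      refine ⟨inferInstance, ?_⟩
      rw [TopCat.epi_iff_surjective, ← Set.range_eq_univ]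
      exact huniv
    rw [← cancel_epi (equalizer.ι f' g').left]
    exact congr($(equalizer.condition f' g').left)

/-- **S0243**: restriction of finite étale covers to a closed subscheme meeting every connected
component is faithful. -/
theorem restrict_faithful_of_closedImmersion {X Y : Scheme.{u}} (i : Y ⟶ X) [IsClosedImmersion i]
    (h : ∀ x : X, (connectedComponent x ∩ Set.range i.base).Nonempty) :
    (FEt.restrict i).Faithful := by
  refine ⟨fun {A B} a b hab => ?_⟩
  have hA : IsFinite A.hom ∧ Etale A.hom := A.prop
  have hB : IsFinite B.hom ∧ Etale B.hom := B.prop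
  have : IsFinite A.hom := hA.1
  have : Etale A.hom := hA.2
  have : IsFinite B.hom := hB.1
  have : Etale B.hom := hB.2
  have h1 : pullback.fst A.hom i ≫ a.left = pullback.fst A.hom i ≫ b.left := by
    have e := congrArg (fun φ => φ.left ≫ pullback.fst B.hom i) hab
    have ea : ((FEt.restrict i).map a).left ≫ pullback.fst B.hom i =
        pullback.fst A.hom i ≫ a.left := pullback.lift_fst _ _ _
    have eb : ((FEt.restrict i).map b).left ≫ pullback.fst B.hom i =
        pullback.fst A.hom i ≫ b.left := pullback.lift_fst _ _ _
    exact ea.symm.trans (e.trans eb)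
  obtain ⟨U, hUclopen, hUrange, hUeq⟩ := exists_isClopen_of_unramified B.hom
    (by rw [MorphismProperty.Over.w, MorphismProperty.Over.w]) (pullback.fst A.hom i) h1
  have hleft : a.left = b.left := by
    apply hUeq
    by_contra hne
    obtain ⟨c, hc⟩ : ∃ c, c ∉ U := by
      by_contra hcon
      push Not at hcon
      exact hne (Set.eq_univ_of_forall hcon)
    have hopen : IsOpenMap A.hom.base := A.hom.isOpenMap
    have hclosed : IsClosedMap A.hom.base := A.hom.isClosedMap
    have hclopen : IsClopen (A.hom.base '' Uᶜ) :=
      ⟨hclosed _ hUclopen.compl.1, hopen _ hUclopen.compl.2⟩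
    have hx : A.hom.base c ∈ A.hom.base '' Uᶜ := ⟨c, hc, rfl⟩
    have hsub := hclopen.connectedComponent_subset hx
    obtain ⟨p, hp1, hp2⟩ := h (A.hom.base c)
    obtain ⟨c', hc'U, hc'p⟩ := hsub hp1
    apply hc'U
    apply hUrange
    rw [Scheme.Pullback.range_fst]
    change A.hom.base c' ∈ Set.range i.base
    rw [hc'p]
    exact hp2
  exact MorphismProperty.Over.Hom.ext hleft

end Groth.Agent.H2.FEtFaithful
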