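import Groth.Agent.H2.Tor1
import Mathlib.RingTheory.Flat.TorsionFree
import Mathlib.RingTheory.Flat.Localization
import Mathlib.RingTheory.Localization.BaseChange
import Mathlib.LinearAlgebra.TensorProduct.Finiteness
import Mathlib.Algebra.Module.Torsion.Basic

set_option autoImplicit false
universe u
open scoped TensorProduct
open Function (Injective Surjective Exact)

namespace Groth.Agent.H2

section kernel

variable {R : Type u} [CommRing R]

/-- The kernel of a surjection of flat modules is flat. -/
theorem flat_of_exact_of_flat {K F M : Type u} [AddCommGroup K] [Module R K] [AddCommGroup F]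
    [Module R F] [AddCommGroup M] [Module R M] [Module.Flat R F] [Module.Flat R M]
    (i : K →ₗ[R] F) (p : F →ₗ[R] M) (hi : Injective i) (hip : Exact i p) (hp : Surjective p) :
    Module.Flat R K := by
  rw [Module.Flat.iff_rTensor_preserves_injective_linearMap]
  intro N' N _ _ _ _ g hg
  -- `N' ⊗ K → N' ⊗ F` injective since `M` is flat
  have h1 : Injective (i.lTensor N') :=
    (tor1Zero_of_flat_right (N := N') (M := M)) K F i p hi hip hp
  have h2 : Injective (g.rTensor F) := Module.Flat.rTensor_preserves_injective_linearMap g hg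
  have hcomm : (i.lTensor N) ∘ₗ (g.rTensor K) = (g.rTensor F) ∘ₗ (i.lTensor N') := by
    rw [LinearMap.lTensor_comp_rTensor, LinearMap.rTensor_comp_lTensor]
  intro x y hxy
  apply h1
  apply h2
  rw [← LinearMap.comp_apply, ← LinearMap.comp_apply, ← hcomm, LinearMap.comp_apply,
    LinearMap.comp_apply, hxy]

/-- Base change of the kernel of a flat presentation stays flat. -/
theorem flat_baseChange_kernel (B : Type u) [CommRing B] [Algebra R B]
    {K F M : Type u} [AddCommGroup K] [Module R K] [AddCommGroup F]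
    [Module R F] [AddCommGroup M] [Module R M] [Module.Flat R F]
    (i : K →ₗ[R] F) (p : F →ₗ[R] M) (hi : Injective i) (hip : Exact i p) (hp : Surjective p)
    (hB : Tor1Zero R B M) [Module.Flat B (B ⊗[R] M)] : Module.Flat B (B ⊗[R] K) := by
  have hB' := hB K F i p hi hip hp
  have hiB : Injective (i.baseChange B) := by
    rw [LinearMap.baseChange_eq_ltensor]; exact hB'
  have hpB : Surjective (p.baseChange B) := by
    rw [LinearMap.baseChange_eq_ltensor]
    exact LinearMap.lTensor_surjective B hp
  have hex : Exact (i.baseChange B) (p.baseChange B) := by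
    have := lTensor_exact B hip hp
    intro x
    rw [LinearMap.baseChange_eq_ltensor, this x]
    simp [LinearMap.baseChange_eq_ltensor]
  exact flat_of_exact_of_flat (i.baseChange B) (p.baseChange B) hiB hex hpB

end kernel

section away

variable {A : Type u} [CommRing A] (f : A)

/-- If `f` is `M`-regular then `Tor_1(A/f, M) = 0`. -/
theorem tor1Zero_quotient_span_singleton_of_isSMulRegular {M : Type u} [AddCommGroup M]
    [Module A M] (hM : IsSMulRegular M f) : Tor1Zero A (A ⧸ Ideal.span {f}) M := by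
  rw [tor1Zero_quotient_iff]
  let f' : (Ideal.span {f} : Ideal A) := ⟨f, Ideal.mem_span_singleton_self f⟩
  have hsurj : ∀ z : (Ideal.span {f} : Ideal A) ⊗[A] M, ∃ m : M, z = f' ⊗ₜ[A] m := by
    intro z
    induction z using TensorProduct.induction_on with
    | zero => exact ⟨0, by rw [TensorProduct.tmul_zero]⟩
    | tmul x m =>
      obtain ⟨x, hx⟩ := x
      obtain ⟨a, rfl⟩ := Ideal.mem_span_singleton'.mp hx
      refine ⟨a • m, ?_⟩
      rw [← TensorProduct.smul_tmul]
      congr 1
    | add x y hx hy =>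
      obtain ⟨m, rfl⟩ := hx
      obtain ⟨m', rfl⟩ := hy
      exact ⟨m + m', by rw [TensorProduct.tmul_add]⟩
  rw [injective_iff_map_eq_zero]
  intro z hz
  obtain ⟨m, rfl⟩ := hsurj z
  have h1 := congrArg (TensorProduct.lid A M) hz
  rw [LinearMap.rTensor_tmul, map_zero, TensorProduct.lid_tmul] at h1
  have h2 : m = 0 := hM (by
    change f • m = f • (0 : M)
    rw [smul_zero]; exact h1)
  rw [h2, TensorProduct.tmul_zero]

/-- The standing hypotheses on a module `M`. -/
structure FHyp (M : Type u) [AddCommGroup M] [Module A M] : Prop where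
  reg : IsSMulRegular M f
  flat_away : Module.Flat (Localization.Away f) (Localization.Away f ⊗[A] M)
  flat_quot : Module.Flat (A ⧸ Ideal.span {f}) ((A ⧸ Ideal.span {f}) ⊗[A] M)

variable {f}

theorem FHyp.tor1Zero_of_pow_smul {M : Type u} [AddCommGroup M] [Module A M] (h : FHyp f M)
    (n : ℕ) (N : Type u) [AddCommGroup N] [Module A N]
    (hN : (Ideal.span {f} ^ n) • (⊤ : Submodule A N) = ⊥) : Tor1Zero A N M := by
  have := h.flat_quot
  exact tor1Zero_of_pow_smul_eq_bot (Ideal.span {f})
    (tor1Zero_quotient_span_singleton_of_isSMulRegular f h.reg) n N hN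

/-- `Tor_1(Q, M) = 0` for `f`-power torsion modules `Q`. -/
theorem FHyp.tor1Zero_of_torsion {M : Type u} [AddCommGroup M] [Module A M] (h : FHyp f M)
    (Q : Type u) [AddCommGroup Q] [Module A Q] (hQ : ∀ q : Q, ∃ n : ℕ, f ^ n • q = 0) :
    Tor1Zero A Q M := by
  intro K F _ _ _ _ _ i p hi hip hp
  rw [injective_iff_map_eq_zero]
  intro z hz
  obtain ⟨Q', hfin, hQ'⟩ := TensorProduct.exists_finite_submodule_left_of_setFinite {z}
    (Set.finite_singleton z)
  obtain ⟨z', rfl⟩ := hQ' (Set.mem_singleton z)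
  -- `Q'` is killed by a power of `f`
  have hkill : ∃ n : ℕ, ∀ q ∈ Q', f ^ n • q = 0 := by
    have hfg : Q'.FG := Module.Finite.iff_fg.mp hfin
    refine Submodule.fg_induction (motive := fun P _ => ∃ n : ℕ, ∀ q ∈ P, f ^ n • q = 0)
      ?_ ?_ Q' hfg
    · intro q
      obtain ⟨n, hn⟩ := hQ q
      refine ⟨n, fun y hy => ?_⟩
      obtain ⟨a, rfl⟩ := Submodule.mem_span_singleton.mp hy
      rw [smul_comm, hn, smul_zero]
    · rintro P₁ P₂ _ _ ⟨n₁, h₁⟩ ⟨n₂, h₂⟩
      refine ⟨n₁ + n₂, fun y hy => ?_⟩
      obtain ⟨y₁, hy₁, y₂, hy₂, rfl⟩ := Submodule.mem_sup.mp hy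
      have e1 : f ^ (n₁ + n₂) • y₁ = 0 := by
        rw [pow_add, mul_comm, mul_smul, h₁ y₁ hy₁, smul_zero]
      have e2 : f ^ (n₁ + n₂) • y₂ = 0 := by
        rw [pow_add, mul_smul, h₂ y₂ hy₂, smul_zero]
      rw [smul_add, e1, e2, add_zero]
  obtain ⟨n, hn⟩ := hkill
  have hQ'' : (Ideal.span {f} ^ n) • (⊤ : Submodule A Q') = ⊥ := by
    rw [eq_bot_iff, Submodule.smul_le, Ideal.span_singleton_pow]
    intro a ha q _
    obtain ⟨b, rfl⟩ := Ideal.mem_span_singleton'.mp ha
    rw [Submodule.mem_bot, mul_smul]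
    have : f ^ n • q = 0 := by
      apply Subtype.ext
      rw [Submodule.coe_smul, hn q q.2]
      rfl
    rw [this, smul_zero]
  have h1 : Injective (i.lTensor Q') := (h.tor1Zero_of_pow_smul n Q' hQ'') K F i p hi hip hp
  have h2 : Injective (Q'.subtype.rTensor F) :=
    Module.Flat.rTensor_preserves_injective_linearMap _ (Submodule.injective_subtype Q')
  have hcomm : (i.lTensor Q) ∘ₗ (Q'.subtype.rTensor K) = (Q'.subtype.rTensor F) ∘ₗ (i.lTensor Q') := by
    rw [LinearMap.lTensor_comp_rTensor, LinearMap.rTensor_comp_lTensor]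
  have h3 : (Q'.subtype.rTensor F) ((i.lTensor Q') z') = 0 := by
    rw [← LinearMap.comp_apply, ← hcomm, LinearMap.comp_apply, hz]
  have h4 : z' = 0 := by
    apply h1
    apply h2
    rw [h3, map_zero, map_zero]
  rw [h4, map_zero]

theorem FHyp.kernel {M : Type u} [AddCommGroup M] [Module A M] (h : FHyp f M)
    (hA : f ∈ nonZeroDivisors A) {K F : Type u} [AddCommGroup K] [Module A K] [AddCommGroup F]
    [Module A F] [Module.Flat A F] (i : K →ₗ[A] F) (p : F →ₗ[A] M) (hi : Injective i)
    (hip : Exact i p) (hp : Surjective p) : FHyp f K where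
  reg := by
    have hF : IsSMulRegular F f := Module.Flat.isSMulRegular_of_nonZeroDivisors hA
    intro x y hxy
    apply hi
    apply hF
    change f • i x = f • i y
    rw [← map_smul, ← map_smul]
    exact congrArg i hxy
  flat_away := by
    have := h.flat_away
    exact flat_baseChange_kernel (Localization.Away f) i p hi hip hp tor1Zero_of_flat_left
  flat_quot := by
    have := h.flat_quot
    exact flat_baseChange_kernel (A ⧸ Ideal.span {f}) i p hi hip hp
      (tor1Zero_quotient_span_singleton_of_isSMulRegular f h.reg)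

theorem FHyp.flat {M : Type u} [AddCommGroup M] [Module A M] (h : FHyp f M)
    (hA : f ∈ nonZeroDivisors A) : Module.Flat A M := by
  rw [flat_iff_forall_tor1Zero]
  intro N _ _
  let T : Submodule A N := Submodule.torsion' A N (Submonoid.powers f)
  have hT : Tor1Zero A T M := h.tor1Zero_of_torsion T (by
    rintro ⟨q, ⟨⟨_, n, rfl⟩, hq⟩⟩
    exact ⟨n, Subtype.ext hq⟩)
  have hNbar : Tor1Zero A (N ⧸ T) M := by
    intro K F _ _ _ _ _ i p hi hip hp
    have hK : FHyp f K := h.kernel hA i p hi hip hp
    let L := LocalizedModule (Submonoid.powers f) (N ⧸ T)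
    let j : (N ⧸ T) →ₗ[A] L := LocalizedModule.mkLinearMap (Submonoid.powers f) (N ⧸ T)
    have hj : Injective j := by
      rw [injective_iff_map_eq_zero]
      intro x hx
      obtain ⟨⟨_, n, rfl⟩, hs⟩ := (IsLocalizedModule.eq_zero_iff (Submonoid.powers f) j).mp hx
      obtain ⟨x, rfl⟩ := Submodule.Quotient.mk_surjective T x
      change f ^ n • (Submodule.Quotient.mk x : N ⧸ T) = 0 at hs
      rw [← Submodule.Quotient.mk_smul, Submodule.Quotient.mk_eq_zero] at hs
      obtain ⟨⟨_, m, rfl⟩, hm⟩ := hs
      rw [Submodule.Quotient.mk_eq_zero]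
      refine ⟨⟨f ^ (m + n), m + n, rfl⟩, ?_⟩
      change f ^ m • f ^ n • x = 0 at hm
      change f ^ (m + n) • x = 0
      rw [pow_add, mul_smul, hm]
    have hQ : ∀ q : L ⧸ LinearMap.range j, ∃ n : ℕ, f ^ n • q = 0 := by
      intro q
      obtain ⟨l, rfl⟩ := Submodule.Quotient.mk_surjective _ q
      obtain ⟨⟨m, ⟨_, n, rfl⟩⟩, hm⟩ := IsLocalizedModule.surj (Submonoid.powers f) j l
      refine ⟨n, ?_⟩
      change f ^ n • l = j m at hm
      rw [← Submodule.Quotient.mk_smul, hm, Submodule.Quotient.mk_eq_zero]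
      exact LinearMap.mem_range_self j m
    have hQK : Tor1Zero A (L ⧸ LinearMap.range j) K := hK.tor1Zero_of_torsion _ hQ
    have hjK : Injective (j.rTensor K) := by
      rw [← LinearMap.lTensor_inj_iff_rTensor_inj]
      exact lTensor_injective_of_tor1Zero j (LinearMap.range j).mkQ hj
        (LinearMap.exact_map_mkQ_range j) (Submodule.mkQ_surjective _) hQK
    have hLM : Tor1Zero A L M := by
      have := h.flat_away
      exact tor1Zero_of_algebra_module (Localization.Away f) tor1Zero_of_flat_left L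
    have hiL : Injective (i.lTensor L) := hLM K F i p hi hip hp
    have hcomm : (i.lTensor L) ∘ₗ (j.rTensor K) = (j.rTensor F) ∘ₗ (i.lTensor (N ⧸ T)) := by
      rw [LinearMap.lTensor_comp_rTensor, LinearMap.rTensor_comp_lTensor]
    rw [injective_iff_map_eq_zero]
    intro z hz
    apply hjK
    apply hiL
    rw [map_zero, map_zero, ← LinearMap.comp_apply, hcomm, LinearMap.comp_apply, hz, map_zero]
  exact tor1Zero_of_exact T.subtype T.mkQ (Submodule.injective_subtype _)
    (LinearMap.exact_subtype_mkQ T) (Submodule.mkQ_surjective T) hT hNbar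

end away

end Groth.Agent.H2
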