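import Groth.Agent.H2.InjHull
import Mathlib.RingTheory.Ideal.AssociatedPrime.Basic
import Mathlib.RingTheory.LocalRing.ResidueField.Ideal

set_option autoImplicit false
universe u
open Function (Injective Surjective)

namespace Groth.Agent.H2

variable {R : Type u} [CommRing R]

section indecomposable

variable {E : Type u} [AddCommGroup E] [Module R E]

/-- In an indecomposable injective module every nonzero submodule is essential. -/
theorem essIn_top_of_isIndecomposable (hE : InjHull.IsIndecomposable R E)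
    (hinj : Module.Injective R E) (N : Submodule R E) (hN : N ≠ ⊥) : EssIn N ⊤ := by
  obtain ⟨E₁, hE₁, hE₁inj⟩ := exists_injective_essIn N
  obtain ⟨C, hC⟩ := exists_isCompl_range_of_injective E₁.subtype (Submodule.injective_subtype E₁)
  rw [Submodule.range_subtype] at hC
  rcases hE.2 E₁ C hC with h | h
  · exfalso
    apply hN
    rw [eq_bot_iff, ← h]
    exact hE₁.1
  · have : E₁ = ⊤ := by
      have := hC.sup_eq_top
      rwa [h, sup_bot_eq] at this
    rwa [this] at hE₁

theorem inf_ne_bot_of_isIndecomposable (hE : InjHull.IsIndecomposable R E)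
    (hinj : Module.Injective R E) (N N' : Submodule R E) (hN : N ≠ ⊥) (hN' : N' ≠ ⊥) :
    N ⊓ N' ≠ ⊥ := by
  have := (essIn_top_of_isIndecomposable hE hinj N' hN').2 N le_top hN
  exact this

/-- S0304 -/
theorem isIndecomposable_injective_prime (hE : InjHull.IsIndecomposable R E)
    (hinj : Module.Injective R E) :
    (∀ N N' : Submodule R E, N ≠ ⊥ → N' ≠ ⊥ → N ⊓ N' ≠ ⊥) ∧
      ∃ p : Ideal R, p.IsPrime ∧ (p : Set R) = {r : R | ∃ x : E, x ≠ 0 ∧ r • x = 0} := by
  refine ⟨inf_ne_bot_of_isIndecomposable hE hinj, ?_⟩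
  have hnt : Nontrivial E := hE.1
  let p : Ideal R :=
    { carrier := {r : R | ∃ x : E, x ≠ 0 ∧ r • x = 0}
      add_mem' := by
        rintro r r' ⟨x, hx, hrx⟩ ⟨x', hx', hrx'⟩
        have h1 : Submodule.span R {x} ≠ ⊥ := by
          rw [ne_eq, Submodule.span_singleton_eq_bot]; exact hx
        have h2 : Submodule.span R {x'} ≠ ⊥ := by
          rw [ne_eq, Submodule.span_singleton_eq_bot]; exact hx'
        obtain ⟨y, ⟨hy1, hy2⟩, hy0⟩ :=
          (Submodule.ne_bot_iff _).mp (inf_ne_bot_of_isIndecomposable hE hinj _ _ h1 h2)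
        obtain ⟨a, rfl⟩ := Submodule.mem_span_singleton.mp hy1
        obtain ⟨a', ha'⟩ := Submodule.mem_span_singleton.mp hy2
        refine ⟨a • x, hy0, ?_⟩
        rw [add_smul, smul_comm, hrx, smul_zero, zero_add, ← ha', smul_comm, hrx', smul_zero]
      zero_mem' := by
        obtain ⟨x, hx⟩ := exists_ne (0 : E)
        exact ⟨x, hx, zero_smul _ _⟩
      smul_mem' := by
        rintro s r ⟨x, hx, hrx⟩
        exact ⟨x, hx, by rw [smul_eq_mul, mul_smul, hrx, smul_zero]⟩ }
  refine ⟨p, ?_, rfl⟩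
  refine ⟨?_, ?_⟩
  · intro htop
    have h1 : (1 : R) ∈ p := htop ▸ Submodule.mem_top
    obtain ⟨x, hx, h1x⟩ := h1
    rw [one_smul] at h1x
    exact hx h1x
  · rintro r s ⟨x, hx, hrsx⟩
    by_cases hsx : s • x = 0
    · exact Or.inr ⟨x, hx, hsx⟩
    · exact Or.inl ⟨s • x, hsx, by rw [← mul_smul]; exact hrsx⟩

end indecomposable

section quotientPrime

variable {E : Type u} [AddCommGroup E] [Module R E]

/-- The injective hull of `R/p` is indecomposable. -/
theorem isIndecomposable_of_isInjectiveHull_quotient_prime (p : Ideal R) [hp : p.IsPrime]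
    (f : (R ⧸ p) →ₗ[R] E) (hf : InjHull.IsInjectiveHull f) : InjHull.IsIndecomposable R E := by
  have hnt : Nontrivial (R ⧸ p) := Ideal.Quotient.nontrivial_iff.mpr hp.ne_top
  refine ⟨hf.injective.nontrivial, fun N N' hNN' => ?_⟩
  by_contra hcon
  push Not at hcon
  obtain ⟨hN, hN'⟩ := hcon
  obtain ⟨y, ⟨hyN, a, rfl⟩, hy0⟩ := (Submodule.ne_bot_iff _).mp (hf.essential N hN)
  obtain ⟨y', ⟨hyN', a', rfl⟩, hy0'⟩ := (Submodule.ne_bot_iff _).mp (hf.essential N' hN')
  obtain ⟨a, rfl⟩ := Ideal.Quotient.mk_surjective a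
  obtain ⟨a', rfl⟩ := Ideal.Quotient.mk_surjective a'
  have h1 : f (Ideal.Quotient.mk p (a * a')) ∈ N ⊓ N' := by
    constructor
    · have : f (Ideal.Quotient.mk p (a * a')) = a' • f (Ideal.Quotient.mk p a) := by
        rw [← map_smul, mul_comm]
        rfl
      rw [this]
      exact N.smul_mem _ hyN
    · have : f (Ideal.Quotient.mk p (a * a')) = a • f (Ideal.Quotient.mk p a') := by
        rw [← map_smul]
        rfl
      rw [this]
      exact N'.smul_mem _ hyN'
  rw [hNN'.inf_eq_bot, Submodule.mem_bot] at h1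
  have h2 : Ideal.Quotient.mk p (a * a') = 0 := hf.injective (h1.trans (map_zero f).symm)
  rw [Ideal.Quotient.eq_zero_iff_mem] at h2
  rcases hp.mem_or_mem h2 with h | h
  · apply hy0
    rw [Ideal.Quotient.eq_zero_iff_mem.mpr h, map_zero]
  · apply hy0'
    rw [Ideal.Quotient.eq_zero_iff_mem.mpr h, map_zero]

/-- `R/p → κ(p)` is an essential injection of `R`-modules. -/
theorem isEssentialInj_quotient_residueField (p : Ideal R) [hp : p.IsPrime] :
    InjHull.IsEssentialInj
      ((Algebra.linearMap (R ⧸ p) p.ResidueField).restrictScalars R) := by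
  rw [isEssentialInj_iff_forall]
  have hinj : Injective (algebraMap (R ⧸ p) p.ResidueField) :=
    IsFractionRing.injective (R ⧸ p) p.ResidueField
  refine ⟨hinj, fun z hz => ?_⟩
  obtain ⟨⟨a, s⟩, hz'⟩ := IsLocalization.surj (nonZeroDivisors (R ⧸ p)) z
  obtain ⟨s', hs'⟩ := Ideal.Quotient.mk_surjective (s : R ⧸ p)
  have hs0 : algebraMap (R ⧸ p) p.ResidueField s ≠ 0 := by
    intro h0
    exact nonZeroDivisors.ne_zero s.2 (hinj (h0.trans (map_zero _).symm))
  have hsz : s' • z = algebraMap (R ⧸ p) p.ResidueField a := by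
    rw [← hz', ← algebraMap_smul (R ⧸ p) s' z, Algebra.smul_def, mul_comm]
    congr 2
  refine ⟨s', ⟨a, ?_⟩, ?_⟩
  · rw [hsz]; rfl
  · rw [hsz, ← hz']
    exact mul_ne_zero hz hs0

/-- S0305, second half. -/
theorem exists_isInjectiveHull_residueField (p : Ideal R) [hp : p.IsPrime]
    (f : (R ⧸ p) →ₗ[R] E) (hf : InjHull.IsInjectiveHull f) :
    ∃ g : p.ResidueField →ₗ[R] E, InjHull.IsInjectiveHull g := by
  have hι := isEssentialInj_quotient_residueField p
  have := hf.isInjective
  obtain ⟨g, hg⟩ := Module.Injective.out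
    ((Algebra.linearMap (R ⧸ p) p.ResidueField).restrictScalars R) hι.injective f
  have hgι : g ∘ₗ ((Algebra.linearMap (R ⧸ p) p.ResidueField).restrictScalars R) = f :=
    LinearMap.ext hg
  have hginj : Injective g :=
    injective_of_comp_injective_of_isEssentialInj _ hι g (by rw [hgι]; exact hf.injective)
  refine ⟨g, { toIsEssentialInj := ?_, isInjective := hf.isInjective }⟩
  rw [isEssentialInj_iff_forall]
  refine ⟨hginj, fun x hx => ?_⟩
  obtain ⟨r, ⟨m, hm⟩, hr0⟩ := ((isEssentialInj_iff_forall f).mp hf.toIsEssentialInj).2 x hx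
  exact ⟨r, ⟨_, (hg m).trans hm⟩, hr0⟩

/-- An injective linear map from a nonzero module into an indecomposable injective is an injective
hull. -/
theorem isInjectiveHull_of_isIndecomposable {M : Type u} [AddCommGroup M] [Module R M]
    [Nontrivial M] (hE : InjHull.IsIndecomposable R E) (hinj : Module.Injective R E)
    (f : M →ₗ[R] E) (hf : Injective f) : InjHull.IsInjectiveHull f := by
  refine { toIsEssentialInj := ?_, isInjective := hinj }
  rw [isEssentialInj_iff]
  refine ⟨hf, essIn_top_of_isIndecomposable hE hinj _ ?_⟩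
  intro h0
  obtain ⟨m, hm⟩ := exists_ne (0 : M)
  have : f m ∈ LinearMap.range f := ⟨m, rfl⟩
  rw [h0, Submodule.mem_bot] at this
  exact hm (hf (this.trans (map_zero f).symm))

/-- S0306 -/
theorem exists_isInjectiveHull_residueField_of_isIndecomposable [IsNoetherianRing R]
    (hE : InjHull.IsIndecomposable R E) (hinj : Module.Injective R E) :
    ∃ (p : Ideal R) (_ : p.IsPrime) (g : p.ResidueField →ₗ[R] E), InjHull.IsInjectiveHull g := by
  have hnt : Nontrivial E := hE.1
  obtain ⟨p, hp⟩ := associatedPrimes.nonempty R E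
  obtain ⟨hprime, f, hf⟩ := (isAssociatedPrime_iff_exists_injective_linearMap p E).mp hp
  have hnt' : Nontrivial (R ⧸ p) := Ideal.Quotient.nontrivial_iff.mpr hprime.ne_top
  have hhull := isInjectiveHull_of_isIndecomposable hE hinj f hf
  obtain ⟨g, hg⟩ := exists_isInjectiveHull_residueField p f hhull
  exact ⟨p, hprime, g, hg⟩

end quotientPrime

end Groth.Agent.H2
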