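import Groth.Agent.H2.InjHull
import Mathlib.Algebra.DirectSum.Module
import Mathlib.RingTheory.Noetherian.Defs
import Mathlib.RingTheory.Filtration
import Mathlib.Algebra.Module.Torsion.Basic

set_option autoImplicit false
universe u
open Function (Injective Surjective)
open scoped DirectSum

namespace Groth.Agent.H2

variable {R : Type u} [CommRing R]

/-- S0300: over a Noetherian ring, direct sums of injective modules are injective. -/
theorem injective_directSum [IsNoetherianRing R] {ι : Type u} (E : ι → Type u)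
    [∀ i, AddCommGroup (E i)] [∀ i, Module R (E i)] (hE : ∀ i, Module.Injective R (E i)) :
    Module.Injective R (⨁ i, E i) := by
  classical
  apply Module.Baer.injective
  intro I g
  obtain ⟨s, rfl⟩ := (isNoetherianRing_iff_ideal_fg R).mp inferInstance I
  -- components
  let gi : ∀ i, (Ideal.span (s : Set R) : Ideal R) →ₗ[R] E i :=
    fun i => (DirectSum.component R ι E i) ∘ₗ g
  have hB : ∀ i, ∃ g' : R →ₗ[R] E i, ∀ (x : R) (mem : x ∈ Ideal.span (s : Set R)),
      g' x = gi i ⟨x, mem⟩ := fun i => Module.Baer.of_injective (hE i) _ (gi i)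
  choose g' hg' using hB
  let e : ∀ i, E i := fun i => if gi i = 0 then 0 else g' i 1
  have he : ∀ i (x : R) (mem : x ∈ Ideal.span (s : Set R)), x • e i = gi i ⟨x, mem⟩ := by
    intro i x mem
    by_cases h0 : gi i = 0
    · simp only [e, if_pos h0, smul_zero, h0, LinearMap.zero_apply]
    · simp only [e, if_neg h0]
      rw [← map_smul, smul_eq_mul, mul_one, hg']
  -- finite support
  let h : R → ⨁ i, E i := fun a => if ha : a ∈ Ideal.span (s : Set R) then g ⟨a, ha⟩ else 0
  let T : Finset ι := s.biUnion (fun a => DFinsupp.support (h a))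
  have hT : ∀ i, i ∉ T → gi i = 0 := by
    intro i hi
    ext ⟨x, hx⟩
    rw [LinearMap.zero_apply]
    refine Submodule.span_induction
      (p := fun x hx => gi i ⟨x, hx⟩ = 0) ?_ ?_ ?_ ?_ hx
    · intro a ha
      have hai : i ∉ DFinsupp.support (h a) := fun hmem =>
        hi (Finset.mem_biUnion.mpr ⟨a, ha, hmem⟩)
      rw [DFinsupp.notMem_support_iff] at hai
      have hmem : a ∈ Ideal.span (s : Set R) := Ideal.subset_span ha
      simp only [h, dif_pos hmem] at hai
      exact hai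
    · exact map_zero (gi i)
    · intro x y hx hy hx0 hy0
      have : (⟨x + y, Submodule.add_mem _ hx hy⟩ : (Ideal.span (s : Set R) : Ideal R)) =
          ⟨x, hx⟩ + ⟨y, hy⟩ := rfl
      rw [this, map_add, hx0, hy0, add_zero]
    · intro r x hx hx0
      have : (⟨r • x, Submodule.smul_mem _ r hx⟩ : (Ideal.span (s : Set R) : Ideal R)) =
          r • ⟨x, hx⟩ := rfl
      rw [this, map_smul, hx0, smul_zero]
  let ee : ⨁ i, E i := DirectSum.mk E T (fun i => e i)
  have hee : ∀ i, ee i = e i := by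
    intro i
    by_cases hi : i ∈ T
    · exact DirectSum.mk_apply_of_mem hi
    · rw [DirectSum.mk_apply_of_notMem hi]
      simp only [e, if_pos (hT i hi)]
  refine ⟨LinearMap.toSpanSingleton R _ ee, fun x mem => ?_⟩
  apply DFinsupp.ext
  intro i
  rw [LinearMap.toSpanSingleton_apply]
  change x • ee i = gi i ⟨x, mem⟩
  rw [hee, he]

/-- Extension lemma: for an injective module `I`, linear maps `σ : P → R` and `ψ : P → I` with
`ker σ ≤ ker ψ`, there is `z : I` with `σ p • z = ψ p`. -/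
theorem exists_smul_eq_of_ker_le {I P : Type u} [AddCommGroup I] [Module R I]
    [Module.Injective R I] [AddCommGroup P] [Module R P] (σ : P →ₗ[R] R) (ψ : P →ₗ[R] I)
    (h : LinearMap.ker σ ≤ LinearMap.ker ψ) : ∃ z : I, ∀ p : P, σ p • z = ψ p := by
  let σb : (P ⧸ LinearMap.ker σ) →ₗ[R] R := (LinearMap.ker σ).liftQ σ le_rfl
  let ψb : (P ⧸ LinearMap.ker σ) →ₗ[R] I := (LinearMap.ker σ).liftQ ψ h
  have hσb : Injective σb := by
    rw [← LinearMap.ker_eq_bot]
    exact Submodule.ker_liftQ_eq_bot _ _ _ le_rfl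
  obtain ⟨φ, hφ⟩ := Module.Injective.out σb hσb ψb
  refine ⟨φ 1, fun p => ?_⟩
  have := hφ (Submodule.Quotient.mk p)
  rw [← map_smul, smul_eq_mul, mul_one]
  exact this

/-- S0301: over a Noetherian ring, the `J`-power torsion of an injective module is injective. -/
theorem injective_iSup_torsionBySet_pow [IsNoetherianRing R] (I : Type u) [AddCommGroup I]
    [Module R I] (hI : Module.Injective R I) (J : Ideal R) :
    Module.Injective R ↥(⨆ n : ℕ, Submodule.torsionBySet R I ((J ^ n : Ideal R) : Set R)) := by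
  classical
  set T : ℕ → Submodule R I := fun n => Submodule.torsionBySet R I ((J ^ n : Ideal R) : Set R)
    with hT
  have hmono : Monotone T := fun n m hnm =>
    Submodule.torsionBySet_le_torsionBySet_of_subset (Ideal.pow_le_pow_right hnm)
  have hdir : Directed (· ≤ ·) T := hmono.directed_le
  have hmem : ∀ x : I, x ∈ (⨆ n, T n) ↔ ∃ n, x ∈ T n := fun x =>
    Submodule.mem_iSup_of_directed T hdir
  have hTmem : ∀ n (x : I), x ∈ T n ↔ ∀ b ∈ J ^ n, b • x = 0 := by
    intro n x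
    rw [hT]
    simp only [Submodule.mem_torsionBySet_iff, Subtype.forall, SetLike.mem_coe]
  apply Module.Baer.injective
  intro 𝔞 g
  obtain ⟨s, rfl⟩ := (isNoetherianRing_iff_ideal_fg R).mp inferInstance 𝔞
  -- Step 1: the image of `g` lies in some `T n`
  have h1 : ∀ a : R, ∃ n, ∀ ha : a ∈ Ideal.span (s : Set R), ((g ⟨a, ha⟩ : ↥(⨆ n, T n)) : I) ∈ T n := by
    intro a
    by_cases ha : a ∈ Ideal.span (s : Set R)
    · obtain ⟨n, hn⟩ := (hmem _).mp (g ⟨a, ha⟩).2
      exact ⟨n, fun _ => hn⟩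
    · exact ⟨0, fun h => absurd h ha⟩
  choose N hN using h1
  let n := s.sup N
  have h1' : ∀ (x : R) (hx : x ∈ Ideal.span (s : Set R)), ((g ⟨x, hx⟩ : ↥(⨆ n, T n)) : I) ∈ T n := by
    intro x hx
    refine Submodule.span_induction
      (p := fun x hx => ((g ⟨x, hx⟩ : ↥(⨆ n, T n)) : I) ∈ T n) ?_ ?_ ?_ ?_ hx
    · intro a ha
      exact hmono (Finset.le_sup ha) (hN a (Ideal.subset_span ha))
    · have : (⟨0, Submodule.zero_mem _⟩ : (Ideal.span (s : Set R) : Ideal R)) = 0 := rfl
      rw [this, map_zero]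
      exact Submodule.zero_mem _
    · intro x y hx hy hx0 hy0
      have : (⟨x + y, Submodule.add_mem _ hx hy⟩ : (Ideal.span (s : Set R) : Ideal R)) =
          ⟨x, hx⟩ + ⟨y, hy⟩ := rfl
      rw [this, map_add]
      exact Submodule.add_mem _ hx0 hy0
    · intro r x hx hx0
      have : (⟨r • x, Submodule.smul_mem _ r hx⟩ : (Ideal.span (s : Set R) : Ideal R)) =
          r • ⟨x, hx⟩ := rfl
      rw [this, map_smul]
      exact Submodule.smul_mem _ r hx0
  -- Step 2: `g` vanishes on `J^n * 𝔞`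
  have h2 : ∀ (x : R), x ∈ J ^ n * Ideal.span (s : Set R) →
      ∀ hx : x ∈ Ideal.span (s : Set R), ((g ⟨x, hx⟩ : ↥(⨆ n, T n)) : I) = 0 := by
    intro x hx
    suffices hh : x ∈ Ideal.span (s : Set R) ∧
        ∀ hx : x ∈ Ideal.span (s : Set R), ((g ⟨x, hx⟩ : ↥(⨆ n, T n)) : I) = 0 from hh.2
    refine Submodule.mul_induction_on hx ?_ ?_
    · intro b hb a ha
      refine ⟨Ideal.mul_mem_left _ b ha, fun hba => ?_⟩
      have : (⟨b * a, hba⟩ : (Ideal.span (s : Set R) : Ideal R)) = b • ⟨a, ha⟩ := rfl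
      rw [this, map_smul]
      exact (hTmem n _).mp (h1' a ha) b hb
    · rintro x y ⟨hx, hx0⟩ ⟨hy, hy0⟩
      refine ⟨Submodule.add_mem _ hx hy, fun hxy => ?_⟩
      have : (⟨x + y, hxy⟩ : (Ideal.span (s : Set R) : Ideal R)) = ⟨x, hx⟩ + ⟨y, hy⟩ := rfl
      rw [this, map_add, Submodule.coe_add, hx0 hx, hy0 hy, add_zero]
  -- Step 3: Artin–Rees
  obtain ⟨k, hk⟩ := Ideal.exists_pow_inf_eq_pow_smul J (Ideal.span (s : Set R) : Submodule R R)
  have h3 : ∀ x : R, x ∈ J ^ (n + k) → x ∈ Ideal.span (s : Set R) →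
      x ∈ J ^ n * Ideal.span (s : Set R) := by
    intro x hxJ hxa
    have hx : x ∈ J ^ (n + k) • (⊤ : Submodule R R) ⊓ (Ideal.span (s : Set R) : Submodule R R) :=
      ⟨by rw [smul_eq_mul, Ideal.mul_top]; exact hxJ, hxa⟩
    rw [hk (n + k) (Nat.le_add_left k n), Nat.add_sub_cancel] at hx
    exact Submodule.smul_mono le_rfl inf_le_right hx
  -- Step 4: extension
  let σ : ((Ideal.span (s : Set R) : Ideal R) × (J ^ (n + k) : Ideal R)) →ₗ[R] R :=
    (Submodule.subtype _).coprod (Submodule.subtype _)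
  let ψ : ((Ideal.span (s : Set R) : Ideal R) × (J ^ (n + k) : Ideal R)) →ₗ[R] I :=
    ((Submodule.subtype _) ∘ₗ g) ∘ₗ (LinearMap.fst R _ _)
  have hker : LinearMap.ker σ ≤ LinearMap.ker ψ := by
    rintro ⟨a, c⟩ hac
    rw [LinearMap.mem_ker] at hac ⊢
    change (a : R) + (c : R) = 0 at hac
    change ((g a : ↥(⨆ n, T n)) : I) = 0
    have hac' : (a : R) = -(c : R) := eq_neg_of_add_eq_zero_left hac
    have h4 : (a : R) ∈ J ^ (n + k) := by rw [hac']; exact (J ^ (n + k)).neg_mem c.2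
    exact h2 a (h3 a h4 a.2) a.2
  obtain ⟨z, hz⟩ := exists_smul_eq_of_ker_le σ ψ hker
  have hzT : z ∈ T (n + k) := by
    rw [hTmem]
    intro b hb
    have := hz (0, ⟨b, hb⟩)
    simpa [σ, ψ] using this
  have hzΓ : z ∈ ⨆ n, T n := (hmem z).mpr ⟨n + k, hzT⟩
  refine ⟨LinearMap.toSpanSingleton R _ ⟨z, hzΓ⟩, fun x mem => ?_⟩
  apply Subtype.ext
  rw [LinearMap.toSpanSingleton_apply]
  have := hz (⟨x, mem⟩, 0)
  simpa [σ, ψ] using this

end Groth.Agent.H2
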