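import Groth.Agent.H2.InjHull
import Groth.Agent.H2.InjIndec
import Groth.Agent.H2.InjNoeth
import Mathlib.Order.CompactlyGenerated.Basic
import Mathlib.Algebra.DirectSum.Module
import Mathlib.RingTheory.Ideal.AssociatedPrime.Basic

set_option autoImplicit false
set_option linter.unusedSectionVars false
universe u

namespace Groth.Agent.H2

open Function

variable {R : Type u} [CommRing R] {I : Type u} [AddCommGroup I] [Module R I]

/-- adjoining to an independent set a submodule disjoint from its span keeps independence -/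
lemma sSupIndep_insert {S : Set (Submodule R I)} (hS : sSupIndep S) (E' : Submodule R I)
    (hd : Disjoint E' (sSup S)) : sSupIndep (insert E' S) := by
  intro a ha
  rcases ha with rfl | ha
  · refine hd.mono_right (sSup_le_sSup ?_)
    intro x hx
    rcases hx.1 with rfl | h
    · exact absurd rfl hx.2
    · exact h
  · have h1 : Disjoint a (sSup (S \ {a})) := hS ha
    have h2 : Disjoint (a ⊔ sSup (S \ {a})) E' := by
      refine hd.symm.mono_left (sup_le (le_sSup ha) (sSup_le_sSup Set.sdiff_subset))
    have h3 := h1.disjoint_sup_right_of_disjoint_sup_left h2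
    refine h3.mono_right (sSup_le ?_)
    intro x hx
    rcases hx.1 with rfl | h
    · exact le_sup_right
    · exact le_sup_of_le_left (le_sSup ⟨h, hx.2⟩)

/-- the span of an independent family of injective submodules is injective (Noetherian case) -/
lemma injective_sSup_of_sSupIndep [IsNoetherianRing R] {S : Set (Submodule R I)}
    (hS : sSupIndep S) (hinj : ∀ E ∈ S, Module.Injective R E) :
    ∃ α : (DirectSum S fun E => ↥E.1) →ₗ[R] I, Injective α ∧ LinearMap.range α = sSup S ∧
      Module.Injective R (DirectSum S fun E => ↥E.1) := by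
  classical
  have hind : iSupIndep ((↑) : S → Submodule R I) := (sSupIndep_iff S).mp hS
  refine ⟨DirectSum.coeLinearMap (fun E : S => E.1), hind.dfinsupp_lsum_injective, ?_, ?_⟩
  · rw [DirectSum.range_coeLinearMap, sSup_eq_iSup']
  · exact injective_directSum (fun E : S => ↥E.1) (fun E => hinj E.1 E.2)

/-- **Matlis**: over a Noetherian ring every injective module is an internal direct sum of
indecomposable injective submodules. -/
theorem exists_isInternal_indecomposable [IsNoetherianRing R] (hI : Module.Injective R I) :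
    ∃ S : Set (Submodule R I), sSupIndep S ∧ sSup S = ⊤ ∧
      ∀ E ∈ S, InjHull.IsIndecomposable R ↥E ∧ Module.Injective R ↥E := by
  classical
  let PP : Set (Set (Submodule R I)) :=
    {S | sSupIndep S ∧ ∀ E ∈ S, InjHull.IsIndecomposable R ↥E ∧ Module.Injective R ↥E}
  obtain ⟨S, hSmax⟩ : ∃ S, Maximal (· ∈ PP) S := by
    apply zorn_subset
    intro c hc hchain
    refine ⟨⋃₀ c, ⟨?_, ?_⟩, fun s hs => Set.subset_sUnion_of_mem hs⟩
    · exact iSupIndep_sUnion_of_directed hchain.directedOn (fun a ha => (hc ha).1)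
    · rintro E ⟨s, hs, hEs⟩
      exact (hc hs).2 E hEs
  obtain ⟨hSind, hSmem⟩ := hSmax.prop
  refine ⟨S, hSind, ?_, hSmem⟩
  obtain ⟨α, hα, hrange, hαinj⟩ := injective_sSup_of_sSupIndep hSind (fun E hE => (hSmem E hE).2)
  obtain ⟨N', hC⟩ := exists_isCompl_range_of_injective α hα
  rw [hrange] at hC
  by_contra hne
  have hN' : N' ≠ ⊥ := by
    intro h0
    rw [h0] at hC
    exact hne (by simpa using hC.sup_eq_top)
  have hN'inj : Module.Injective R N' := Groth.Agent.H9.injective_of_isCompl N' (sSup S) hC.symm
  have hnt : Nontrivial N' := Submodule.nontrivial_iff_ne_bot.mpr hN'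
  obtain ⟨p, hp⟩ := associatedPrimes.nonempty R N'
  obtain ⟨hprime, g, hg⟩ := (isAssociatedPrime_iff_exists_injective_linearMap p N').mp hp
  -- the copy of R/p inside I
  let g' : (R ⧸ p) →ₗ[R] I := N'.subtype ∘ₗ g
  have hg' : Injective g' := (Submodule.injective_subtype N').comp hg
  have hg'N : LinearMap.range g' ≤ N' := by
    rintro _ ⟨x, rfl⟩
    exact (g x).2
  obtain ⟨E', hE', hE'inj⟩ := exists_injective_essIn (LinearMap.range g')
  -- E' is a hull of R/p
  let f : (R ⧸ p) →ₗ[R] E' := g'.codRestrict E' (fun m => hE'.1 ⟨m, rfl⟩)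
  have hf : InjHull.IsInjectiveHull f := by
    refine { toIsEssentialInj := ?_, isInjective := hE'inj }
    rw [isEssentialInj_iff_forall]
    refine ⟨fun a b hab => hg' (by simpa [f] using congrArg Subtype.val hab), fun x hx => ?_⟩
    obtain ⟨r, ⟨m, hm⟩, hr0⟩ := (essIn_iff.mp hE').2 x.1 x.2 (fun h => hx (Subtype.ext h))
    refine ⟨r, ⟨m, Subtype.ext ?_⟩, fun h => hr0 (by simpa using congrArg Subtype.val h)⟩
    simpa [f] using hm
  have hE'indec : InjHull.IsIndecomposable R E' :=
    isIndecomposable_of_isInjectiveHull_quotient_prime p f hf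
  -- E' is disjoint from sSup S
  have hdisj : Disjoint E' (sSup S) := by
    rw [Submodule.disjoint_def]
    intro x hxE hxS
    by_contra hx0
    obtain ⟨r, hrA, hr0⟩ := (essIn_iff.mp hE').2 x hxE hx0
    apply hr0
    have h1 : r • x ∈ sSup S ⊓ N' := ⟨Submodule.smul_mem _ r hxS, hg'N hrA⟩
    rw [hC.inf_eq_bot] at h1
    exact (Submodule.mem_bot R).mp h1
  have hmem : insert E' S ∈ PP := by
    refine ⟨sSupIndep_insert hSind E' hdisj, ?_⟩
    rintro E (rfl | hE)
    · exact ⟨hE'indec, hE'inj⟩
    · exact hSmem E hE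
  have hE'S : E' ∈ S := hSmax.le_of_ge hmem (Set.subset_insert _ _) (Set.mem_insert _ _)
  have hE'bot : E' = ⊥ := by
    have := hdisj.eq_bot
    rwa [inf_eq_left.mpr (le_sSup hE'S)] at this
  have : Nontrivial E' := hE'indec.1
  exact (Submodule.nontrivial_iff_ne_bot.mp this) hE'bot

end Groth.Agent.H2
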