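import Groth.Agent.H2.InjHull
import Groth.Agent.H2.InjIndec
import Mathlib.Algebra.Module.LocalizedModule.Basic
import Mathlib.RingTheory.Localization.Module
import Mathlib.RingTheory.Localization.Ideal
import Mathlib.RingTheory.Ideal.AssociatedPrime.Localization
import Mathlib.RingTheory.Ideal.MinimalPrime.Basic
import Mathlib.RingTheory.Finiteness.Ideal

set_option autoImplicit false
set_option linter.unusedSectionVars false
universe u

namespace Groth.Agent.H2.InjHullLoc

open Function

variable {R : Type u} [CommRing R] [IsNoetherianRing R] (p : Ideal R) [hp : p.IsPrime]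
  {E : Type u} [AddCommGroup E] [Module R E] (f : (R ⧸ p) →ₗ[R] E)
  (hf : InjHull.IsInjectiveHull f)

lemma smul_mk_eq_zero_iff (r : R) (c : R ⧸ p) (hc : c ≠ 0) : r • c = 0 ↔ r ∈ p := by
  obtain ⟨t, rfl⟩ := Ideal.Quotient.mk_surjective c
  have ht : t ∉ p := fun h => hc (Ideal.Quotient.eq_zero_iff_mem.mpr h)
  rw [Algebra.smul_def, Ideal.Quotient.algebraMap_eq, ← map_mul, Ideal.Quotient.eq_zero_iff_mem]
  constructor
  · intro h
    exact (hp.mem_or_mem h).resolve_right ht
  · intro h
    exact Ideal.mul_mem_right _ _ h

include hf in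
/-- the only associated prime of `E(R/p)` is `p` -/
lemma associatedPrimes_subset : associatedPrimes R E ⊆ {p} := by
  intro q hq
  rw [AssociatedPrimes.mem_iff, isAssociatedPrime_iff] at hq
  obtain ⟨hqp, y, hy⟩ := hq
  have hy0 : y ≠ 0 := by
    rintro rfl
    apply hqp.ne_top
    rw [hy]
    ext r
    simp [Submodule.mem_colon_singleton]
  obtain ⟨s, ⟨c, hc⟩, hs0⟩ :=
    ((isEssentialInj_iff_forall f).mp hf.toIsEssentialInj).2 y hy0
  have hc0 : c ≠ 0 := by
    rintro rfl
    rw [map_zero] at hc
    exact hs0 hc.symm
  have hsq : s ∉ q := by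
    intro hs
    rw [hy, Submodule.mem_colon_singleton] at hs
    exact hs0 hs
  rw [Set.mem_singleton_iff]
  ext r
  constructor
  · intro hr
    have h1 : r • (s • y) = 0 := by
      rw [smul_comm]
      have : r • y = 0 := by
        have := hr
        rw [hy, Submodule.mem_colon_singleton] at this
        exact this
      rw [this, smul_zero]
    rw [← hc, ← map_smul] at h1
    have h2 : r • c = 0 := hf.injective (by rw [h1, map_zero])
    exact (smul_mk_eq_zero_iff p r c hc0).mp h2
  · intro hr
    have h2 : r • c = 0 := (smul_mk_eq_zero_iff p r c hc0).mpr hr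
    have h1 : r • (s • y) = 0 := by rw [← hc, ← map_smul, h2, map_zero]
    have h3 : r * s ∈ q := by
      rw [hy, Submodule.mem_colon_singleton, mul_smul]
      exact h1
    exact (hqp.mem_or_mem h3).resolve_right hsq

include hf in
/-- `E(R/p)` is `p`-power torsion -/
theorem isPowerTorsion : ∀ x : E, ∃ n : ℕ, ∀ a ∈ p ^ n, a • x = 0 := by
  intro x
  by_cases hx : x = 0
  · exact ⟨0, fun a _ => by rw [hx, smul_zero]⟩
  set N : Submodule R E := Submodule.span R {x} with hN
  have hfinN : Module.Finite R N := Module.Finite.span_singleton R x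
  set I : Ideal R := Module.annihilator R N with hI
  have hItop : I ≠ ⊤ := by
    intro h
    have h1 : (1 : R) ∈ I := h ▸ Submodule.mem_top
    have h2 := Module.mem_annihilator.1 h1 (⟨x, Submodule.mem_span_singleton_self x⟩ : N)
    apply hx
    simpa using congrArg Subtype.val h2
  have hmin : I.minimalPrimes ⊆ {p} := by
    intro q hq
    have h1 : q ∈ associatedPrimes R N :=
      Module.associatedPrimes.minimalPrimes_annihilator_subset_associatedPrimes R N hq
    have h2 : q ∈ associatedPrimes R E :=
      associatedPrimes.subset_of_injective (f := N.subtype) N.subtype_injective h1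
    exact associatedPrimes_subset p f hf h2
  have hmin' : I.minimalPrimes = {p} := by
    obtain ⟨q, hq⟩ := Ideal.nonempty_minimalPrimes hItop
    apply Set.Subset.antisymm hmin
    rintro _ rfl
    have := hmin hq
    rw [Set.mem_singleton_iff] at this
    exact this ▸ hq
  have hrad : I.radical = p := by
    rw [← Ideal.sInf_minimalPrimes, hmin', sInf_singleton]
  obtain ⟨n, hn⟩ := Ideal.exists_radical_pow_le_of_fg I
    ((isNoetherianRing_iff_ideal_fg R).1 inferInstance _)
  rw [hrad] at hn
  refine ⟨n, fun a ha => ?_⟩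
  have h2 := Module.mem_annihilator.1 (hn ha) (⟨x, Submodule.mem_span_singleton_self x⟩ : N)
  simpa using congrArg Subtype.val h2

include hf in
/-- elements outside `p` act injectively on `E(R/p)` -/
lemma smul_injective_of_notMem (s : R) (hs : s ∉ p) : Injective (fun x : E => s • x) := by
  intro x y hxy
  by_contra hne
  have hd : x - y ≠ 0 := sub_ne_zero.mpr hne
  have h0 : s • (x - y) = 0 := by
    rw [smul_sub]
    exact sub_eq_zero.mpr hxy
  obtain ⟨r, ⟨c, hc⟩, hr0⟩ :=
    ((isEssentialInj_iff_forall f).mp hf.toIsEssentialInj).2 _ hd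
  have hc0 : c ≠ 0 := by
    rintro rfl
    rw [map_zero] at hc
    exact hr0 hc.symm
  have h1 : s • c = 0 := by
    apply hf.injective
    rw [map_smul, hc, smul_comm, h0, smul_zero, map_zero]
  exact hs ((smul_mk_eq_zero_iff p s c hc0).mp h1)

include hf in
/-- elements outside `p` act surjectively on `E(R/p)` -/
lemma smul_surjective_of_notMem (s : R) (hs : s ∉ p) : Surjective (fun x : E => s • x) := by
  have hinj := smul_injective_of_notMem p f hf s hs
  have hE := hf.isInjective
  have hindec := isIndecomposable_of_isInjectiveHull_quotient_prime p f hf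
  let φ : E →ₗ[R] E := LinearMap.lsmul R E s
  have hφ : Injective φ := hinj
  obtain ⟨C, hC⟩ := exists_isCompl_range_of_injective φ hφ
  have hnt : Nontrivial E := hindec.1
  rcases hindec.2 _ _ hC with h | h
  · exfalso
    obtain ⟨x, hx⟩ := exists_ne (0 : E)
    have : φ x ∈ LinearMap.range φ := ⟨x, rfl⟩
    rw [h, Submodule.mem_bot] at this
    exact hx (hφ (by rw [this, map_zero]))
  · rw [h] at hC
    have htop : LinearMap.range φ = ⊤ := by simpa using hC.sup_eq_top
    exact LinearMap.range_eq_top.mp htop

variable (S : Submonoid R)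

include hf in
/-- if `p` meets `S` then `S⁻¹E(R/p) = 0` -/
theorem subsingleton_localizedModule (h : ((p : Set R) ∩ S).Nonempty) :
    Subsingleton (LocalizedModule S E) := by
  obtain ⟨s, hsp, hsS⟩ := h
  rw [LocalizedModule.subsingleton_iff]
  intro m
  obtain ⟨n, hn⟩ := isPowerTorsion p f hf m
  exact ⟨s ^ n, pow_mem hsS n, hn _ (Ideal.pow_mem_pow hsp n)⟩

include hf in
/-- if `p` misses `S` then `E(R/p) → S⁻¹E(R/p)` is bijective -/
theorem bijective_mkLinearMap (h : Disjoint (p : Set R) S) :
    Bijective (LocalizedModule.mkLinearMap S E) := by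
  have hS : ∀ s ∈ S, s ∉ p := fun s hs hsp => Set.disjoint_left.mp h hsp hs
  constructor
  · rw [injective_iff_map_eq_zero]
    intro m hm
    have : m ∈ LinearMap.ker (LocalizedModule.mkLinearMap S E) := hm
    rw [IsLocalizedModule.mem_ker_iff S] at this
    obtain ⟨r, hr, hrm⟩ := this
    exact smul_injective_of_notMem p f hf r (hS r hr) (by simpa using hrm)
  · intro y
    induction y using LocalizedModule.induction_on with
    | h m s =>
      obtain ⟨m', hm'⟩ := smul_surjective_of_notMem p f hf s (hS s s.2) m
      refine ⟨m', ?_⟩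
      rw [LocalizedModule.mkLinearMap_apply, ← LocalizedModule.mk_cancel s m']
      congr 1


/-- the `R`-linear equivalence `E ≃ S⁻¹E` -/
noncomputable def equivLoc (h : Disjoint (p : Set R) S) : E ≃ₗ[R] LocalizedModule S E :=
  LinearEquiv.ofBijective (LocalizedModule.mkLinearMap S E) (bijective_mkLinearMap p f hf S h)

lemma equivLoc_apply (h : Disjoint (p : Set R) S) (x : E) :
    equivLoc p f hf S h x = LocalizedModule.mkLinearMap S E x := rfl

include hf in
/-- `S⁻¹E(R/p)` is injective over `S⁻¹R` -/
theorem injective_localizedModule (h : Disjoint (p : Set R) S) :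
    Module.Injective (Localization S) (LocalizedModule S E) := by
  apply Module.Baer.injective
  intro J g
  let ι := equivLoc p f hf S h
  have hE := hf.isInjective
  let gR : ↥J →ₗ[R] E := ι.symm.toLinearMap ∘ₗ (g.restrictScalars R)
  obtain ⟨hR, hhR⟩ := Module.Injective.extension_property R E ↥J (Localization S)
    (J.subtype.restrictScalars R) Subtype.val_injective gR
  let h' : Localization S →ₗ[R] LocalizedModule S E := ι.toLinearMap ∘ₗ hR
  refine ⟨h'.extendScalarsOfIsLocalization S (Localization S), fun x hx => ?_⟩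
  have h1 := LinearMap.congr_fun hhR ⟨x, hx⟩
  simp only [LinearMap.coe_comp, Function.comp_apply, LinearMap.coe_restrictScalars,
    Submodule.subtype_apply, gR, LinearEquiv.coe_coe] at h1
  rw [LinearMap.extendScalarsOfIsLocalization_apply']
  simp only [h', LinearMap.coe_comp, Function.comp_apply, LinearEquiv.coe_coe, h1,
    LinearEquiv.apply_symm_apply]

include hf in
/-- `S⁻¹E(R/p)` is an injective hull of `S⁻¹R / p S⁻¹R` over `S⁻¹R` -/
theorem exists_isInjectiveHull_localizedModule (h : Disjoint (p : Set R) S) :
    ∃ g : (Localization S ⧸ p.map (algebraMap R (Localization S))) →ₗ[Localization S]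
      LocalizedModule S E, InjHull.IsInjectiveHull g := by
  let ι := equivLoc p f hf S h
  let e₀ : LocalizedModule S E := ι (f 1)
  have hsmul : ∀ r : R, (algebraMap R (Localization S) r) • e₀ = ι (f (Ideal.Quotient.mk p r)) := by
    intro r
    rw [algebraMap_smul, ← map_smul, ← map_smul]
    congr 2
    rw [Algebra.smul_def, mul_one]
    rfl
  let φ : Localization S →ₗ[Localization S] LocalizedModule S E :=
    LinearMap.toSpanSingleton (Localization S) (LocalizedModule S E) e₀
  have hker : p.map (algebraMap R (Localization S)) ≤ LinearMap.ker φ := by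
    rw [Ideal.map_le_iff_le_comap]
    intro r hr
    rw [Ideal.mem_comap, LinearMap.mem_ker, LinearMap.toSpanSingleton_apply, hsmul,
      Ideal.Quotient.eq_zero_iff_mem.mpr hr, map_zero, map_zero]
  have hker' : LinearMap.ker φ ≤ p.map (algebraMap R (Localization S)) := by
    intro a ha
    rw [LinearMap.mem_ker, LinearMap.toSpanSingleton_apply] at ha
    obtain ⟨⟨r, s⟩, hrs⟩ := IsLocalization.surj S a
    have h1 : (algebraMap R (Localization S) r) • e₀ = 0 := by
      rw [← hrs, mul_comm, mul_smul, ha, smul_zero]
    rw [hsmul] at h1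
    have h2 : Ideal.Quotient.mk p r = 0 :=
      hf.injective (by rw [map_zero]; exact ι.injective (by rw [h1, map_zero]))
    rw [IsLocalization.mem_map_algebraMap_iff S]
    exact ⟨(⟨r, Ideal.Quotient.eq_zero_iff_mem.mp h2⟩, s), hrs⟩
  let g : (Localization S ⧸ p.map (algebraMap R (Localization S))) →ₗ[Localization S]
      LocalizedModule S E := Submodule.liftQ _ φ hker
  have hg_mk : ∀ a : Localization S, g (Submodule.Quotient.mk a) = a • e₀ := fun a => rfl
  refine ⟨g, { toIsEssentialInj := ?_, isInjective := injective_localizedModule p f hf S h }⟩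
  rw [isEssentialInj_iff_forall]
  constructor
  · rw [← LinearMap.ker_eq_bot]
    exact Submodule.ker_liftQ_eq_bot _ _ _ hker'
  · intro y hy
    obtain ⟨x, rfl⟩ := ι.surjective y
    have hx : x ≠ 0 := by
      rintro rfl
      exact hy (map_zero _)
    obtain ⟨r, ⟨c, hc⟩, hr0⟩ :=
      ((isEssentialInj_iff_forall f).mp hf.toIsEssentialInj).2 x hx
    obtain ⟨t, rfl⟩ := Ideal.Quotient.mk_surjective c
    refine ⟨algebraMap R (Localization S) r, ⟨Submodule.Quotient.mk (algebraMap R _ t), ?_⟩, ?_⟩
    · rw [hg_mk, hsmul, hc, algebraMap_smul, map_smul]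
    · rw [algebraMap_smul, ← map_smul]
      intro h0
      exact hr0 (ι.injective (by rw [h0, map_zero]))

end Groth.Agent.H2.InjHullLoc
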