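import Groth.Agent.H2.Tor1
import Mathlib.RingTheory.Filtration
import Mathlib.RingTheory.LocalRing.ResidueField.Basic
import Mathlib.LinearAlgebra.TensorProduct.Quotient

set_option autoImplicit false
universe u
open scoped TensorProduct
open Function (Injective Surjective Exact)

namespace Groth.Agent.H2

section general

variable {R : Type u} [CommRing R] {M N : Type u} [AddCommGroup M] [Module R M]
  [AddCommGroup N] [Module R N]

/-- Four-lemma: if `V' → V → V'' → 0` is exact with `V' → V` injective, `M` flat, and
`V' ⊗ u`, `V'' ⊗ u` are injective, so is `V ⊗ u`. -/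
theorem lTensor_injective_of_exact_four [Module.Flat R M] {V' V V'' : Type u}
    [AddCommGroup V'] [Module R V'] [AddCommGroup V] [Module R V] [AddCommGroup V''] [Module R V'']
    (f : V' →ₗ[R] V) (g : V →ₗ[R] V'') (hf : Injective f) (hfg : Exact f g) (hg : Surjective g)
    (u : N →ₗ[R] M) (h' : Injective (u.lTensor V')) (h'' : Injective (u.lTensor V'')) :
    Injective (u.lTensor V) := by
  rw [injective_iff_map_eq_zero]
  intro x hx
  have h1 : g.rTensor N x = 0 := by
    apply h''
    rw [map_zero, ← LinearMap.comp_apply, LinearMap.lTensor_comp_rTensor,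
      ← LinearMap.rTensor_comp_lTensor, LinearMap.comp_apply, hx, map_zero]
  obtain ⟨y, rfl⟩ := (rTensor_exact N hfg hg x).mp h1
  have h2 : u.lTensor V' y = 0 := by
    apply Module.Flat.rTensor_preserves_injective_linearMap (M := M) f hf
    rw [map_zero, ← LinearMap.comp_apply, LinearMap.rTensor_comp_lTensor,
      ← LinearMap.lTensor_comp_rTensor, LinearMap.comp_apply, hx]
  rw [h' (by rw [h2, map_zero] : u.lTensor V' y = u.lTensor V' 0), map_zero]

/-- If `A ⊗ u` is injective and `W` is a flat `A`-module then `W ⊗_R u` is injective. -/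
theorem lTensor_injective_of_algebra_flat_module (A : Type u) [CommRing A] [Algebra R A]
    (u : N →ₗ[R] M) (h : Injective (u.lTensor A))
    (W : Type u) [AddCommGroup W] [Module R W] [Module A W] [IsScalarTower R A W]
    [Module.Flat A W] : Injective (u.lTensor W) := by
  have hA : Injective (u.baseChange A) := by
    rw [LinearMap.baseChange_eq_ltensor]; exact h
  have key : Injective ((u.baseChange A).lTensor W) :=
    Module.Flat.lTensor_preserves_injective_linearMap _ hA
  let eN := TensorProduct.AlgebraTensorModule.cancelBaseChange R A A W N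
  let eM := TensorProduct.AlgebraTensorModule.cancelBaseChange R A A W M
  have hcomm : ∀ x, u.lTensor W (eN x) = eM ((u.baseChange A).lTensor W x) := by
    intro x
    induction x using TensorProduct.induction_on with
    | zero => simp
    | tmul n y =>
      induction y using TensorProduct.induction_on with
      | zero => simp
      | tmul a k => simp [eN, eM]
      | add y z hy hz => simp only [TensorProduct.tmul_add, map_add, hy, hz]
    | add x y hx hy => simp only [map_add, hx, hy]
  intro x y hxy
  obtain ⟨x', rfl⟩ := eN.surjective x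
  obtain ⟨y', rfl⟩ := eN.surjective y
  rw [hcomm, hcomm] at hxy
  rw [key (eM.injective hxy)]

theorem one_tmul_eq_zero_iff_mem_smul_top (I : Ideal R) (x : N) :
    (1 : R ⧸ I) ⊗ₜ[R] x = 0 ↔ x ∈ I • (⊤ : Submodule R N) := by
  rw [← (TensorProduct.quotTensorEquivQuotSMul N I).map_eq_zero_iff,
    TensorProduct.quotTensorEquivQuotSMul_mk_one_tmul, Submodule.Quotient.mk_eq_zero]

theorem exists_one_tmul_eq (I : Ideal R) (z : (R ⧸ I) ⊗[R] N) :
    ∃ x : N, z = (1 : R ⧸ I) ⊗ₜ[R] x := by
  obtain ⟨x, hx⟩ := Submodule.Quotient.mk_surjective _ (TensorProduct.quotTensorEquivQuotSMul N I z)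
  refine ⟨x, ?_⟩
  apply (TensorProduct.quotTensorEquivQuotSMul N I).injective
  rw [TensorProduct.quotTensorEquivQuotSMul_mk_one_tmul, hx]

theorem lTensor_quotient_injective_iff (I : Ideal R) (u : N →ₗ[R] M) :
    Injective (u.lTensor (R ⧸ I)) ↔
      ∀ x : N, u x ∈ I • (⊤ : Submodule R M) → x ∈ I • (⊤ : Submodule R N) := by
  constructor
  · intro h x hx
    rw [← one_tmul_eq_zero_iff_mem_smul_top] at hx ⊢
    apply h
    rw [LinearMap.lTensor_tmul, hx, map_zero]
  · intro h
    rw [injective_iff_map_eq_zero]
    intro z hz
    obtain ⟨x, rfl⟩ := exists_one_tmul_eq I z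
    rw [LinearMap.lTensor_tmul, one_tmul_eq_zero_iff_mem_smul_top] at hz
    rw [one_tmul_eq_zero_iff_mem_smul_top]
    exact h x hz

end general

section scalars

variable {R S : Type u} [CommRing R] [CommRing S] [Algebra R S] {N : Type u}
  [AddCommGroup N] [Module R N] [Module S N] [IsScalarTower R S N]

theorem mem_map_smul_top_iff (I : Ideal R) (x : N) :
    x ∈ I.map (algebraMap R S) • (⊤ : Submodule S N) ↔ x ∈ I • (⊤ : Submodule R N) := by
  constructor
  · intro hx
    refine Submodule.smul_induction_on hx ?_ ?_
    · intro s hs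
      suffices hh : ∀ y : N, s • y ∈ I • (⊤ : Submodule R N) from fun y _ => hh y
      refine Submodule.span_induction (p := fun s _ => ∀ y : N, s • y ∈ I • (⊤ : Submodule R N))
        ?_ ?_ ?_ ?_ hs
      · rintro _ ⟨a, ha, rfl⟩ y
        rw [algebraMap_smul]
        exact Submodule.smul_mem_smul ha trivial
      · intro y
        rw [zero_smul]
        exact Submodule.zero_mem _
      · intro s t _ _ hs ht y
        rw [add_smul]
        exact Submodule.add_mem _ (hs y) (ht y)
      · intro t s _ hs y
        rw [smul_eq_mul, mul_comm, mul_smul]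
        exact hs (t • y)
    · intro y z hy hz
      exact Submodule.add_mem _ hy hz
  · intro hx
    refine Submodule.smul_induction_on hx ?_ ?_
    · intro a ha y _
      rw [← algebraMap_smul S a y]
      exact Submodule.smul_mem_smul (Ideal.mem_map_of_mem _ ha) trivial
    · intro y z hy hz
      exact Submodule.add_mem _ hy hz

end scalars

end Groth.Agent.H2

namespace Groth.Agent.H2

section localring

open IsLocalRing

variable {R : Type u} [CommRing R] [IsLocalRing R] {M N : Type u} [AddCommGroup M] [Module R M]
  [Module.Flat R M] [AddCommGroup N] [Module R N]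

theorem lTensor_injective_of_pow_smul_eq_bot (u : N →ₗ[R] M)
    (h : Injective (u.lTensor (R ⧸ maximalIdeal R))) :
    ∀ n : ℕ, ∀ (V : Type u) [AddCommGroup V] [Module R V],
      (maximalIdeal R ^ n) • (⊤ : Submodule R V) = ⊥ → Injective (u.lTensor V) := by
  intro n
  induction n with
  | zero =>
    intro V _ _ hV
    have : Subsingleton V := by
      rw [pow_zero, Ideal.one_eq_top, Submodule.top_smul] at hV
      exact (Submodule.subsingleton_iff R).mp (subsingleton_of_bot_eq_top hV.symm)
    exact Function.injective_of_subsingleton _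
  | succ n ih =>
    intro V _ _ hV
    let V' : Submodule R V := maximalIdeal R • ⊤
    have h1 : Injective (u.lTensor V') := by
      apply ih
      apply Submodule.map_injective_of_injective (Submodule.injective_subtype V')
      rw [Submodule.map_smul'', Submodule.map_top, Submodule.range_subtype, Submodule.map_bot,
        ← Submodule.mul_smul, ← pow_succ]
      exact hV
    have h2 : Injective (u.lTensor (V ⧸ V')) := by
      have : Module.Flat (R ⧸ maximalIdeal R) (V ⧸ V') := by
        let _ : Field (R ⧸ maximalIdeal R) := Ideal.Quotient.field _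
        infer_instance
      exact lTensor_injective_of_algebra_flat_module (R ⧸ maximalIdeal R) u h (V ⧸ V')
    exact lTensor_injective_of_exact_four V'.subtype V'.mkQ (Submodule.injective_subtype _)
      (LinearMap.exact_subtype_mkQ V') (Submodule.mkQ_surjective V') u h1 h2

/-- Stacks 00ME, main step: `(R/I) ⊗ u` is injective for every ideal `I`. -/
theorem lTensor_quotient_injective_of_residue
    (S : Type u) [CommRing S] [IsLocalRing S] [IsNoetherianRing S] [Algebra R S]
    [IsLocalHom (algebraMap R S)] [Module S N] [IsScalarTower R S N] [Module.Finite S N]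
    (u : N →ₗ[R] M)
    (h : Injective (u.lTensor (R ⧸ maximalIdeal R))) (I : Ideal R) :
    Injective (u.lTensor (R ⧸ I)) := by
  rw [lTensor_quotient_injective_iff]
  intro x hx
  rw [← mem_map_smul_top_iff (S := S)]
  set P : Submodule S N := I.map (algebraMap R S) • ⊤ with hP
  rw [← Submodule.Quotient.mk_eq_zero P]
  have hle : (maximalIdeal R).map (algebraMap R S) ≤ Ideal.jacobson ⊥ := by
    rw [IsLocalRing.jacobson_eq_maximalIdeal ⊥ bot_ne_top]
    exact ((IsLocalRing.local_hom_TFAE (algebraMap R S)).out 0 2).mp ‹_›
  have hkrull : (⨅ i : ℕ, ((maximalIdeal R).map (algebraMap R S)) ^ i • ⊤ :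
      Submodule S (N ⧸ P)) = ⊥ := Ideal.iInf_pow_smul_eq_bot_of_le_jacobson _ hle
  rw [← Submodule.mem_bot S, ← hkrull, Submodule.mem_iInf]
  intro n
  have hxn : x ∈ (I ⊔ maximalIdeal R ^ n) • (⊤ : Submodule R N) := by
    have hinj := lTensor_injective_of_pow_smul_eq_bot u h n (R ⧸ (I ⊔ maximalIdeal R ^ n)) (by
      rw [eq_bot_iff, Submodule.smul_le]
      intro a ha v _
      obtain ⟨v, rfl⟩ := Ideal.Quotient.mk_surjective v
      rw [Submodule.mem_bot, Algebra.smul_def, Ideal.Quotient.algebraMap_eq, ← map_mul,
        Ideal.Quotient.eq_zero_iff_mem]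
      exact Ideal.mul_mem_right _ _ (Ideal.mem_sup_right ha))
    exact (lTensor_quotient_injective_iff _ u).mp hinj x (Submodule.smul_mono_left le_sup_left hx)
  rw [Submodule.sup_smul] at hxn
  obtain ⟨y, hy, z, hz, rfl⟩ := Submodule.mem_sup.mp hxn
  rw [Submodule.Quotient.mk_add]
  have hy0 : (Submodule.Quotient.mk y : N ⧸ P) = 0 := by
    rw [Submodule.Quotient.mk_eq_zero]
    exact (mem_map_smul_top_iff I y).mpr hy
  rw [hy0, zero_add]
  refine Submodule.smul_induction_on hz ?_ ?_
  · intro a ha w _
    rw [← algebraMap_smul S a w, Submodule.Quotient.mk_smul]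
    refine Submodule.smul_mem_smul ?_ trivial
    rw [← Ideal.map_pow]
    exact Ideal.mem_map_of_mem _ ha
  · intro w w' hw hw'
    rw [Submodule.Quotient.mk_add]
    exact Submodule.add_mem _ hw hw'

/-- Stacks 00ME. -/
theorem injective_and_flat_of_injective_residue
    (S : Type u) [CommRing S] [IsLocalRing S] [IsNoetherianRing S] [Algebra R S]
    [IsLocalHom (algebraMap R S)] [Module S N] [IsScalarTower R S N] [Module.Finite S N]
    (u : N →ₗ[R] M)
    (h : Injective (u.lTensor (R ⧸ maximalIdeal R))) :
    Injective u ∧ Module.Flat R (M ⧸ LinearMap.range u) := by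
  have hinj : Injective u := by
    have h0 := (lTensor_quotient_injective_iff ⊥ u).mp
      (lTensor_quotient_injective_of_residue S u h ⊥)
    rw [injective_iff_map_eq_zero]
    intro x hx
    have := h0 x (by rw [hx]; exact Submodule.zero_mem _)
    rw [Submodule.bot_smul] at this
    exact this
  refine ⟨hinj, ?_⟩
  apply flat_of_forall_tor1Zero_quotient
  intro I
  rw [tor1Zero_iff_right u (LinearMap.range u).mkQ hinj (LinearMap.exact_map_mkQ_range u)
    (Submodule.mkQ_surjective _)]
  exact lTensor_quotient_injective_of_residue S u h I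

end localring

end Groth.Agent.H2
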