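import Mathlib
import Groth.Agent.H2.LCInjective
import Groth.Agent.H34.HomNonzero
import Groth.Agent.H2.InjHull

/-!
# Vanishing of `H^i_J(G)` for `i < n` versus vanishing of `Ext^i(F, G)`  (helper2)

`G` is an arbitrary module over a Noetherian ring.
-/

set_option autoImplicit false
set_option linter.unusedSectionVars false
set_option linter.style.haveILetI false

namespace Groth.Agent.H2.LCExtVanish

universe u

open CategoryTheory Abelian Groth.Agent.H58.LC Groth.Agent.H2.LCInjective

variable {A : Type u} [CommRing A] [IsNoetherianRing A] (J : Ideal A)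

/-- the injective hull of a `J`-torsion-free module is `J`-torsion-free -/
theorem torsionSub_hull_eq_bot (G E : Type u) [AddCommGroup G] [Module A G] [AddCommGroup E]
    [Module A E] (f : G →ₗ[A] E) (hf : InjHull.IsInjectiveHull f)
    (h0 : DRing.torsionSub J G = ⊥) : DRing.torsionSub J E = ⊥ := by
  by_contra hne
  obtain ⟨x, hx, hx0⟩ := Submodule.exists_mem_ne_zero_of_ne_bot hne
  obtain ⟨r, ⟨m, hm⟩, hr0⟩ :=
    ((Groth.Agent.H2.isEssentialInj_iff_forall f).mp hf.toIsEssentialInj).2 x hx0
  have hmem : m ∈ DRing.torsionSub J G := by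
    obtain ⟨t, ht⟩ := hx
    refine ⟨t, fun a ha => ?_⟩
    apply hf.injective
    rw [map_smul, hm, smul_comm, ht a ha, smul_zero, map_zero]
  rw [h0, Submodule.mem_bot] at hmem
  rw [hmem, map_zero] at hm
  exact hr0 hm.symm

/-- `Hom(F, G) = 0` when `F` is `J`-torsion and `Γ_J(G) = 0` -/
theorem hom_eq_zero_of_torsionSub_eq_bot (F : ModuleCat.{u} A) (hF : IsTors J F)
    (G : Type u) [AddCommGroup G] [Module A G] (h0 : DRing.torsionSub J G = ⊥)
    (φ : F →ₗ[A] G) : φ = 0 := by
  ext y
  have : φ y ∈ DRing.torsionSub J G := by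
    obtain ⟨t, ht⟩ := hF y
    exact ⟨t, fun a ha => by rw [← map_smul, ht a ha, map_zero]⟩
  rw [h0, Submodule.mem_bot] at this
  exact this

theorem subsingleton_ext_zero_of_torsionSub_eq_bot (F : ModuleCat.{u} A) (hF : IsTors J F)
    (G : Type u) [AddCommGroup G] [Module A G] (h0 : DRing.torsionSub J G = ⊥) :
    Subsingleton (Ext F (ModuleCat.of A G) 0) := by
  refine InjDimResidue.subsingleton_of_forall_eq_zero fun z => ?_
  obtain ⟨φ, rfl⟩ := (Ext.mk₀_bijective _ _).surjective z
  have : φ = 0 := by
    apply ModuleCat.hom_ext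
    exact hom_eq_zero_of_torsionSub_eq_bot J F hF G h0 φ.hom
  rw [this, Ext.mk₀_zero]

theorem torsionSub_eq_bot_of_subsingleton_H0 (G : Type u) [AddCommGroup G] [Module A G]
    (h : Subsingleton (H J 0 (ModuleCat.of A G))) : DRing.torsionSub J G = ⊥ := by
  have : Subsingleton (DRing.torsionSub J G) :=
    (H0equiv J (ModuleCat.of A G)).symm.toEquiv.subsingleton
  exact Submodule.subsingleton_iff_eq_bot.mp this

theorem subsingleton_H0_of_torsionSub_eq_bot (G : Type u) [AddCommGroup G] [Module A G]
    (h : DRing.torsionSub J G = ⊥) : Subsingleton (H J 0 (ModuleCat.of A G)) := by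
  have : Subsingleton (DRing.torsionSub J G) := Submodule.subsingleton_iff_eq_bot.mpr h
  exact (H0equiv J (ModuleCat.of A G)).toEquiv.subsingleton

section hull

variable {G E : Type u} [AddCommGroup G] [Module A G] [AddCommGroup E] [Module A E]
  (f : G →ₗ[A] E) (hf : InjHull.IsInjectiveHull f)

/-- the short exact sequence `0 → G → E → E/G → 0` -/
theorem hull_shortExact (hinj : Function.Injective f) :
    (ShortComplex.mk (ModuleCat.ofHom f) (ModuleCat.ofHom (LinearMap.range f).mkQ) (by
      ext x
      exact (LinearMap.exact_map_mkQ_range f).apply_apply_eq_zero x)).ShortExact :=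
  shortExact_of f (LinearMap.range f).mkQ hinj (Submodule.mkQ_surjective _)
    (LinearMap.exact_map_mkQ_range f)

include hf in
/-- `H^i_J(E/G) ≃ H^{i+1}_J(G)` for all `i` when `Γ_J(G) = 0` and `E` is the injective hull -/
theorem subsingleton_H_coker_iff (h0 : DRing.torsionSub J G = ⊥) (i : ℕ) :
    Subsingleton (H J i (ModuleCat.of A (E ⧸ LinearMap.range f))) ↔
      Subsingleton (H J (i + 1) (ModuleCat.of A G)) := by
  have hS := hull_shortExact f hf.injective
  haveI : Module.Injective A E := hf.isInjective
  have hE : Injective (ModuleCat.of A E) := Module.injective_object_of_injective_module A E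
  cases i with
  | zero =>
    have hE0 : Subsingleton (H J 0 (ModuleCat.of A E)) :=
      subsingleton_H0_of_torsionSub_eq_bot J E (torsionSub_hull_eq_bot J G E f hf h0)
    have hinj : Function.Injective (δ J 0 hS) := by
      rw [injective_iff_map_eq_zero]
      intro z hz
      obtain ⟨z₂, rfl⟩ := exact₃ J 0 hS z hz
      rw [Subsingleton.elim z₂ 0, map_zero]
    have hsurj : Function.Surjective (δ J 0 hS) := δ_zero_surjective J hS (hinj := hE)
    exact (Equiv.ofBijective _ ⟨hinj, hsurj⟩).subsingleton_congr
  | succ i =>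
    exact (δEquiv J hS (hinj := hE) i).toEquiv.subsingleton_congr

end hull

/-- **(1) ⇒ (2)**: vanishing of `H^i_J(G)` for `i < n` gives vanishing of `Ext^i(F, G)` for `i < n`
and all `J`-torsion `F`. -/
theorem subsingleton_ext_of_subsingleton_H (F : ModuleCat.{u} A) (hF : IsTors J F) (n : ℕ) :
    ∀ (G : Type u) [AddCommGroup G] [Module A G],
      (∀ i, i < n → Subsingleton (H J i (ModuleCat.of A G))) →
      ∀ i, i < n → Subsingleton (Ext F (ModuleCat.of A G) i) := by
  induction n with
  | zero => intro G _ _ _ i hi; omega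
  | succ n ih =>
    intro G _ _ hG i hi
    have h0 := torsionSub_eq_bot_of_subsingleton_H0 J G (hG 0 (by omega))
    cases i with
    | zero => exact subsingleton_ext_zero_of_torsionSub_eq_bot J F hF G h0
    | succ i =>
      obtain ⟨E, _, _, f, hf⟩ := Groth.Agent.H2.exists_isInjectiveHull (R := A) G
      have hS := hull_shortExact f hf.injective
      haveI : Module.Injective A E := hf.isInjective
      haveI hE : Injective (ModuleCat.of A E) := Module.injective_object_of_injective_module A E
      have hC : ∀ j, j < n → Subsingleton (H J j (ModuleCat.of A (E ⧸ LinearMap.range f))) :=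
        fun j hj => (subsingleton_H_coker_iff J f hf h0 j).mpr (hG (j + 1) (by omega))
      have := ih (E ⧸ LinearMap.range f) hC i (by omega)
      refine InjDimResidue.subsingleton_of_forall_eq_zero fun z => ?_
      obtain ⟨z₃, rfl⟩ := Ext.covariant_sequence_exact₁ _ hS z
        (Ext.eq_zero_of_injective (I := ModuleCat.of A E) _) rfl
      rw [Subsingleton.elim z₃ 0, Ext.zero_comp]

/-- **(2) ⇒ (1)** -/
theorem subsingleton_H_of_subsingleton_ext_Q (G : ModuleCat.{u} A) (i : ℕ)
    (h : ∀ t, Subsingleton (Ext (Q J t) G i)) : Subsingleton (H J i G) := by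
  refine InjDimResidue.subsingleton_of_forall_eq_zero fun x => ?_
  obtain ⟨t, e, rfl⟩ := exists_rep J i G x
  rw [Subsingleton.elim (h := h t) e 0, map_zero]

/-- if `V(J) ⊆ Supp F` and `Hom(F, G) = 0` then `Γ_J(G) = 0` -/
theorem torsionSub_eq_bot_of_hom_eq_zero (F : Type u) [AddCommGroup F] [Module A F]
    [Module.Finite A F] (hF : PrimeSpectrum.zeroLocus (J : Set A) ⊆ Module.support A F)
    (G : Type u) [AddCommGroup G] [Module A G]
    (h : Subsingleton (Ext (ModuleCat.of A F) (ModuleCat.of A G) 0)) :
    DRing.torsionSub J G = ⊥ := by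
  by_contra hne
  haveI : Nontrivial (DRing.torsionSub J G) := Submodule.nontrivial_iff_ne_bot.mpr hne
  have hsupp : Module.support A (DRing.torsionSub J G) ⊆ Module.support A F := by
    intro p hp
    apply hF
    rw [Module.mem_support_iff_exists_annihilator] at hp
    obtain ⟨⟨x, t, ht⟩, hx⟩ := hp
    rw [PrimeSpectrum.mem_zeroLocus, SetLike.coe_subset_coe]
    have h1 : J ^ t ≤ p.asIdeal := by
      refine le_trans ?_ hx
      intro a ha
      rw [Submodule.mem_annihilator_span_singleton]
      exact Subtype.ext (ht a ha)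
    exact p.2.le_of_pow_le h1
  haveI : Module.FinitePresentation A F := Module.finitePresentation_of_finite A F
  obtain ⟨φ, ψ, hφψ⟩ := Groth.Agent.H34.nontrivial_linearMap_of_support_subset A F
    (DRing.torsionSub J G) hsupp
  apply hφψ
  have key : ∀ χ : F →ₗ[A] DRing.torsionSub J G, χ = 0 := by
    intro χ
    have h1 : Ext.mk₀ (ModuleCat.ofHom ((DRing.torsionSub J G).subtype ∘ₗ χ)) =
        (0 : Ext (ModuleCat.of A F) (ModuleCat.of A G) 0) := Subsingleton.elim _ _
    rw [← Ext.mk₀_zero] at h1
    have h2 := (Ext.mk₀_bijective _ _).injective h1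
    ext y
    have h3 := congrArg (fun g => g.hom y) h2
    exact h3
  rw [key φ, key ψ]

/-- **(3) ⇒ (1)**: one finite module `F` with `Supp F = V(J)` suffices. -/
theorem subsingleton_H_of_subsingleton_ext (F : Type u) [AddCommGroup F] [Module A F]
    [Module.Finite A F] (hF : Module.support A F = PrimeSpectrum.zeroLocus (J : Set A))
    (hFt : IsTors J (ModuleCat.of A F)) (n : ℕ) :
    ∀ (G : Type u) [AddCommGroup G] [Module A G],
      (∀ i, i < n → Subsingleton (Ext (ModuleCat.of A F) (ModuleCat.of A G) i)) →
      ∀ i, i < n → Subsingleton (H J i (ModuleCat.of A G)) := by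
  induction n with
  | zero => intro G _ _ _ i hi; omega
  | succ n ih =>
    intro G _ _ hG i hi
    have h0 := torsionSub_eq_bot_of_hom_eq_zero J F hF.ge G (hG 0 (by omega))
    cases i with
    | zero => exact subsingleton_H0_of_torsionSub_eq_bot J G h0
    | succ i =>
      obtain ⟨E, _, _, f, hf⟩ := Groth.Agent.H2.exists_isInjectiveHull (R := A) G
      have hS := hull_shortExact f hf.injective
      haveI : Module.Injective A E := hf.isInjective
      haveI hE : Injective (ModuleCat.of A E) := Module.injective_object_of_injective_module A E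
      have hE0 := torsionSub_hull_eq_bot J G E f hf h0
      have hC : ∀ j, j < n →
          Subsingleton (Ext (ModuleCat.of A F) (ModuleCat.of A (E ⧸ LinearMap.range f)) j) := by
        intro j hj
        have hnext := hG (j + 1) (by omega)
        refine InjDimResidue.subsingleton_of_forall_eq_zero fun z => ?_
        have hz : z.comp hS.extClass rfl = 0 := Subsingleton.elim _ _
        obtain ⟨z₂, rfl⟩ := Ext.covariant_sequence_exact₃ _ hS z rfl hz
        have : z₂ = 0 := by
          cases j with
          | zero =>
            exact Subsingleton.elim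
              (h := subsingleton_ext_zero_of_torsionSub_eq_bot J _ hFt E hE0) _ _
          | succ j => exact Ext.eq_zero_of_injective (I := ModuleCat.of A E) _
        rw [this, Ext.zero_comp]
      have := ih (E ⧸ LinearMap.range f) hC i (by omega)
      exact (subsingleton_H_coker_iff J f hf h0 i).mp this

end Groth.Agent.H2.LCExtVanish
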