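import Groth.Agent.H2.MatlisEnd
import Mathlib.RingTheory.Length

set_option autoImplicit false
set_option linter.unusedSectionVars false
universe u

namespace Groth.Agent.H2.MatlisLength

open IsLocalRing Groth.Agent.H2.MatlisEnd

/-- an injective map into a finite-length module of no bigger length is surjective -/
lemma surjective_of_injective_of_length_le {R : Type*} [Ring R] {M N : Type*} [AddCommGroup M]
    [Module R M] [AddCommGroup N] [Module R N] (f : M →ₗ[R] N) (hf : Function.Injective f)
    (hN : IsFiniteLength R N) (h : Module.length R N ≤ Module.length R M) :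
    Function.Surjective f := by
  have h1 := Module.length_eq_add_of_exact f (LinearMap.range f).mkQ hf
    (Submodule.mkQ_surjective _) (LinearMap.exact_map_mkQ_range f)
  have hNtop : Module.length R N ≠ ⊤ := Module.length_ne_top_iff.mpr hN
  have hMtop : Module.length R M ≠ ⊤ := by
    intro hM
    rw [hM, top_add] at h1
    exact hNtop h1
  have h0 : Module.length R (N ⧸ LinearMap.range f) = 0 := by
    rw [h1] at h
    have h2 : Module.length R M + Module.length R (N ⧸ LinearMap.range f) ≤
        Module.length R M + 0 := by rwa [add_zero]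
    exact le_zero_iff.mp ((ENat.add_le_add_iff_left hMtop).mp h2)
  rw [Module.length_eq_zero_iff, Submodule.Quotient.subsingleton_iff] at h0
  exact LinearMap.range_eq_top.mp h0

variable {R : Type u} [CommRing R] [IsLocalRing R] [IsNoetherianRing R]
variable {E : Type u} [AddCommGroup E] [Module R E]
variable (f : ResidueField R →ₗ[R] E) (hf : InjHull.IsInjectiveHull f)

include hf in
/-- Matlis duality preserves length of finite length modules -/
lemma length_dual_eq {M : Type u} [AddCommGroup M] [Module R M] (hM : IsFiniteLength R M) :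
    Module.length R (M →ₗ[R] E) = Module.length R M := by
  have h1 := Groth.Agent.H30.Matlis.length_dual_le f hf hM
  refine le_antisymm h1 ?_
  have hfin : IsFiniteLength R (M →ₗ[R] E) :=
    Module.length_ne_top_iff.mp (ne_top_of_le_ne_top (Module.length_ne_top_iff.mpr hM) h1)
  have h2 := Groth.Agent.H30.Matlis.length_dual_le f hf hfin
  have e : M ≃ₗ[R] ((M →ₗ[R] E) →ₗ[R] E) :=
    LinearEquiv.ofBijective _ (Groth.Agent.H30.Matlis.applyₗ_bijective f hf hM)
  rwa [← e.length_eq] at h2

/-- `Hom(R/𝔪^n, E) ≃ E[𝔪^n]` -/
noncomputable def dualEquivTors (E : Type u) [AddCommGroup E] [Module R E] (n : ℕ) :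
    ((R ⧸ (maximalIdeal R) ^ n) →ₗ[R] E) ≃ₗ[R] tors (R := R) E n :=
  LinearEquiv.ofBijective
    ((LinearMap.applyₗ (1 : R ⧸ (maximalIdeal R) ^ n)).codRestrict (tors (R := R) E n)
      (fun ψ => apply_one_mem_tors ψ))
    (by
      constructor
      · intro ψ₁ ψ₂ h
        have h1 : ψ₁ 1 = ψ₂ 1 := congrArg Subtype.val h
        ext
        simpa using h1
      · rintro ⟨x, hx⟩
        refine ⟨evalTors x hx, Subtype.ext ?_⟩
        have := evalTors_mk x hx (1 : R)
        simpa using this)

include hf in
lemma length_tors_eq (n : ℕ) :
    Module.length R (tors (R := R) E n) = Module.length R (R ⧸ (maximalIdeal R) ^ n) := by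
  rw [← (dualEquivTors E n).length_eq]
  exact length_dual_eq f hf (isFiniteLength_quotient_pow n)

end Groth.Agent.H2.MatlisLength
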