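import Mathlib
import Groth.Agent.H2.MatlisLength
import Groth.Agent.H2.MatlisEmbed
import Groth.Agent.H2.MatlisArtin
import Groth.Agent.H2.InjHull
import Groth.Agent.S0315

/-!
# Matlis duality transfer over a non-complete local ring  (helper2)

If `H` is Artinian, `X` finite and `X^ ≃ₗ[A] Hom_A(H, E)` (any `A`-linear equivalence), then
`H ≃ₗ[A] Hom_A(X, E)`.
-/

set_option autoImplicit false
set_option maxHeartbeats 800000
set_option linter.unusedSectionVars false
set_option linter.style.haveILetI false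

universe u v

namespace Groth.Agent.H2.LDNC

open IsLocalRing Groth.Agent.H2.MatlisEnd Groth.Agent.H2.MatlisLength

variable {A : Type u} [CommRing A] [IsLocalRing A] [IsNoetherianRing A]

/-- the `𝔪^n`-torsion of an Artinian module has finite length -/
theorem isFiniteLength_tors (H : Type u) [AddCommGroup H] [Module A H] [IsArtinian A H] (n : ℕ) :
    IsFiniteLength A (tors (R := A) H n) := by
  classical
  letI : Field (A ⧸ maximalIdeal A) := Ideal.Quotient.field _
  obtain ⟨E, _, _, fE, hfE⟩ := Groth.Agent.H2.exists_isInjectiveHull (R := A) (ResidueField A)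
  obtain ⟨hPT, hfin⟩ := (Groth.Agent.S0315.result A (tors (R := A) H n)).mp inferInstance
  obtain ⟨s, hs⟩ : ∃ s, Module.finrank (A ⧸ maximalIdeal A)
    ↥(LocCoh.torsionBy (maximalIdeal A) (tors (R := A) H n)) = s := ⟨_, rfl⟩
  obtain ⟨g, hg⟩ := Groth.Agent.H2.exists_injective_to_pi_of_isPowerTorsion E fE hfE
    (tors (R := A) H n) hPT s hs
  have hmem : ∀ (x : tors (R := A) H n) (i : Fin s), g x i ∈ tors (R := A) E n := by
    intro x i
    rw [mem_tors]
    intro a ha
    have h1 : a • x = 0 := Subtype.ext ((mem_tors (E := H)).1 x.2 a ha)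
    have h2 : a • g x = 0 := by rw [← map_smul, h1, map_zero]
    exact congrFun h2 i
  let g' : tors (R := A) H n →ₗ[A] (Fin s → tors (R := A) E n) :=
    LinearMap.pi fun i => ((LinearMap.proj i : (Fin s → E) →ₗ[A] E) ∘ₗ g).codRestrict
      (tors (R := A) E n) (fun x => hmem x i)
  have hg' : Function.Injective g' := by
    intro x y hxy
    apply hg
    funext i
    have := congrArg (fun t => ((t i : tors (R := A) E n) : E)) hxy
    simpa [g'] using this
  have hE : IsFiniteLength A (tors (R := A) E n) := by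
    rw [← Module.length_ne_top_iff, length_tors_eq fE hfE n, Module.length_ne_top_iff]
    exact isFiniteLength_quotient_pow n
  obtain ⟨hN1, hA1⟩ := isFiniteLength_iff_isNoetherian_isArtinian.mp hE
  have hpi : IsFiniteLength A (Fin s → tors (R := A) E n) :=
    isFiniteLength_iff_isNoetherian_isArtinian.mpr ⟨inferInstance, inferInstance⟩
  exact hpi.of_injective hg'

/-- a linear map sends `I^n N` into `I^n N'` -/
lemma map_mem_smul_top (I : Ideal A) {N : Type*} {N' : Type*} [AddCommGroup N] [Module A N]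
    [AddCommGroup N'] [Module A N'] (τ : N →ₗ[A] N') (n : ℕ) (z : N)
    (hz : z ∈ (I ^ n • ⊤ : Submodule A N)) : τ z ∈ (I ^ n • ⊤ : Submodule A N') := by
  have h1 : τ z ∈ Submodule.map τ (I ^ n • ⊤ : Submodule A N) := Submodule.mem_map_of_mem hz
  rw [Submodule.map_smul''] at h1
  exact Submodule.smul_mono le_rfl le_top h1

section Transfer

variable {E : Type u} [AddCommGroup E] [Module A E]
variable (H : Type u) [AddCommGroup H] [Module A H]

/-- elements of `𝔪^n Hom(H, E)` vanish on `H[𝔪^n]` -/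
lemma apply_eq_zero_of_mem_smul_top (n : ℕ) (y : H →ₗ[A] E)
    (hy : y ∈ (maximalIdeal A ^ n • ⊤ : Submodule A (H →ₗ[A] E))) (h : H)
    (hh : h ∈ tors (R := A) H n) : y h = 0 := by
  refine Submodule.smul_induction_on hy (fun a ha y' _ => ?_) (fun y₁ y₂ h₁ h₂ => ?_)
  · rw [LinearMap.smul_apply, ← map_smul, (mem_tors (E := H)).1 hh a ha, map_zero]
  · rw [LinearMap.add_apply, h₁, h₂, add_zero]

/-- a functional vanishing on `H[𝔪^n]` lies in `𝔪^n Hom(H, E)` (for `E` injective) -/
lemma mem_smul_top_of_vanish [Module.Injective A E] (n : ℕ) (y : H →ₗ[A] E)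
    (hy : ∀ h ∈ tors (R := A) H n, y h = 0) :
    y ∈ (maximalIdeal A ^ n • ⊤ : Submodule A (H →ₗ[A] E)) := by
  classical
  obtain ⟨S, hS⟩ := (IsNoetherian.noetherian (maximalIdeal A ^ n) : (maximalIdeal A ^ n).FG)
  let α : H →ₗ[A] (↥S → H) := LinearMap.pi fun a => (a : A) • LinearMap.id
  have hker : LinearMap.ker α ≤ LinearMap.ker y := by
    intro h hh
    rw [LinearMap.mem_ker] at hh ⊢
    apply hy
    rw [mem_tors]
    have hle : maximalIdeal A ^ n ≤ LinearMap.ker (LinearMap.toSpanSingleton A H h) := by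
      rw [← hS]
      refine Ideal.span_le.2 ?_
      intro a ha
      show LinearMap.toSpanSingleton A H h a = 0
      rw [LinearMap.toSpanSingleton_apply]
      have := congrFun hh ⟨a, ha⟩
      exact this
    intro a ha
    have h1 : LinearMap.toSpanSingleton A H h a = 0 := hle ha
    rwa [LinearMap.toSpanSingleton_apply] at h1
  let y' : LinearMap.range α →ₗ[A] E :=
    (LinearMap.ker α).liftQ y hker ∘ₗ (α.quotKerEquivRange).symm.toLinearMap
  obtain ⟨y'', hy''⟩ := Module.Injective.out (LinearMap.range α).subtype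
    (Submodule.injective_subtype _) y'
  have hyα : ∀ h : H, y h = y'' (α h) := by
    intro h
    have h1 := hy'' ⟨α h, LinearMap.mem_range_self α h⟩
    rw [Submodule.subtype_apply] at h1
    rw [h1]
    show y h = (LinearMap.ker α).liftQ y hker ((α.quotKerEquivRange).symm ⟨α h, _⟩)
    rw [LinearMap.quotKerEquivRange_symm_apply_image]
    rfl
  have hsum : y = ∑ a : ↥S, (a : A) • (y'' ∘ₗ LinearMap.single A (fun _ => H) a) := by
    ext h
    rw [hyα h]
    have h2 : α h = ∑ a : ↥S, Pi.single a ((a : A) • h) := by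
      have := (Finset.univ_sum_single (α h)).symm
      exact this
    rw [h2, map_sum, LinearMap.sum_apply]
    refine Finset.sum_congr rfl fun a _ => ?_
    rw [LinearMap.smul_apply, LinearMap.comp_apply, LinearMap.single_apply, ← map_smul,
      ← Pi.single_smul]
  rw [hsum]
  refine Submodule.sum_mem _ fun a _ => ?_
  refine Submodule.smul_mem_smul ?_ Submodule.mem_top
  rw [← hS]
  exact Ideal.subset_span a.2

variable (X : Type v) [AddCommGroup X] [Module A X]

/-- density of `X` in its completion -/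
lemma exists_sub_mem_smul_top (z : AdicCompletion (maximalIdeal A) X) (n : ℕ) :
    ∃ x : X, z - AdicCompletion.of (maximalIdeal A) X x ∈
      (maximalIdeal A ^ n • ⊤ : Submodule A (AdicCompletion (maximalIdeal A) X)) := by
  obtain ⟨x, hx⟩ := Submodule.mkQ_surjective (maximalIdeal A ^ n • ⊤ : Submodule A X)
    (AdicCompletion.eval (maximalIdeal A) X n z)
  refine ⟨x, ?_⟩
  rw [AdicCompletion.pow_smul_top_eq_ker_eval (IsNoetherian.noetherian (maximalIdeal A)),
    LinearMap.mem_ker, map_sub, AdicCompletion.eval_of, hx, sub_self]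

variable {H X}
variable (θ : AdicCompletion (maximalIdeal A) X ≃ₗ[A] (H →ₗ[A] E))

/-- the comparison map `H → Hom(X, E)` -/
noncomputable def Φ : H →ₗ[A] (X →ₗ[A] E) :=
  (θ.toLinearMap ∘ₗ AdicCompletion.of (maximalIdeal A) X).flip

lemma Φ_apply (h : H) (x : X) : Φ θ h x = θ (AdicCompletion.of (maximalIdeal A) X x) h := rfl

/-- evaluation at `h ∈ H[𝔪^n]` only depends on the class modulo `𝔪^n` -/
lemma apply_eq_Φ (n : ℕ) (h : H) (hh : h ∈ tors (R := A) H n)
    (z : AdicCompletion (maximalIdeal A) X) (x : X)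
    (hzx : z - AdicCompletion.of (maximalIdeal A) X x ∈
      (maximalIdeal A ^ n • ⊤ : Submodule A (AdicCompletion (maximalIdeal A) X))) :
    θ z h = Φ θ h x := by
  have h1 := map_mem_smul_top (maximalIdeal A) θ.toLinearMap n _ hzx
  have h2 := apply_eq_zero_of_mem_smul_top H n _ h1 h hh
  rw [LinearEquiv.coe_coe, map_sub, LinearMap.sub_apply, sub_eq_zero] at h2
  rw [Φ_apply]
  exact h2

variable (f : ResidueField A →ₗ[A] E) (hf : InjHull.IsInjectiveHull f)

include hf in
theorem Φ_injective [IsArtinian A H] : Function.Injective (Φ θ) := by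
  rw [injective_iff_map_eq_zero]
  intro h hh
  obtain ⟨hPT, -⟩ := (Groth.Agent.S0315.result A H).mp inferInstance
  obtain ⟨n, hn⟩ := hPT h
  have hmem : h ∈ tors (R := A) H n := (mem_tors (E := H)).2 hn
  apply Groth.Agent.H30.Matlis.applyₗ_injective f hf H
  rw [map_zero]
  ext y
  rw [LinearMap.applyₗ_apply_apply, LinearMap.zero_apply]
  obtain ⟨z, rfl⟩ := θ.surjective y
  obtain ⟨x, hx⟩ := exists_sub_mem_smul_top X z n
  rw [apply_eq_Φ θ n h hmem z x hx, hh, LinearMap.zero_apply]

include hf in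
theorem Φ_surjective [IsArtinian A H] [Module.Finite A X] : Function.Surjective (Φ θ) := by
  classical
  haveI : Module.Injective A E := hf.isInjective
  intro ψ
  haveI : IsArtinian A E := Groth.Agent.H2.MatlisArtin.isArtinian f hf
  obtain ⟨hEPT, -⟩ := (Groth.Agent.S0315.result A E).mp inferInstance
  obtain ⟨n, hn⟩ : ∃ n : ℕ, ∀ x : X, ∀ a ∈ maximalIdeal A ^ n, a • ψ x = 0 := by
    obtain ⟨S, hS⟩ := (Module.Finite.fg_top : (⊤ : Submodule A X).FG)
    choose k hk using fun x : X => hEPT (ψ x)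
    refine ⟨S.sup k, fun x => ?_⟩
    have hx : x ∈ Submodule.span A (S : Set X) := by
      rw [hS]
      trivial
    induction hx using Submodule.span_induction with
    | mem x hx =>
      intro a ha
      exact hk x a (Ideal.pow_le_pow_right (Finset.le_sup hx) ha)
    | zero =>
      intro a _
      rw [map_zero, smul_zero]
    | add x y _ _ hx hy =>
      intro a ha
      rw [map_add, smul_add, hx a ha, hy a ha, add_zero]
    | smul c x _ hx =>
      intro a ha
      rw [map_smul, smul_comm, hx a ha, smul_zero]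
  have hle : (maximalIdeal A ^ n • ⊤ : Submodule A X) ≤ LinearMap.ker ψ := by
    rw [Submodule.smul_le]
    intro a ha x _
    rw [LinearMap.mem_ker, map_smul]
    exact hn x a ha
  let ψbar : (X ⧸ (maximalIdeal A ^ n • ⊤ : Submodule A X)) →ₗ[A] E :=
    Submodule.liftQ _ ψ hle
  let Λ : (H →ₗ[A] E) →ₗ[A] E :=
    ψbar ∘ₗ AdicCompletion.eval (maximalIdeal A) X n ∘ₗ θ.symm.toLinearMap
  have hΛof : ∀ x : X, Λ (θ (AdicCompletion.of (maximalIdeal A) X x)) = ψ x := by
    intro x
    show ψbar (AdicCompletion.eval (maximalIdeal A) X n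
      (θ.symm (θ (AdicCompletion.of (maximalIdeal A) X x)))) = ψ x
    rw [LinearEquiv.symm_apply_apply, AdicCompletion.eval_of]
    rfl
  have hΛker : ∀ y ∈ (maximalIdeal A ^ n • ⊤ : Submodule A (H →ₗ[A] E)), Λ y = 0 := by
    intro y hy
    have h1 := map_mem_smul_top (maximalIdeal A) θ.symm.toLinearMap n y hy
    rw [AdicCompletion.pow_smul_top_eq_ker_eval (IsNoetherian.noetherian (maximalIdeal A)),
      LinearMap.mem_ker] at h1
    show ψbar (AdicCompletion.eval (maximalIdeal A) X n (θ.symm y)) = 0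
    have h1' : AdicCompletion.eval (maximalIdeal A) X n (θ.symm y) = 0 := h1
    rw [h1', map_zero]
  let ρ : (H →ₗ[A] E) →ₗ[A] (tors (R := A) H n →ₗ[A] E) :=
    LinearMap.lcomp A E (tors (R := A) H n).subtype
  have hρ : Function.Surjective ρ := by
    intro g
    obtain ⟨g', hg'⟩ := Module.Injective.out (tors (R := A) H n).subtype
      (Submodule.injective_subtype _) g
    exact ⟨g', LinearMap.ext hg'⟩
  have hkerρ : LinearMap.ker ρ ≤ LinearMap.ker Λ := by
    intro y hy
    rw [LinearMap.mem_ker] at hy ⊢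
    apply hΛker
    apply mem_smul_top_of_vanish H n y
    intro h hh
    have := LinearMap.congr_fun hy ⟨h, hh⟩
    exact this
  let Λbar : (tors (R := A) H n →ₗ[A] E) →ₗ[A] E :=
    (LinearMap.ker ρ).liftQ Λ hkerρ ∘ₗ (ρ.quotKerEquivOfSurjective hρ).symm.toLinearMap
  have hΛbar : ∀ y, Λbar (ρ y) = Λ y := by
    intro y
    show (LinearMap.ker ρ).liftQ Λ hkerρ ((ρ.quotKerEquivOfSurjective hρ).symm (ρ y)) = Λ y
    rw [LinearMap.quotKerEquivOfSurjective_symm_apply]
    rfl
  obtain ⟨h₀, hh₀⟩ := (Groth.Agent.H30.Matlis.applyₗ_bijective f hf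
    (isFiniteLength_tors H n)).2 Λbar
  refine ⟨(h₀ : H), ?_⟩
  ext x
  rw [Φ_apply]
  have h1 : Λbar (ρ (θ (AdicCompletion.of (maximalIdeal A) X x))) =
      (ρ (θ (AdicCompletion.of (maximalIdeal A) X x))) h₀ := by
    rw [← hh₀]
    rfl
  have h2 : (ρ (θ (AdicCompletion.of (maximalIdeal A) X x))) h₀ =
      θ (AdicCompletion.of (maximalIdeal A) X x) (h₀ : H) := rfl
  rw [← h2, ← h1, hΛbar, hΛof]

include θ hf in
/-- **duality transfer**: `X^ ≃ Hom(H, E)` (only `A`-linear) gives `H ≃ Hom(X, E)` -/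
theorem nonempty_equiv [IsArtinian A H] [Module.Finite A X] :
    Nonempty (H ≃ₗ[A] (X →ₗ[A] E)) :=
  ⟨LinearEquiv.ofBijective (Φ θ) ⟨Φ_injective θ f hf, Φ_surjective θ f hf⟩⟩

end Transfer

end Groth.Agent.H2.LDNC
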