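import Groth.Agent.H30.Matlis
import Groth.Agent.H9.InjHullLocal
import Mathlib.RingTheory.Ideal.KrullsHeightTheorem
import Mathlib.RingTheory.HopkinsLevitzki
import Mathlib.RingTheory.AdicCompletion.Algebra

set_option autoImplicit false
set_option linter.unusedSectionVars false
set_option linter.unusedSimpArgs false
universe u

namespace Groth.Agent.H2.MatlisEnd

open IsLocalRing

variable {R : Type u} [CommRing R] [IsLocalRing R] [IsNoetherianRing R]

/-- `R ⧸ 𝔪^n` has finite length over a Noetherian local ring. -/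
lemma isFiniteLength_quotient_pow (n : ℕ) :
    IsFiniteLength R (R ⧸ (maximalIdeal R) ^ n) := by
  rcases Nat.eq_zero_or_pos n with rfl | hn
  · have : Subsingleton (R ⧸ (maximalIdeal R) ^ 0) := by
      rw [pow_zero, Ideal.one_eq_top]
      exact Ideal.Quotient.subsingleton_iff.mpr rfl
    exact IsFiniteLength.of_subsingleton
  · have hp : maximalIdeal R ∈ ((maximalIdeal R) ^ n).minimalPrimes := by
      refine ⟨⟨inferInstance, Ideal.pow_le_self hn.ne'⟩, fun q hq _ => ?_⟩
      exact hq.1.le_of_pow_le hq.2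
    have hA : IsArtinianRing (R ⧸ (maximalIdeal R) ^ n) :=
      IsLocalRing.quotient_artinian_of_mem_minimalPrimes_of_isLocalRing _ hp
    have : IsArtinian R (R ⧸ (maximalIdeal R) ^ n) :=
      isArtinian_of_surjective_algebraMap (R := R ⧸ (maximalIdeal R) ^ n)
        (S := R) Ideal.Quotient.mk_surjective
    exact isFiniteLength_iff_isNoetherian_isArtinian.mpr ⟨inferInstance, this⟩

variable {E : Type u} [AddCommGroup E] [Module R E]
variable (f : ResidueField R →ₗ[R] E) (hf : InjHull.IsInjectiveHull f)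

/-- the `𝔪^n`-torsion of `E` -/
abbrev tors (E : Type u) [AddCommGroup E] [Module R E] (n : ℕ) : Submodule R E :=
  Submodule.torsionBySet R E ((maximalIdeal R) ^ n : Ideal R)

lemma mem_tors {n : ℕ} {x : E} : x ∈ tors (R := R) E n ↔ ∀ a ∈ (maximalIdeal R) ^ n, a • x = 0 := by
  simp [tors, Submodule.mem_torsionBySet_iff]

lemma tors_mono {m n : ℕ} (h : m ≤ n) : tors (R := R) E m ≤ tors E n := by
  intro x hx
  rw [mem_tors] at hx ⊢
  exact fun a ha => hx a (Ideal.pow_le_pow_right h ha)

/-- the evaluation map `R/𝔪^n → E` at an element of `E_n` -/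
noncomputable def evalTors {n : ℕ} (x : E) (hx : x ∈ tors (R := R) E n) :
    (R ⧸ (maximalIdeal R) ^ n) →ₗ[R] E :=
  Submodule.liftQ _ (LinearMap.toSpanSingleton R E x) (by
    intro a ha
    rw [LinearMap.mem_ker, LinearMap.toSpanSingleton_apply]
    exact mem_tors.mp hx a ha)

lemma evalTors_mk {n : ℕ} (x : E) (hx : x ∈ tors (R := R) E n) (a : R) :
    evalTors x hx (Ideal.Quotient.mk _ a) = a • x := by
  simp [evalTors, LinearMap.toSpanSingleton_apply]
  rfl

lemma apply_one_mem_tors {n : ℕ} (ψ : (R ⧸ (maximalIdeal R) ^ n) →ₗ[R] E) :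
    ψ 1 ∈ tors (R := R) E n := by
  rw [mem_tors]
  intro a ha
  rw [← map_smul]
  have : a • (1 : R ⧸ (maximalIdeal R) ^ n) = 0 := by
    rw [Algebra.smul_def, mul_one]
    exact Ideal.Quotient.eq_zero_iff_mem.mpr ha
  rw [this, map_zero]

include hf in
/-- every endomorphism of `E` acts on `E_n` by a scalar -/
lemma exists_smul_on_tors (φ : Module.End R E) (n : ℕ) :
    ∃ a : R, ∀ x ∈ tors (R := R) E n, φ x = a • x := by
  have hbij := Groth.Agent.H30.Matlis.applyₗ_bijective f hf
    (M := R ⧸ (maximalIdeal R) ^ n) (isFiniteLength_quotient_pow n)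
  let Λ : ((R ⧸ (maximalIdeal R) ^ n) →ₗ[R] E) →ₗ[R] E :=
    φ ∘ₗ (LinearMap.applyₗ (1 : R ⧸ (maximalIdeal R) ^ n))
  obtain ⟨m, hm⟩ := hbij.2 Λ
  obtain ⟨a, rfl⟩ := Ideal.Quotient.mk_surjective m
  refine ⟨a, fun x hx => ?_⟩
  have := LinearMap.congr_fun hm (evalTors x hx)
  simp only [LinearMap.applyₗ_apply_apply, Λ, LinearMap.comp_apply] at this
  rw [evalTors_mk] at this
  have h1 : evalTors x hx (1 : R ⧸ (maximalIdeal R) ^ n) = x := by
    have := evalTors_mk x hx (1 : R)
    simpa using this
  rw [h1] at this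
  exact this.symm

include hf in
/-- a scalar killing `E_n` lies in `𝔪^n` -/
lemma mem_pow_of_smul_tors_eq_zero (a : R) (n : ℕ)
    (h : ∀ x ∈ tors (R := R) E n, a • x = 0) : a ∈ (maximalIdeal R) ^ n := by
  have hinj := Groth.Agent.H30.Matlis.applyₗ_injective f hf (R ⧸ (maximalIdeal R) ^ n)
  rw [← Ideal.Quotient.eq_zero_iff_mem]
  apply hinj
  rw [map_zero]
  ext ψ
  simp only [LinearMap.applyₗ_apply_apply, LinearMap.zero_apply]
  have : (Ideal.Quotient.mk ((maximalIdeal R) ^ n) a) = a • 1 := by
    rw [Algebra.smul_def, mul_one]; rfl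
  rw [this, map_smul]
  exact h _ (apply_one_mem_tors ψ)

include hf in
lemma iSup_tors_eq_top : ∀ x : E, ∃ n, x ∈ tors (R := R) E n := by
  intro x
  obtain ⟨n, hn⟩ := Groth.Agent.H9.isPowerTorsion_of_isEssentialInj f hf.toIsEssentialInj x
  exact ⟨n, mem_tors.mpr hn⟩


/-- the scalar (mod `𝔪^n`) by which `φ` acts on `E_n` -/
noncomputable def scal (φ : Module.End R E) (n : ℕ) : R ⧸ (maximalIdeal R) ^ n :=
  Ideal.Quotient.mk _ (exists_smul_on_tors f hf φ n).choose

include hf in
lemma scal_eq (φ : Module.End R E) (n : ℕ) (a : R)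
    (h : ∀ x ∈ tors (R := R) E n, φ x = a • x) :
    scal f hf φ n = Ideal.Quotient.mk _ a := by
  have h' := (exists_smul_on_tors f hf φ n).choose_spec
  rw [scal, Ideal.Quotient.eq]
  apply mem_pow_of_smul_tors_eq_zero f hf
  intro x hx
  rw [sub_smul, ← h x hx, ← h' x hx, sub_self]

lemma scal_spec (φ : Module.End R E) (n : ℕ) (a : R)
    (h : scal f hf φ n = Ideal.Quotient.mk _ a) :
    ∀ x ∈ tors (R := R) E n, φ x = a • x := by
  intro x hx
  have h' := (exists_smul_on_tors f hf φ n).choose_spec x hx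
  rw [scal, Ideal.Quotient.eq] at h
  have := mem_tors.mp hx _ h
  rw [sub_smul, sub_eq_zero] at this
  rw [h', this]

/-- the ring homomorphism `End(E) → R/𝔪^n` -/
noncomputable def scalHom (n : ℕ) : Module.End R E →+* R ⧸ (maximalIdeal R) ^ n where
  toFun φ := scal f hf φ n
  map_one' := by
    rw [scal_eq f hf 1 n 1 (fun x _ => by simp), map_one]
  map_mul' φ ψ := by
    obtain ⟨a, ha⟩ := Ideal.Quotient.mk_surjective (scal f hf φ n)
    obtain ⟨b, hb⟩ := Ideal.Quotient.mk_surjective (scal f hf ψ n)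
    rw [← ha, ← hb, ← map_mul]
    apply scal_eq f hf
    intro x hx
    rw [Module.End.mul_apply, scal_spec f hf ψ n b hb.symm x hx, map_smul,
      scal_spec f hf φ n a ha.symm x hx, mul_comm, mul_smul]
  map_zero' := by
    rw [scal_eq f hf 0 n 0 (fun x _ => by simp), map_zero]
  map_add' φ ψ := by
    obtain ⟨a, ha⟩ := Ideal.Quotient.mk_surjective (scal f hf φ n)
    obtain ⟨b, hb⟩ := Ideal.Quotient.mk_surjective (scal f hf ψ n)
    rw [← ha, ← hb, ← map_add]
    apply scal_eq f hf
    intro x hx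
    rw [LinearMap.add_apply, scal_spec f hf ψ n b hb.symm x hx,
      scal_spec f hf φ n a ha.symm x hx, add_smul]

lemma scalHom_apply (n : ℕ) (φ : Module.End R E) : scalHom f hf n φ = scal f hf φ n := rfl

lemma scalHom_compat {m n : ℕ} (hle : m ≤ n) :
    (Ideal.Quotient.factorPow (maximalIdeal R) hle).comp (scalHom f hf n) = scalHom f hf m := by
  ext φ
  simp only [RingHom.comp_apply, scalHom_apply]
  obtain ⟨a, ha⟩ := Ideal.Quotient.mk_surjective (scal f hf φ n)
  rw [← ha]
  symm
  rw [Ideal.Quotient.factorPow, Ideal.Quotient.factor_mk]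
  apply scal_eq f hf
  intro x hx
  exact scal_spec f hf φ n a ha.symm x (tors_mono hle hx)

/-- the comparison map `End(E) → R^` -/
noncomputable def toCompletion : Module.End R E →+* AdicCompletion (maximalIdeal R) R :=
  AdicCompletion.liftRingHom (maximalIdeal R) (scalHom f hf) (fun hle => scalHom_compat f hf hle)

lemma evalₐ_toCompletion (n : ℕ) (φ : Module.End R E) :
    AdicCompletion.evalₐ (maximalIdeal R) n (toCompletion f hf φ) = scal f hf φ n := by
  rw [toCompletion, AdicCompletion.evalₐ_liftRingHom]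
  rfl

lemma toCompletion_injective : Function.Injective (toCompletion f hf) := by
  rw [injective_iff_map_eq_zero]
  intro φ hφ
  ext x
  obtain ⟨n, hn⟩ := iSup_tors_eq_top f hf x
  have h1 : scal f hf φ n = Ideal.Quotient.mk _ 0 := by
    rw [← evalₐ_toCompletion, hφ, map_zero, map_zero]
  rw [scal_spec f hf φ n 0 h1 x hn, zero_smul, LinearMap.zero_apply]

lemma toCompletion_algebraMap (r : R) :
    toCompletion f hf (algebraMap R (Module.End R E) r) = algebraMap R _ r := by
  apply AdicCompletion.ext_evalₐ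
  intro n
  rw [evalₐ_toCompletion, AlgHom.commutes]
  apply scal_eq f hf
  intro x _
  simp [Module.algebraMap_end_apply]


lemma cauchy_smul_eq (a : AdicCompletion.AdicCauchySequence (maximalIdeal R) R) {m n : ℕ} (hmn : m ≤ n)
    (x : E) (hx : x ∈ tors (R := R) E m) : a n • x = a m • x := by
  have h1 := a.property hmn
  rw [SModEq.sub_mem] at h1
  have h2 : a m - a n ∈ (maximalIdeal R) ^ m := by
    have : ((maximalIdeal R) ^ m • ⊤ : Submodule R R) = (maximalIdeal R) ^ m := by
      simp
    rw [this] at h1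
    exact h1
  have := mem_tors.mp hx _ h2
  rw [sub_smul, sub_eq_zero] at this
  exact this.symm

open Classical in
/-- the endomorphism of `E` attached to a Cauchy sequence -/
noncomputable def endOfCauchy (a : AdicCompletion.AdicCauchySequence (maximalIdeal R) R) : Module.End R E where
  toFun x := a (Nat.find (iSup_tors_eq_top f hf x)) • x
  map_add' x y := by
    set nx := Nat.find (iSup_tors_eq_top f hf x)
    set ny := Nat.find (iSup_tors_eq_top f hf y)
    set nxy := Nat.find (iSup_tors_eq_top f hf (x + y))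
    have hx : x ∈ tors (R := R) E nx := Nat.find_spec (iSup_tors_eq_top f hf x)
    have hy : y ∈ tors (R := R) E ny := Nat.find_spec (iSup_tors_eq_top f hf y)
    have hxy : x + y ∈ tors (R := R) E nxy := Nat.find_spec (iSup_tors_eq_top f hf (x + y))
    have hx' : x ∈ tors (R := R) E (max nx ny) := tors_mono (le_max_left _ _) hx
    have hy' : y ∈ tors (R := R) E (max nx ny) := tors_mono (le_max_right _ _) hy
    have hle : nxy ≤ max nx ny := Nat.find_min' _ (add_mem hx' hy')
    rw [← cauchy_smul_eq a hle _ hxy, smul_add, cauchy_smul_eq a (le_max_left _ _) x hx,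
      cauchy_smul_eq a (le_max_right _ _) y hy]
  map_smul' r x := by
    set nx := Nat.find (iSup_tors_eq_top f hf x)
    set nrx := Nat.find (iSup_tors_eq_top f hf (r • x))
    have hx : x ∈ tors (R := R) E nx := Nat.find_spec (iSup_tors_eq_top f hf x)
    have hrx : r • x ∈ tors (R := R) E nrx := Nat.find_spec (iSup_tors_eq_top f hf (r • x))
    have hle : nrx ≤ nx := Nat.find_min' _ (Submodule.smul_mem _ r hx)
    rw [RingHom.id_apply, ← cauchy_smul_eq a hle _ hrx, smul_comm]

lemma endOfCauchy_apply (a : AdicCompletion.AdicCauchySequence (maximalIdeal R) R) (n : ℕ) (x : E)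
    (hx : x ∈ tors (R := R) E n) : endOfCauchy f hf a x = a n • x := by
  classical
  have hle : Nat.find (iSup_tors_eq_top f hf x) ≤ n := Nat.find_min' _ hx
  have h0 : x ∈ tors (R := R) E (Nat.find (iSup_tors_eq_top f hf x)) :=
    Nat.find_spec (iSup_tors_eq_top f hf x)
  rw [cauchy_smul_eq a hle x h0]
  rfl

lemma toCompletion_surjective : Function.Surjective (toCompletion f hf) := by
  intro y
  obtain ⟨a, rfl⟩ := AdicCompletion.mk_surjective (maximalIdeal R) R y
  refine ⟨endOfCauchy f hf a, ?_⟩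
  apply AdicCompletion.ext_evalₐ
  intro n
  rw [evalₐ_toCompletion, AdicCompletion.evalₐ_mk]
  apply scal_eq f hf
  intro x hx
  exact endOfCauchy_apply f hf a n x hx

/-- **Matlis**: `End_R(E(k)) ≃ R^` as `R`-algebras. -/
noncomputable def endEquivCompletion :
    Module.End R E ≃ₐ[R] AdicCompletion (maximalIdeal R) R :=
  AlgEquiv.ofBijective
    { toRingHom := toCompletion f hf
      commutes' := toCompletion_algebraMap f hf }
    ⟨toCompletion_injective f hf, toCompletion_surjective f hf⟩

end Groth.Agent.H2.MatlisEnd
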