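import Groth.Agent.H2.UnivInj
import Mathlib.RingTheory.FiniteType
import Mathlib.RingTheory.FinitePresentation

set_option autoImplicit false
universe u
open scoped TensorProduct

namespace Groth.Agent.H2

variable {R S : Type u} [CommRing R] [CommRing S] [Algebra R S]

theorem UnivInjective.finiteType_of_finiteType_tensor (h : Pi1.UnivInjective R S)
    (A : Type u) [CommRing A] [Algebra R A] [Algebra.FiniteType S (S ⊗[R] A)] :
    Algebra.FiniteType R A := by
  obtain ⟨s, hs⟩ := (Algebra.FiniteType.out : (⊤ : Subalgebra S (S ⊗[R] A)).FG)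
  obtain ⟨N', hN', hsub⟩ :=
    TensorProduct.exists_finite_submodule_right_of_setFinite (s : Set (S ⊗[R] A)) s.finite_toSet
  obtain ⟨t, ht⟩ := Module.Finite.iff_fg.mp hN'
  let A' : Subalgebra R A := Algebra.adjoin R (t : Set A)
  have hN'A' : N' ≤ Subalgebra.toSubmodule A' := by
    rw [← ht, Submodule.span_le]
    exact Algebra.subset_adjoin
  -- the base change of the inclusion is surjective
  let φ : S ⊗[R] A' →ₐ[S] S ⊗[R] A := Algebra.TensorProduct.map (AlgHom.id S S) A'.val
  have e1 : ∀ y : S ⊗[R] N', φ (LinearMap.lTensor S (Submodule.inclusion hN'A') y) =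
      LinearMap.lTensor S N'.subtype y := by
    intro y
    induction y using TensorProduct.induction_on with
    | zero => simp
    | tmul a b => rfl
    | add a b ha hb => simp only [map_add, ha, hb]
  have e2 : ∀ y : S ⊗[R] A', (Subalgebra.toSubmodule A').subtype.lTensor S y = φ y := by
    intro y
    induction y using TensorProduct.induction_on with
    | zero => simp
    | tmul a b => rfl
    | add a b ha hb => simp only [map_add, ha, hb]
  have hφtop : φ.range = ⊤ := by
    rw [eq_top_iff, ← hs, Algebra.adjoin_le_iff]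
    intro x hx
    obtain ⟨y, hy⟩ := hsub hx
    exact ⟨LinearMap.lTensor S (Submodule.inclusion hN'A') y, (e1 y).trans hy⟩
  have hsurj : Function.Surjective ((Subalgebra.toSubmodule A').subtype.lTensor S) := by
    intro x
    have hx : x ∈ φ.range := by rw [hφtop]; trivial
    obtain ⟨y, hy⟩ := hx
    exact ⟨y, (e2 y).trans hy⟩
  have htop := UnivInjective.eq_top_of_lTensor_surjective h A (Subalgebra.toSubmodule A') hsurj
  have : A' = ⊤ := by
    apply Subalgebra.toSubmodule_injective
    rw [htop, Algebra.top_toSubmodule]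
  exact ⟨⟨t, this⟩⟩

/-- Key lemma, algebra form: if `π : P → A` is a surjective algebra map and the kernel of its base
change to `S` is a finitely generated ideal, then the kernel of `π` is a finitely generated ideal. -/
theorem UnivInjective.fg_ker_of_fg_ker_tensor (h : Pi1.UnivInjective R S)
    {P A : Type u} [CommRing P] [Algebra R P] [CommRing A] [Algebra R A]
    (π : P →ₐ[R] A) (hπ : Function.Surjective π)
    (hK' : (RingHom.ker (Algebra.TensorProduct.map (AlgHom.id S S) π).toRingHom).FG) :
    (RingHom.ker π.toRingHom).FG := by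
  classical
  set Φ : S ⊗[R] P →ₐ[S] S ⊗[R] A := Algebra.TensorProduct.map (AlgHom.id S S) π with hPhi
  have eΦ : ∀ y : S ⊗[R] P, π.toLinearMap.lTensor S y = Φ y := by
    intro y
    induction y using TensorProduct.induction_on with
    | zero => simp
    | tmul a b => rfl
    | add a b ha hb => simp only [map_add, ha, hb]
  set K : Submodule R P := LinearMap.ker π.toLinearMap with hK
  have hex : Function.Exact (K.subtype.lTensor S) (π.toLinearMap.lTensor S) :=
    lTensor_exact S (LinearMap.exact_subtype_ker_map π.toLinearMap) hπ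
  obtain ⟨gens, hgens⟩ := hK'
  have hlift : ∀ g ∈ gens, ∃ y : S ⊗[R] K, K.subtype.lTensor S y = g := by
    intro g hg
    have hg' : g ∈ RingHom.ker Φ.toRingHom := by
      rw [← hgens]; exact Ideal.subset_span hg
    have : π.toLinearMap.lTensor S g = 0 := by
      rw [eΦ]; exact hg'
    exact (hex g).mp this
  choose! lift hliftspec using hlift
  obtain ⟨K₁, hK₁fin, hK₁⟩ :=
    TensorProduct.exists_finite_submodule_right_of_setFinite
      ((gens.image lift : Finset (S ⊗[R] K)) : Set (S ⊗[R] K)) (Finset.finite_toSet _)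
  obtain ⟨t, ht⟩ := Module.Finite.iff_fg.mp hK₁fin
  -- the ideal generated by the image of `K₁` in `P`
  let I₁ : Ideal P := Ideal.span ((fun x : K => (x : P)) '' (t : Set K))
  have hI₁fg : I₁.FG := ⟨(t.image (fun x : K => (x : P))), by simp [I₁]⟩
  have hK₁I₁ : ∀ x : K₁, ((x : K) : P) ∈ I₁ := by
    intro x
    have hx : (x : K) ∈ Submodule.span R (t : Set K) := by rw [ht]; exact x.2
    have : (K.subtype (x : K)) ∈ (Submodule.span R (t : Set K)).map K.subtype :=
      ⟨_, hx, rfl⟩
    rw [Submodule.map_span] at this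
    have hle : Submodule.span R (K.subtype '' (t : Set K)) ≤ I₁.restrictScalars R := by
      rw [Submodule.span_le]
      intro y hy
      exact Ideal.subset_span hy
    exact hle this
  have hI₁le : I₁ ≤ RingHom.ker π.toRingHom := by
    rw [Ideal.span_le]
    rintro _ ⟨x, -, rfl⟩
    exact x.2
  let q : P →ₐ[R] P ⧸ I₁ := Ideal.Quotient.mkₐ R I₁
  let Q : S ⊗[R] P →ₐ[S] S ⊗[R] (P ⧸ I₁) := Algebra.TensorProduct.map (AlgHom.id S S) q
  have eQ : ∀ y : S ⊗[R] P, q.toLinearMap.lTensor S y = Q y := by
    intro y
    induction y using TensorProduct.induction_on with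
    | zero => simp
    | tmul a b => rfl
    | add a b ha hb => simp only [map_add, ha, hb]
  have hqK₁ : q.toLinearMap ∘ₗ K.subtype ∘ₗ K₁.subtype = 0 := by
    ext x
    simp only [LinearMap.coe_comp, Function.comp_apply, Submodule.coe_subtype,
      LinearMap.zero_apply, AlgHom.toLinearMap_apply, q, Ideal.Quotient.mkₐ_eq_mk]
    exact Ideal.Quotient.eq_zero_iff_mem.mpr (hK₁I₁ x)
  have hkill : RingHom.ker Φ.toRingHom ≤ RingHom.ker Q.toRingHom := by
    rw [← hgens, Ideal.span_le]
    intro g hg
    have h1 : lift g ∈ LinearMap.range (K₁.subtype.lTensor S) :=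
      hK₁ (by simp only [Finset.coe_image]; exact ⟨g, hg, rfl⟩)
    obtain ⟨z, hz⟩ := h1
    have h2 : g = (K.subtype ∘ₗ K₁.subtype).lTensor S z := by
      rw [LinearMap.lTensor_comp, LinearMap.comp_apply, hz, hliftspec g hg]
    change Q g = 0
    rw [← eQ, h2, ← LinearMap.comp_apply, ← LinearMap.lTensor_comp,
      hqK₁, LinearMap.lTensor_zero, LinearMap.zero_apply]
  have hle : RingHom.ker π.toRingHom ≤ I₁ := by
    intro k hk
    have hk' : π k = 0 := hk
    have h1 : (1 : S) ⊗ₜ[R] k ∈ RingHom.ker Φ.toRingHom := by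
      change Φ ((1 : S) ⊗ₜ[R] k) = 0
      simp only [hPhi, Algebra.TensorProduct.map_tmul, hk', TensorProduct.tmul_zero]
    have h2 : Q ((1 : S) ⊗ₜ[R] k) = 0 := hkill h1
    simp only [Q, Algebra.TensorProduct.map_tmul] at h2
    have h3 : q k = 0 := by
      apply UnivInjective.injective_one_tmul h (P ⧸ I₁)
      simp only [TensorProduct.tmul_zero]
      simpa using h2
    exact Ideal.Quotient.eq_zero_iff_mem.mp (by simpa [q] using h3)
  rw [show RingHom.ker π.toRingHom = I₁ from le_antisymm hle hI₁le]
  exact hI₁fg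

theorem UnivInjective.finitePresentation_of_finitePresentation_algebra_tensor
    (h : Pi1.UnivInjective R S)
    (A : Type u) [CommRing A] [Algebra R A] [Algebra.FinitePresentation S (S ⊗[R] A)] :
    Algebra.FinitePresentation R A := by
  have hft : Algebra.FiniteType R A := UnivInjective.finiteType_of_finiteType_tensor h A
  obtain ⟨n, π, hπ⟩ := Algebra.FiniteType.iff_quotient_mvPolynomial''.mp hft
  let Φ : S ⊗[R] MvPolynomial (Fin n) R →ₐ[S] S ⊗[R] A :=
    Algebra.TensorProduct.map (AlgHom.id S S) π
  have hPhi : Function.Surjective Φ :=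
    Algebra.TensorProduct.map_surjective _ _ Function.surjective_id hπ
  have hK' : (RingHom.ker Φ.toRingHom).FG :=
    Algebra.FinitePresentation.ker_fG_of_surjective Φ hPhi
  exact ⟨n, π, hπ, UnivInjective.fg_ker_of_fg_ker_tensor h π hπ hK'⟩

end Groth.Agent.H2
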