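import Groth.Agent.H2.PureFlat
import Groth.Agent.H2.UnivInjAlg
import Mathlib.RingTheory.Smooth.Fiber
import Mathlib.RingTheory.Smooth.Flat
import Mathlib.RingTheory.Kaehler.TensorProduct
import Mathlib.RingTheory.Etale.Basic

set_option autoImplicit false
universe u
open scoped TensorProduct

namespace Groth.Agent.H2

variable {R S : Type u} [CommRing R] [CommRing S] [Algebra R S]

/-- Formally unramified descends along universally injective ring maps. -/
theorem UnivInjective.formallyUnramified_of_tensor (h : Pi1.UnivInjective R S)
    (A : Type u) [CommRing A] [Algebra R A] [Algebra.FormallyUnramified S (S ⊗[R] A)] :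
    Algebra.FormallyUnramified R A := by
  constructor
  let _ : Algebra A (S ⊗[R] A) := Algebra.TensorProduct.rightAlgebra
  have : Subsingleton (S ⊗[R] Ω[A⁄R]) :=
    (KaehlerDifferential.tensorKaehlerEquivBase R S A (S ⊗[R] A)).subsingleton
  exact UnivInjective.subsingleton_of_tensor h _

/-- Étale descends along universally injective ring maps. -/
theorem UnivInjective.etale_of_tensor (h : Pi1.UnivInjective R S)
    (A : Type u) [CommRing A] [Algebra R A] [Algebra.Etale S (S ⊗[R] A)] :
    Algebra.Etale R A := by
  have h1 : Algebra.FinitePresentation R A :=
    UnivInjective.finitePresentation_of_finitePresentation_algebra_tensor h A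
  have h2 : Module.Flat R A := UnivInjective.flat_of_flat_tensor h A
  have h3 : Algebra.FormallyUnramified R A := UnivInjective.formallyUnramified_of_tensor h A
  exact Algebra.Etale.of_formallyUnramified_of_flat

end Groth.Agent.H2
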