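import Groth.Agent.H2.UnivInj
import Mathlib.Algebra.Module.CharacterModule
import Mathlib.RingTheory.Flat.Basic

set_option autoImplicit false
universe u
open scoped TensorProduct
open Function (Injective Surjective)

namespace Groth.Agent.H2

variable {R S : Type u} [CommRing R] [CommRing S] [Algebra R S]

/-- For a universally injective `R → S`, the restriction `C(S) → C(R)` of character modules has an
`R`-linear section. -/
theorem UnivInjective.exists_section_characterModule (h : Pi1.UnivInjective R S) :
    ∃ σ : CharacterModule R →ₗ[R] CharacterModule S,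
      ∀ (c : CharacterModule R) (r : R), σ c (algebraMap R S r) = c r := by
  have hinj := h (CharacterModule R)
  let ev : CharacterModule (CharacterModule R ⊗[R] R) :=
    CharacterModule.uncurry (LinearMap.id : CharacterModule R →ₗ[R] CharacterModule R)
  obtain ⟨E, hE⟩ := CharacterModule.dual_surjective_of_injective _ hinj ev
  refine ⟨CharacterModule.curry E, fun c r => ?_⟩
  have := congrArg (fun φ : CharacterModule (CharacterModule R ⊗[R] R) => φ (c ⊗ₜ[R] r)) hE
  change E ((LinearMap.lTensor (CharacterModule R) (Algebra.linearMap R S)) (c ⊗ₜ[R] r)) =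
    ev (c ⊗ₜ[R] r) at this
  rw [LinearMap.lTensor_tmul, Algebra.linearMap_apply] at this
  change E (c ⊗ₜ[R] algebraMap R S r) = c r
  rw [this]
  rfl

/-- If a character `c` of `R` vanishes on `I`, then `σ c` vanishes on `IS`, for any `R`-linear
`σ : C(R) → C(S)`. -/
theorem sigma_vanish_on_map (σ : CharacterModule R →ₗ[R] CharacterModule S) (I : Ideal R)
    (c : CharacterModule R) (hc : ∀ a ∈ I, c a = 0) :
    ∀ t ∈ I.map (algebraMap R S), σ c t = 0 := by
  intro t ht
  suffices hh : ∀ s' : S, σ c (s' * t) = 0 by simpa using hh 1
  refine Submodule.span_induction (p := fun t _ => ∀ s' : S, σ c (s' * t) = 0) ?_ ?_ ?_ ?_ ht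
  · rintro _ ⟨a, ha, rfl⟩ s'
    have h1 : s' * algebraMap R S a = a • s' := by rw [Algebra.smul_def, mul_comm]
    rw [h1, ← CharacterModule.smul_apply, ← map_smul]
    have h2 : a • c = 0 := by
      ext r
      rw [CharacterModule.smul_apply, smul_eq_mul]
      exact hc _ (I.mul_mem_right r ha)
    rw [h2, map_zero]
    rfl
  · intro s'
    rw [mul_zero, map_zero]
  · intro x y _ _ hx hy s'
    rw [mul_add, map_add, hx, hy, add_zero]
  · intro s'' x _ hx s'
    rw [smul_eq_mul, ← mul_assoc]
    exact hx _

/-- The natural `R`-linear map `I → IS`. -/
def idealToMap (I : Ideal R) : I →ₗ[R] (I.map (algebraMap R S) : Ideal S) where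
  toFun a := ⟨algebraMap R S a, Ideal.mem_map_of_mem _ a.2⟩
  map_add' a b := by
    apply Subtype.ext
    simp
  map_smul' r a := by
    apply Subtype.ext
    simp [Algebra.smul_def]

@[simp]
theorem idealToMap_apply_coe (I : Ideal R) (a : I) :
    ((idealToMap (S := S) I a : (I.map (algebraMap R S) : Ideal S)) : S) = algebraMap R S a := rfl

/-- For a universally injective `R → S` and any ideal `I` of `R`, the map `I → IS` is universally
injective. -/
theorem UnivInjective.rTensor_idealToMap_injective (h : Pi1.UnivInjective R S) (I : Ideal R)
    (M : Type u) [AddCommGroup M] [Module R M] :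
    Injective ((idealToMap (S := S) I).rTensor M) := by
  obtain ⟨σ, hσ⟩ := UnivInjective.exists_section_characterModule h
  rw [injective_iff_map_eq_zero]
  intro x hx
  apply CharacterModule.eq_zero_of_character_apply
  intro ψ
  -- `g m a = ψ (a ⊗ m)`
  let g : M →ₗ[R] CharacterModule I :=
    CharacterModule.curry (CharacterModule.dual (TensorProduct.comm R M I).toLinearMap ψ)
  have hg : ∀ (m : M) (a : I), g m a = ψ (a ⊗ₜ[R] m) := fun m a => rfl
  -- extension of characters from `I` to `R`
  have hext : ∀ χ : CharacterModule I, ∃ c : CharacterModule R, ∀ a : I, c a = χ a := by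
    intro χ
    obtain ⟨c, hc⟩ := CharacterModule.dual_surjective_of_injective I.subtype
      (Submodule.injective_subtype I) χ
    exact ⟨c, fun a => congrArg (fun φ : CharacterModule I => φ a) hc⟩
  choose e he using hext
  -- independence of the extension
  have hind : ∀ (χ : CharacterModule I) (c : CharacterModule R), (∀ a : I, c a = χ a) →
      ∀ t ∈ I.map (algebraMap R S), σ c t = σ (e χ) t := by
    intro χ c hc t ht
    have h0 := sigma_vanish_on_map σ I (c - e χ) (by
      intro a ha
      change c a - e χ a = 0
      rw [hc ⟨a, ha⟩, he χ ⟨a, ha⟩, sub_self]) t ht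
    rw [map_sub] at h0
    exact sub_eq_zero.mp h0
  -- the biadditive map
  let f : (I.map (algebraMap R S) : Ideal S) →+ M →+ AddCircle (1 : ℚ) :=
    { toFun := fun t =>
        { toFun := fun m => σ (e (g m)) t
          map_zero' := by
            have := hind (g 0) 0 (fun a => by rw [map_zero]; rfl) t t.2
            rw [← this, map_zero]
            rfl
          map_add' := fun m m' => by
            have := hind (g (m + m')) (e (g m) + e (g m')) (fun a => by
              rw [map_add]
              change e (g m) a + e (g m') a = g m a + g m' a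
              rw [he, he]) t t.2
            rw [← this, map_add]
            rfl }
      map_zero' := by
        ext m
        change σ (e (g m)) ((0 : (I.map (algebraMap R S) : Ideal S)) : S) = 0
        rw [Submodule.coe_zero, map_zero]
      map_add' := fun t t' => by
        ext m
        change σ (e (g m)) ((t + t' : (I.map (algebraMap R S) : Ideal S)) : S) =
          σ (e (g m)) t + σ (e (g m)) t'
        rw [Submodule.coe_add, map_add] }
  have hf : ∀ (r : R) (t : (I.map (algebraMap R S) : Ideal S)) (m : M),
      f (r • t) m = f t (r • m) := by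
    intro r t m
    change σ (e (g m)) ((r • t : (I.map (algebraMap R S) : Ideal S)) : S) = σ (e (g (r • m))) t
    have := hind (g (r • m)) (r • e (g m)) (fun a => by
      rw [map_smul, CharacterModule.smul_apply, CharacterModule.smul_apply]
      exact he (g m) (r • a)) t t.2
    rw [← this, map_smul, CharacterModule.smul_apply]
    rfl
  let Ψ : (I.map (algebraMap R S) : Ideal S) ⊗[R] M →+ AddCircle (1 : ℚ) :=
    TensorProduct.liftAddHom f hf
  have hΨ : ∀ y : I ⊗[R] M, Ψ ((idealToMap (S := S) I).rTensor M y) = ψ y := by
    intro y
    induction y using TensorProduct.induction_on with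
    | zero => simp
    | tmul a m =>
      change σ (e (g m)) (algebraMap R S a) = ψ (a ⊗ₜ[R] m)
      rw [hσ, he, hg]
    | add y z hy hz => rw [map_add, map_add, hy, hz, map_add]
  rw [← hΨ x, hx, map_zero]

/-- If `S ⊗ M` is flat over `S`, then `J ⊗_R M → S ⊗_R M` is injective for every ideal `J` of `S`. -/
theorem rTensor_subtype_injective_of_flat_baseChange (M : Type u) [AddCommGroup M] [Module R M]
    [Module.Flat S (S ⊗[R] M)] (J : Ideal S) :
    Injective ((J.subtype.restrictScalars R).rTensor M) := by
  have h1 : Injective (J.subtype.rTensor (S ⊗[R] M)) :=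
    Module.Flat.rTensor_preserves_injective_linearMap J.subtype (Submodule.injective_subtype J)
  let e1 := TensorProduct.AlgebraTensorModule.cancelBaseChange R S S J M
  let e2 := TensorProduct.AlgebraTensorModule.cancelBaseChange R S S S M
  have hcomm : ∀ x, (J.subtype.restrictScalars R).rTensor M (e1 x) =
      e2 (J.subtype.rTensor (S ⊗[R] M) x) := by
    intro x
    induction x using TensorProduct.induction_on with
    | zero => simp
    | tmul n y =>
      induction y using TensorProduct.induction_on with
      | zero => simp
      | tmul a z => simp [e1, e2]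
      | add y z hy hz => simp only [TensorProduct.tmul_add, map_add, hy, hz]
    | add x y hx hy => simp only [map_add, hx, hy]
  intro x y hxy
  obtain ⟨x', rfl⟩ := e1.surjective x
  obtain ⟨y', rfl⟩ := e1.surjective y
  rw [hcomm, hcomm] at hxy
  rw [h1 (e2.injective hxy)]

/-- Flatness descends along universally injective ring maps. -/
theorem UnivInjective.flat_of_flat_tensor (h : Pi1.UnivInjective R S)
    (M : Type u) [AddCommGroup M] [Module R M] [Module.Flat S (S ⊗[R] M)] : Module.Flat R M := by
  rw [Module.Flat.iff_rTensor_injective']
  intro I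
  rw [injective_iff_map_eq_zero]
  intro x hx
  apply UnivInjective.rTensor_idealToMap_injective (S := S) h I M
  apply rTensor_subtype_injective_of_flat_baseChange (S := S) M (I.map (algebraMap R S))
  rw [map_zero, map_zero]
  have hcomm : ∀ y : I ⊗[R] M,
      ((I.map (algebraMap R S)).subtype.restrictScalars R).rTensor M
        ((idealToMap (S := S) I).rTensor M y) =
      (Algebra.linearMap R S).rTensor M (I.subtype.rTensor M y) := by
    intro y
    induction y using TensorProduct.induction_on with
    | zero => simp
    | tmul a m => rfl
    | add y z hy hz => simp only [map_add, hy, hz]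
  rw [hcomm, hx, map_zero]

end Groth.Agent.H2
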