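import Mathlib
import Groth.Agent.S0342
import Groth.Agent.Lead.RegularGlDim
import Groth.Agent.H2.GorensteinExt
import Groth.Agent.H44.UFDPrincipal

/-!
# Regular local rings of dimension two are factorial  (helper2)
-/

set_option autoImplicit false

namespace Groth.Agent.H2.RegularDim2

universe u

open CategoryTheory Abelian IsLocalRing

section general

variable {A : Type u} [CommRing A] [IsNoetherianRing A]

/-- if `Ext^{n+1}(N, A) = 0` and `Ext^{n+2}(N, -) = 0` then `Ext^{n+1}(N, L) = 0` for finite `L` -/
theorem subsingleton_ext_of_finite (N : ModuleCat.{u} A) (n : ℕ)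
    (h2 : HasProjectiveDimensionLT N (n + 2))
    (h1 : Subsingleton (Ext N (ModuleCat.of A A) (n + 1)))
    (L : Type u) [AddCommGroup L] [Module A L] [hL : Module.Finite A L] :
    Subsingleton (Ext N (ModuleCat.of A L) (n + 1)) := by
  refine IsNoetherianRing.induction_on_isQuotientEquivQuotientPrime A hL
    (motive := fun L _ _ _ => Subsingleton (Ext N (ModuleCat.of A L) (n + 1))) ?_ ?_ ?_
  · intro L _ _ _ _
    refine InjDimResidue.subsingleton_of_forall_eq_zero fun w => ?_
    have h0 : 𝟙 (ModuleCat.of A L) = 0 := by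
      ext a
      exact Subsingleton.elim _ _
    rw [← Ext.comp_mk₀_id w, h0, Ext.mk₀_zero, Ext.comp_zero]
  · intro L _ _ _ p f
    have hS := Groth.Agent.H29.GlDimL.shortExact_of_exact p.asIdeal.subtype
      p.asIdeal.mkQ Subtype.val_injective (Submodule.mkQ_surjective _)
      (LinearMap.exact_subtype_mkQ _)
    have hq : Subsingleton (Ext N (ModuleCat.of A (A ⧸ p.asIdeal)) (n + 1)) := by
      refine InjDimResidue.subsingleton_of_forall_eq_zero fun w => ?_
      have h0 : w.comp hS.extClass (rfl : n + 1 + 1 = n + 2) = 0 :=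
        Ext.eq_zero_of_hasProjectiveDimensionLT _ (n + 2) le_rfl
      obtain ⟨w₂, rfl⟩ := Ext.covariant_sequence_exact₃ _ hS w rfl h0
      rw [Subsingleton.elim w₂ 0, Ext.zero_comp]
    refine InjDimResidue.subsingleton_of_forall_eq_zero fun w => ?_
    have h1 : (w.comp (Ext.mk₀ f.toModuleIso.hom) (add_zero _)).comp
        (Ext.mk₀ f.toModuleIso.inv) (add_zero _) = w := by
      rw [Ext.comp_assoc_of_third_deg_zero, Ext.mk₀_comp_mk₀, f.toModuleIso.hom_inv_id,
        Ext.comp_mk₀_id]
    rw [← h1, Subsingleton.elim (w.comp (Ext.mk₀ f.toModuleIso.hom) (add_zero _)) 0,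
      Ext.zero_comp]
  · intro L₁ _ _ _ L₂ _ _ _ L₃ _ _ _ f g hf hg hfg s1 s3
    have hS := Groth.Agent.H29.GlDimL.shortExact_of_exact f g hf hg hfg
    refine InjDimResidue.subsingleton_of_forall_eq_zero fun w => ?_
    obtain ⟨w₁, rfl⟩ := Ext.covariant_sequence_exact₂ _ hS w (Subsingleton.elim _ _)
    rw [Subsingleton.elim w₁ 0, Ext.zero_comp]

/-- lowering projective dimension using `Ext(N, A)` -/
theorem hasProjectiveDimensionLT_of_ext_self (N : ModuleCat.{u} A) [Module.Finite A N] (n : ℕ)
    (h2 : HasProjectiveDimensionLT N (n + 2))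
    (h1 : Subsingleton (Ext N (ModuleCat.of A A) (n + 1))) :
    HasProjectiveDimensionLT N (n + 1) :=
  ModuleCat.hasProjectiveDimensionLT_of_forall_finite N (n + 1)
    (fun L hL => subsingleton_ext_of_finite N n h2 h1 L)

end general

/-- a free ideal in a domain is principal -/
theorem isPrincipal_of_free {A : Type u} [CommRing A] [IsDomain A] (p : Ideal A)
    [Module.Free A p] : p.IsPrincipal := by
  classical
  let b := Module.Free.chooseBasis A p
  have hsub : Subsingleton (Module.Free.ChooseBasisIndex A p) := by
    refine ⟨fun i j => ?_⟩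
    by_contra hij
    have hrel : ((b j : p) : A) • b i + (-((b i : p) : A)) • b j = 0 := by
      ext
      simp only [Submodule.coe_add, Submodule.coe_smul, smul_eq_mul, Submodule.coe_zero]
      ring
    have h1 := congrArg (fun v => b.repr v i) hrel
    have hji : ¬ j = i := fun h => hij h.symm
    simp [hji] at h1
    exact b.ne_zero j h1
  rcases isEmpty_or_nonempty (Module.Free.ChooseBasisIndex A p) with he | ⟨⟨i⟩⟩
  · have : Subsingleton p := b.repr.toEquiv.subsingleton
    have hbot : p = ⊥ := by
      rw [eq_bot_iff]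
      intro x hx
      have : (⟨x, hx⟩ : p) = 0 := Subsingleton.elim _ _
      exact congrArg Subtype.val this
    rw [hbot]
    exact bot_isPrincipal
  · refine ⟨⟨((b i : p) : A), ?_⟩⟩
    apply le_antisymm
    · intro x hx
      have hmem : (⟨x, hx⟩ : p) ∈ Submodule.span A (Set.range b) := by
        rw [b.span_eq]; trivial
      have hrange : Set.range b = {b i} := by
        ext y
        constructor
        · rintro ⟨j, rfl⟩
          rw [Subsingleton.elim j i]; rfl
        · rintro rfl
          exact ⟨i, rfl⟩
      rw [hrange, Submodule.mem_span_singleton] at hmem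
      obtain ⟨c, hc⟩ := hmem
      rw [Submodule.mem_span_singleton]
      refine ⟨c, ?_⟩
      have := congrArg Subtype.val hc
      simpa using this
    · rw [Submodule.span_singleton_le_iff_mem]
      exact (b i).2


/-- in a regular local ring of dimension two every non-maximal prime is principal -/
theorem isPrincipal_of_prime (A : Type u) [CommRing A] [IsRegularLocalRing A]
    (hdim : ringKrullDim A = 2) (p : Ideal A) [hp : p.IsPrime] (hpm : p ≠ maximalIdeal A) :
    p.IsPrincipal := by
  have : IsDomain A := Groth.Agent.Lead.RLR.isDomain A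
  have : LocCoh.IsGorensteinLocalRing A := Groth.Agent.S0342.result A
  obtain ⟨x, hxm, hxp⟩ := SetLike.exists_of_lt
    (lt_of_le_of_ne (IsLocalRing.le_maximalIdeal hp.ne_top) hpm)
  have hreg : IsSMulRegular (A ⧸ p) x := by
    intro a b hab
    simp only [Algebra.smul_def, Ideal.Quotient.algebraMap_eq] at hab
    refine mul_left_cancel₀ ?_ hab
    rwa [Ne, Ideal.Quotient.eq_zero_iff_mem]
  have hlt := GorensteinCM.hasInjectiveDimensionLT_of_ringKrullDim A 2 (by exact_mod_cast hdim)
  have hext : Subsingleton (Ext (ModuleCat.of A (A ⧸ p)) (ModuleCat.of A A) 2) :=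
    GorensteinExt.subsingleton_ext_of_quotSMulTop (ModuleCat.of A (A ⧸ p)) (ModuleCat.of A A)
      x hxm hreg 2
      (HasInjectiveDimensionLT.subsingleton (ModuleCat.of A A) (2 + 1) (2 + 1) le_rfl _)
  have hpd3 : HasProjectiveDimensionLT (ModuleCat.of A (A ⧸ p)) (1 + 2) :=
    Groth.Agent.Lead.RLR.hasProjectiveDimensionLT A 2 (by exact_mod_cast hdim) _
  have hpd2 : HasProjectiveDimensionLT (ModuleCat.of A (A ⧸ p)) (1 + 1) :=
    hasProjectiveDimensionLT_of_ext_self (ModuleCat.of A (A ⧸ p)) 1 hpd3 hext
  have hS := Groth.Agent.H29.GlDimL.shortExact_of_exact p.subtype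
      p.mkQ Subtype.val_injective (Submodule.mkQ_surjective _)
      (LinearMap.exact_subtype_mkQ _)
  have hprojA : Projective (ModuleCat.of A A) := ModuleCat.projective_of_categoryTheory_projective _
  have hpd1 : HasProjectiveDimensionLT (ModuleCat.of A p) 1 :=
    hS.hasProjectiveDimensionLT_X₁ 1 inferInstance hpd2
  have hproj : Projective (ModuleCat.of A p) := inferInstance
  have hproj' : Module.Projective A p := (IsProjective.iff_projective p).mpr hproj
  have : Module.Free A p := Module.free_of_flat_of_isLocalRing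
  exact isPrincipal_of_free p


/-- a regular local ring of dimension two is factorial -/
theorem uniqueFactorizationMonoid (A : Type u) [CommRing A] [IsRegularLocalRing A]
    (hdim : ringKrullDim A = 2) :
    haveI : IsDomain A := Groth.Agent.Lead.RLR.isDomain A
    UniqueFactorizationMonoid A := by
  haveI : IsDomain A := Groth.Agent.Lead.RLR.isDomain A
  apply UniqueFactorizationMonoid.of_forall_isPrincipal_of_height_eq_one
  intro p hp hht
  apply isPrincipal_of_prime A hdim p
  rintro rfl
  have h := IsLocalRing.maximalIdeal_height_eq_ringKrullDim (R := A)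
  rw [hht, hdim] at h
  exact absurd h (by decide)

end Groth.Agent.H2.RegularDim2
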