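import Mathlib.FieldTheory.IsSepClosed
import Mathlib.FieldTheory.IsAlgClosed.Basic
import Mathlib.RingTheory.IntegralClosure.IntegrallyClosed
import Mathlib.RingTheory.Polynomial.ScaleRoots
import Mathlib.Algebra.Polynomial.Lifts
import Mathlib.RingTheory.Localization.Integer
import Mathlib.RingTheory.LocalRing.ResidueField.Ideal
import Mathlib.RingTheory.Henselian

set_option autoImplicit false
universe u
open Polynomial

namespace Groth.Agent.H2

/-- Over a separably closed field, a polynomial with nonzero derivative has a root. -/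
theorem exists_root_of_derivative_ne_zero {F : Type u} [Field F] [IsSepClosed F] :
    ∀ (n : ℕ) (h : F[X]), h.natDegree = n → derivative h ≠ 0 → ∃ x, h.IsRoot x := by
  intro n
  induction n using Nat.strong_induction_on with
  | _ n ih =>
    intro h hn hd
    have h0 : h ≠ 0 := by
      rintro rfl
      exact hd derivative_zero
    have hunit : ¬ IsUnit h := by
      intro hu
      obtain ⟨c, -, rfl⟩ := Polynomial.isUnit_iff.mp hu
      exact hd derivative_C
    obtain ⟨q, hq, r, rfl⟩ := WfDvdMonoid.exists_irreducible_factor hunit h0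
    by_cases hq' : derivative q = 0
    · have hr' : derivative r ≠ 0 := by
        intro hr'
        apply hd
        rw [derivative_mul, hq', hr', zero_mul, mul_zero, add_zero]
      have hr0 : r ≠ 0 := right_ne_zero_of_mul h0
      have hq0 : q ≠ 0 := hq.ne_zero
      have hdeg : r.natDegree < n := by
        rw [← hn, natDegree_mul hq0 hr0]
        have : 0 < q.natDegree := hq.natDegree_pos
        omega
      obtain ⟨x, hx⟩ := ih _ hdeg r rfl hr'
      exact ⟨x, by rw [IsRoot.def, eval_mul, hx.eq_zero, mul_zero]⟩
    · have hsep : q.Separable := (separable_iff_derivative_ne_zero hq).mpr hq'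
      have hdeg : q.degree ≠ 0 := by
        have := hq.degree_pos
        exact ne_of_gt this
      obtain ⟨x, hx⟩ := IsSepClosed.exists_root q hdeg hsep
      exact ⟨x, by rw [IsRoot.def, eval_mul, hx.eq_zero, zero_mul]⟩

/-- A monic polynomial over an integrally closed domain with separably closed fraction field whose
derivative is nonzero has a root. -/
theorem exists_root_of_monic_of_derivative_ne_zero {A : Type u} [CommRing A] [IsDomain A]
    [IsIntegrallyClosed A] [IsSepClosed (FractionRing A)] (h : A[X]) (hm : h.Monic)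
    (hd : derivative h ≠ 0) : ∃ a : A, h.eval a = 0 := by
  have hinj : Function.Injective (algebraMap A (FractionRing A)) :=
    IsFractionRing.injective A (FractionRing A)
  have hd' : derivative (h.map (algebraMap A (FractionRing A))) ≠ 0 := by
    rw [derivative_map]
    intro h0
    apply hd
    apply Polynomial.map_injective _ hinj
    rw [h0, Polynomial.map_zero]
  obtain ⟨α, hα⟩ := exists_root_of_derivative_ne_zero _ _ rfl hd'
  have hint : IsIntegral A α := by
    refine ⟨h, hm, ?_⟩
    rw [← eval_map]
    exact hα
  obtain ⟨a, rfl⟩ := IsIntegrallyClosed.algebraMap_eq_of_integral hint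
  refine ⟨a, ?_⟩
  apply hinj
  rw [map_zero, ← eval₂_hom, eval₂_eq_eval_map]
  exact hα

/-- Modulo an ideal containing a nonzero element, every monic polynomial of positive degree over
an integrally closed domain with separably closed fraction field has a root. -/
theorem exists_eval_mem_of_monic {A : Type u} [CommRing A] [IsDomain A]
    [IsIntegrallyClosed A] [IsSepClosed (FractionRing A)] (p : Ideal A) (hp : p ≠ ⊥)
    (g : A[X]) (hm : g.Monic) (hdeg : 0 < g.natDegree) : ∃ a : A, g.eval a ∈ p := by
  by_cases hd : derivative g = 0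
  · obtain ⟨π, hπ, hπ0⟩ := Submodule.exists_mem_ne_zero_of_ne_bot hp
    have hdeg2 : 2 ≤ g.natDegree := by
      by_contra hlt
      have h1 : g.natDegree = 1 := by omega
      have hc : g.coeff 1 = 1 := by
        have := hm.coeff_natDegree
        rwa [h1] at this
      have : (derivative g).coeff 0 = 1 := by
        rw [coeff_derivative]
        simp [hc]
      rw [hd, coeff_zero] at this
      exact zero_ne_one this
    have hm' : (g + C π * X).Monic := by
      apply hm.add_of_left
      calc (C π * X).degree ≤ 1 := by
            refine (degree_C_mul_X_le π)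
        _ < g.degree := by
            rw [degree_eq_natDegree hm.ne_zero]
            exact_mod_cast hdeg2
    have hd' : derivative (g + C π * X) ≠ 0 := by
      rw [derivative_add, hd, zero_add, derivative_C_mul, derivative_X, mul_one]
      intro h0
      exact hπ0 (C_eq_zero.mp h0)
    obtain ⟨a, ha⟩ := exists_root_of_monic_of_derivative_ne_zero _ hm' hd'
    refine ⟨a, ?_⟩
    rw [eval_add, eval_mul, eval_C, eval_X] at ha
    have : g.eval a = -(π * a) := eq_neg_of_add_eq_zero_left ha
    rw [this]
    exact p.neg_mem (p.mul_mem_right _ hπ)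
  · obtain ⟨a, ha⟩ := exists_root_of_monic_of_derivative_ne_zero g hm hd
    exact ⟨a, by rw [ha]; exact p.zero_mem⟩

/-- If every monic polynomial of positive degree over a domain `B` has a root in `B`, then the
fraction field of `B` is algebraically closed. -/
theorem isAlgClosed_of_isFractionRing {B κ : Type u} [CommRing B] [IsDomain B] [Field κ]
    [Algebra B κ] [IsFractionRing B κ]
    (H : ∀ g : B[X], g.Monic → 0 < g.natDegree → ∃ b : B, g.eval b = 0) : IsAlgClosed κ := by
  classical
  apply IsAlgClosed.of_exists_root
  intro P hP hirr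
  obtain ⟨s, hs⟩ := IsLocalization.exist_integer_multiples_of_finset (nonZeroDivisors B)
    ((Finset.range (P.natDegree + 1)).image P.coeff)
  have hs0 : algebraMap B κ (s : B) ≠ 0 := by
    intro h0
    have := (IsFractionRing.injective B κ) (h0.trans (map_zero _).symm)
    exact nonZeroDivisors.ne_zero s.2 this
  have hlift : P.scaleRoots (algebraMap B κ s) ∈ lifts (algebraMap B κ) := by
    rw [lifts_iff_coeff_lifts]
    intro i
    rw [coeff_scaleRoots]
    rcases lt_trichotomy i P.natDegree with hi | hi | hi
    · obtain ⟨c, hc⟩ := hs (P.coeff i) (Finset.mem_image.mpr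
        ⟨i, Finset.mem_range.mpr (by omega), rfl⟩)
      obtain ⟨k, hk⟩ : ∃ k, P.natDegree - i = k + 1 := ⟨P.natDegree - i - 1, by omega⟩
      refine ⟨c * (s : B) ^ k, ?_⟩
      rw [map_mul, hc, Algebra.smul_def, map_pow, hk, pow_succ]
      ring
    · subst hi
      refine ⟨1, ?_⟩
      rw [map_one, hP.coeff_natDegree, Nat.sub_self, pow_zero, mul_one]
    · refine ⟨0, ?_⟩
      rw [map_zero, coeff_eq_zero_of_natDegree_lt hi, zero_mul]
  have hmonic : (P.scaleRoots (algebraMap B κ s)).Monic := (monic_scaleRoots_iff _).mpr hP
  obtain ⟨Q₀, hQ₀, hdeg, hQ₀m⟩ := lifts_and_natDegree_eq_and_monic hlift hmonic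
  have hpos : 0 < Q₀.natDegree := by
    rw [hdeg, natDegree_scaleRoots]
    exact hirr.natDegree_pos
  obtain ⟨b, hb⟩ := H Q₀ hQ₀m hpos
  refine ⟨algebraMap B κ b / algebraMap B κ s, ?_⟩
  have h1 : eval (algebraMap B κ b) (P.scaleRoots (algebraMap B κ s)) = 0 := by
    rw [← hQ₀, eval_map, eval₂_hom, hb, map_zero]
  have h2 := scaleRoots_eval_mul P (algebraMap B κ b / algebraMap B κ s) (algebraMap B κ s)
  rw [mul_div_cancel₀ _ hs0, h1] at h2
  exact (mul_eq_zero.mp h2.symm).resolve_left (pow_ne_zero _ hs0)

/-- Modulo a nonzero prime, monic polynomials of positive degree have roots. -/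
theorem exists_root_quotient_of_monic {A : Type u} [CommRing A] [IsDomain A]
    [IsIntegrallyClosed A] [IsSepClosed (FractionRing A)] (p : Ideal A) (hp : p ≠ ⊥)
    (g₀ : (A ⧸ p)[X]) (hm : g₀.Monic) (hdeg : 0 < g₀.natDegree) : ∃ b : A ⧸ p, g₀.eval b = 0 := by
  have hlift : g₀ ∈ lifts (Ideal.Quotient.mk p) := by
    rw [lifts_iff_coeff_lifts]
    intro n
    exact Ideal.Quotient.mk_surjective _
  obtain ⟨g, hg, hgdeg, hgm⟩ := lifts_and_natDegree_eq_and_monic hlift hm
  obtain ⟨a, ha⟩ := exists_eval_mem_of_monic p hp g hgm (by rw [hgdeg]; exact hdeg)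
  refine ⟨Ideal.Quotient.mk p a, ?_⟩
  rw [← hg, eval_map, eval₂_hom, Ideal.Quotient.eq_zero_iff_mem]
  exact ha

/-- Stacks 0BSQ-type statement: the residue field at a nonzero prime of an integrally closed domain
with separably closed fraction field is algebraically closed. -/
theorem isAlgClosed_residueField_of_isSepClosed_fractionRing (A : Type u) [CommRing A] [IsDomain A]
    [IsIntegrallyClosed A] [IsSepClosed (FractionRing A)] (p : Ideal A) [p.IsPrime] (hp : p ≠ ⊥) :
    IsAlgClosed p.ResidueField :=
  isAlgClosed_of_isFractionRing (B := A ⧸ p) (exists_root_quotient_of_monic p hp)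

section henselian

open IsLocalRing

variable {A : Type u} [CommRing A] [IsDomain A] [IsLocalRing A] [IsIntegrallyClosed A]
  [IsSepClosed (FractionRing A)]

theorem henselian_aux : ∀ (n : ℕ) (f : A[X]), f.natDegree = n → f.Monic → ∀ a₀ : A,
    f.eval a₀ ∈ maximalIdeal A → (derivative f).eval a₀ ∉ maximalIdeal A →
    ∃ a : A, f.IsRoot a ∧ a - a₀ ∈ maximalIdeal A := by
  intro n
  induction n using Nat.strong_induction_on with
  | _ n ih =>
    intro f hn hm a₀ h₁ h₂
    have hd : derivative f ≠ 0 := by
      intro h0
      rw [h0, eval_zero] at h₂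
      exact h₂ (Ideal.zero_mem _)
    obtain ⟨a₁, ha₁⟩ := exists_root_of_monic_of_derivative_ne_zero f hm hd
    by_cases hcl : a₁ - a₀ ∈ maximalIdeal A
    · exact ⟨a₁, ha₁, hcl⟩
    · have hfac : (X - C a₁) * (f /ₘ (X - C a₁)) = f := mul_divByMonic_eq_iff_isRoot.mpr ha₁
      set f₁ := f /ₘ (X - C a₁) with hf₁
      have hm₁ : f₁.Monic := by
        apply Monic.of_mul_monic_left (monic_X_sub_C a₁)
        rw [hfac]; exact hm
      have hdeg : f₁.natDegree < n := by
        have := congrArg natDegree hfac
        rw [(monic_X_sub_C a₁).natDegree_mul hm₁, natDegree_X_sub_C, hn] at this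
        omega
      have hcl' : a₀ - a₁ ∉ maximalIdeal A := by
        intro h
        apply hcl
        have : a₁ - a₀ = -(a₀ - a₁) := by ring
        rw [this]
        exact (maximalIdeal A).neg_mem h
      have he : f.eval a₀ = (a₀ - a₁) * f₁.eval a₀ := by
        rw [← hfac, eval_mul, eval_sub, eval_X, eval_C]
      have h₁' : f₁.eval a₀ ∈ maximalIdeal A := by
        rw [he] at h₁
        exact ((maximalIdeal.isMaximal A).isPrime.mem_or_mem h₁).resolve_left hcl'
      have hde : (derivative f).eval a₀ = f₁.eval a₀ + (a₀ - a₁) * (derivative f₁).eval a₀ := by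
        rw [← hfac, derivative_mul, derivative_sub, derivative_X, derivative_C, sub_zero, one_mul,
          eval_add, eval_mul, eval_sub, eval_X, eval_C]
      have h₂' : (derivative f₁).eval a₀ ∉ maximalIdeal A := by
        intro h
        apply h₂
        rw [hde]
        exact Ideal.add_mem _ h₁' (Ideal.mul_mem_left _ _ h)
      obtain ⟨a, ha, haa⟩ := ih _ hdeg f₁ rfl hm₁ a₀ h₁' h₂'
      refine ⟨a, ?_, haa⟩
      rw [IsRoot.def, ← hfac, eval_mul, ha.eq_zero, mul_zero]

theorem henselianLocalRing_of_isSepClosed_fractionRing : HenselianLocalRing A where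
  is_henselian := by
    intro f hf a₀ h₁ h₂
    refine henselian_aux _ f rfl hf a₀ h₁ ?_
    intro h
    exact (mem_nonunits_iff.mp ((mem_maximalIdeal _).mp h)) h₂

theorem isSepClosed_residueField_of_isSepClosed_fractionRing :
    IsSepClosed (ResidueField A) := by
  apply IsSepClosed.of_exists_root
  intro P hP hirr hsep
  have hlift : P ∈ lifts (residue A) := by
    rw [lifts_iff_coeff_lifts]
    intro n
    exact Ideal.Quotient.mk_surjective _
  obtain ⟨g, hg, hgdeg, hgm⟩ := lifts_and_natDegree_eq_and_monic hlift hP
  have hd : derivative g ≠ 0 := by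
    intro h0
    have : derivative P = 0 := by
      rw [← hg, derivative_map, h0, Polynomial.map_zero]
    exact ((separable_iff_derivative_ne_zero hirr).mp hsep) this
  obtain ⟨a, ha⟩ := exists_root_of_monic_of_derivative_ne_zero g hgm hd
  refine ⟨residue A a, ?_⟩
  rw [← hg, eval_map, eval₂_hom, ha, map_zero]

end henselian

end Groth.Agent.H2
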