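import Mathlib.RingTheory.LocalRing.Module
import Mathlib.RingTheory.Flat.Equalizer
import Mathlib.RingTheory.Flat.Stability
import Mathlib.LinearAlgebra.TensorProduct.Tower

set_option autoImplicit false
universe u
open scoped TensorProduct
open Function (Injective Surjective Exact)

namespace Groth.Agent.H2

variable {R : Type u} [CommRing R]

/-- Every module has a presentation `0 → K → F → M → 0` with `F` flat (indeed free). -/
theorem exists_flat_presentation (M : Type u) [AddCommGroup M] [Module R M] :
    ∃ (K F : Type u) (_ : AddCommGroup K) (_ : Module R K) (_ : AddCommGroup F) (_ : Module R F)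
      (_ : Module.Flat R F) (i : K →ₗ[R] F) (p : F →ₗ[R] M),
      Injective i ∧ Exact i p ∧ Surjective p := by
  let p : (M →₀ R) →ₗ[R] M := Finsupp.linearCombination R (id : M → M)
  exact ⟨LinearMap.ker p, M →₀ R, inferInstance, inferInstance, inferInstance, inferInstance,
    inferInstance, (LinearMap.ker p).subtype, p, Submodule.injective_subtype _,
    LinearMap.exact_subtype_ker_map p,
    Finsupp.linearCombination_surjective R Function.surjective_id⟩

/-- `Tor1Zero R N M` says that `Tor_1^R(N, M) = 0`: for every flat presentation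
`0 → K → F → M → 0` of `M` the map `N ⊗ K → N ⊗ F` is injective. -/
def Tor1Zero (R : Type u) [CommRing R] (N M : Type u) [AddCommGroup N] [Module R N]
    [AddCommGroup M] [Module R M] : Prop :=
  ∀ (K F : Type u) [AddCommGroup K] [Module R K] [AddCommGroup F] [Module R F] [Module.Flat R F]
    (i : K →ₗ[R] F) (p : F →ₗ[R] M), Injective i → Exact i p → Surjective p →
    Injective (i.lTensor N)

variable {N M : Type u} [AddCommGroup N] [Module R N] [AddCommGroup M] [Module R M]

/-- Symmetry of Tor-vanishing computed from arbitrary flat presentations on both sides. -/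
theorem lTensor_inj_iff_rTensor_inj_of_presentations
    {K F : Type u} [AddCommGroup K] [Module R K] [AddCommGroup F] [Module R F] [Module.Flat R F]
    (i : K →ₗ[R] F) (p : F →ₗ[R] M) (hi : Injective i) (hip : Exact i p) (hp : Surjective p)
    {L G : Type u} [AddCommGroup L] [Module R L] [AddCommGroup G] [Module R G] [Module.Flat R G]
    (j : L →ₗ[R] G) (q : G →ₗ[R] N) (hj : Injective j) (hjq : Exact j q) (hq : Surjective q) :
    Injective (i.lTensor N) ↔ Injective (j.rTensor M) := by
  constructor
  · intro h
    rw [← LinearMap.lTensor_inj_iff_rTensor_inj]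
    exact lTensor_injective_of_exact_of_exact_of_rTensor_injective hip hp hjq hq
      ((LinearMap.lTensor_inj_iff_rTensor_inj _ _).mp h)
      (Module.Flat.lTensor_preserves_injective_linearMap j hj)
  · intro h
    exact lTensor_injective_of_exact_of_exact_of_rTensor_injective hjq hq hip hp h
      (Module.Flat.lTensor_preserves_injective_linearMap i hi)

theorem tor1Zero_iff_left
    {L G : Type u} [AddCommGroup L] [Module R L] [AddCommGroup G] [Module R G] [Module.Flat R G]
    (j : L →ₗ[R] G) (q : G →ₗ[R] N) (hj : Injective j) (hjq : Exact j q) (hq : Surjective q) :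
    Tor1Zero R N M ↔ Injective (j.rTensor M) := by
  constructor
  · intro h
    obtain ⟨K, F, _, _, _, _, _, i, p, hi, hip, hp⟩ := exists_flat_presentation (R := R) M
    exact (lTensor_inj_iff_rTensor_inj_of_presentations i p hi hip hp j q hj hjq hq).mp
      (h K F i p hi hip hp)
  · intro h K F _ _ _ _ _ i p hi hip hp
    exact (lTensor_inj_iff_rTensor_inj_of_presentations i p hi hip hp j q hj hjq hq).mpr h

theorem tor1Zero_iff_right
    {K F : Type u} [AddCommGroup K] [Module R K] [AddCommGroup F] [Module R F] [Module.Flat R F]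
    (i : K →ₗ[R] F) (p : F →ₗ[R] M) (hi : Injective i) (hip : Exact i p) (hp : Surjective p) :
    Tor1Zero R N M ↔ Injective (i.lTensor N) := by
  obtain ⟨L, G, _, _, _, _, _, j, q, hj, hjq, hq⟩ := exists_flat_presentation (R := R) N
  rw [tor1Zero_iff_left (M := M) j q hj hjq hq]
  exact (lTensor_inj_iff_rTensor_inj_of_presentations i p hi hip hp j q hj hjq hq).symm

theorem tor1Zero_comm : Tor1Zero R N M ↔ Tor1Zero R M N := by
  obtain ⟨L, G, _, _, _, _, _, j, q, hj, hjq, hq⟩ := exists_flat_presentation (R := R) N
  rw [tor1Zero_iff_left (M := M) j q hj hjq hq, tor1Zero_iff_right (N := M) j q hj hjq hq,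
    LinearMap.lTensor_inj_iff_rTensor_inj]

/-- `Tor_1(R/I, M) = 0` iff `I ⊗ M → M` is injective. -/
theorem tor1Zero_quotient_iff (I : Ideal R) :
    Tor1Zero R (R ⧸ I) M ↔ Injective (I.subtype.rTensor M) :=
  tor1Zero_iff_left (M := M) I.subtype (Submodule.mkQ I) (Submodule.injective_subtype _)
    (LinearMap.exact_subtype_mkQ I) (Submodule.mkQ_surjective I)

theorem tor1Zero_of_flat_right [Module.Flat R M] : Tor1Zero R N M := by
  obtain ⟨L, G, _, _, _, _, _, j, q, hj, hjq, hq⟩ := exists_flat_presentation (R := R) N
  rw [tor1Zero_iff_left (M := M) j q hj hjq hq]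
  exact Module.Flat.rTensor_preserves_injective_linearMap _ hj

theorem tor1Zero_of_flat_left [Module.Flat R N] : Tor1Zero R N M :=
  fun _ _ _ _ _ _ _ i _ hi _ _ => Module.Flat.lTensor_preserves_injective_linearMap i hi

/-- Flatness from vanishing of `Tor_1(R/I, M)` for all ideals. -/
theorem flat_of_forall_tor1Zero_quotient (h : ∀ I : Ideal R, Tor1Zero R (R ⧸ I) M) :
    Module.Flat R M := by
  rw [Module.Flat.iff_rTensor_injective']
  intro I
  exact (tor1Zero_quotient_iff I).mp (h I)

theorem flat_iff_forall_tor1Zero :
    Module.Flat R M ↔ ∀ (N : Type u) [AddCommGroup N] [Module R N], Tor1Zero R N M :=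
  ⟨fun _ _ _ _ => tor1Zero_of_flat_right, fun h => flat_of_forall_tor1Zero_quotient fun _ => h _⟩

/-- Half exactness of `Tor_1(-, M)` (vanishing form). -/
theorem tor1Zero_of_exact {N' N'' : Type u} [AddCommGroup N'] [Module R N'] [AddCommGroup N'']
    [Module R N''] (f : N' →ₗ[R] N) (g : N →ₗ[R] N'') (hf : Injective f) (hfg : Exact f g)
    (hg : Surjective g) (h' : Tor1Zero R N' M) (h'' : Tor1Zero R N'' M) : Tor1Zero R N M := by
  intro K F _ _ _ _ _ i p hi hip hp
  have h' := h' K F i p hi hip hp
  have h'' := h'' K F i p hi hip hp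
  rw [injective_iff_map_eq_zero]
  intro x hx
  -- the image of `x` in `N'' ⊗ K` vanishes
  have h1 : g.rTensor K x = 0 := by
    apply h''
    rw [map_zero, ← LinearMap.comp_apply, LinearMap.lTensor_comp_rTensor,
      ← LinearMap.rTensor_comp_lTensor, LinearMap.comp_apply, hx, map_zero]
  obtain ⟨y, rfl⟩ := (rTensor_exact K hfg hg x).mp h1
  have h2 : i.lTensor N' y = 0 := by
    have hinj : Injective (f.rTensor F) :=
      Module.Flat.rTensor_preserves_injective_linearMap f hf
    apply hinj
    rw [map_zero, ← LinearMap.comp_apply, LinearMap.rTensor_comp_lTensor,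
      ← LinearMap.lTensor_comp_rTensor, LinearMap.comp_apply]
    exact hx
  rw [h' (by rw [h2, map_zero] : i.lTensor N' y = i.lTensor N' 0), map_zero]

/-- Base change for `Tor_1`-vanishing: if `Tor_1^R(A, M) = 0` and `A ⊗ M` is flat over `A`, then
`Tor_1^R(N, M) = 0` for every `A`-module `N`. -/
theorem tor1Zero_of_algebra_module (A : Type u) [CommRing A] [Algebra R A]
    (hA : Tor1Zero R A M) [Module.Flat A (A ⊗[R] M)]
    (N : Type u) [AddCommGroup N] [Module R N] [Module A N] [IsScalarTower R A N] :
    Tor1Zero R N M := by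
  intro K F _ _ _ _ _ i p hi hip hp
  have hA := hA K F i p hi hip hp
  have hiA : Injective (i.baseChange A) := by
    rw [LinearMap.baseChange_eq_ltensor]; exact hA
  have hpA : Surjective (p.baseChange A) := by
    rw [LinearMap.baseChange_eq_ltensor]
    exact LinearMap.lTensor_surjective A hp
  have hex : Exact (i.baseChange A) (p.baseChange A) := by
    have := lTensor_exact A hip hp
    intro x
    rw [LinearMap.baseChange_eq_ltensor, this x]
    simp [LinearMap.baseChange_eq_ltensor]
  have key : Injective ((i.baseChange A).lTensor N) :=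
    LinearMap.lTensor_injective_of_exact_of_flat (p.baseChange A) hpA (i.baseChange A) hiA hex N
  let eK := TensorProduct.AlgebraTensorModule.cancelBaseChange R A A N K
  let eF := TensorProduct.AlgebraTensorModule.cancelBaseChange R A A N F
  have hcomm : ∀ x, i.lTensor N (eK x) = eF ((i.baseChange A).lTensor N x) := by
    intro x
    induction x using TensorProduct.induction_on with
    | zero => simp
    | tmul n y =>
      induction y using TensorProduct.induction_on with
      | zero => simp
      | tmul a k => simp [eK, eF]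
      | add y z hy hz => simp only [TensorProduct.tmul_add, map_add, hy, hz]
    | add x y hx hy => simp only [map_add, hx, hy]
  intro x y hxy
  obtain ⟨x', rfl⟩ := eK.surjective x
  obtain ⟨y', rfl⟩ := eK.surjective y
  rw [hcomm, hcomm] at hxy
  rw [key (eF.injective hxy)]

/-- If `Tor_1(R/I, M) = 0` and `M/IM` is flat over `R/I`, then `Tor_1(N, M) = 0` for every module
`N` killed by a power of `I`. -/
theorem tor1Zero_of_pow_smul_eq_bot (I : Ideal R)
    (hT : Tor1Zero R (R ⧸ I) M) [Module.Flat (R ⧸ I) ((R ⧸ I) ⊗[R] M)] :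
    ∀ j : ℕ, ∀ (N : Type u) [AddCommGroup N] [Module R N],
      (I ^ j) • (⊤ : Submodule R N) = ⊥ → Tor1Zero R N M := by
  intro j
  induction j with
  | zero =>
    intro N _ _ h
    have : Subsingleton N := by
      rw [pow_zero, Ideal.one_eq_top, Submodule.top_smul] at h
      exact (Submodule.subsingleton_iff R).mp (subsingleton_of_bot_eq_top h.symm)
    exact tor1Zero_of_flat_left
  | succ j ih =>
    intro N _ _ h
    let N' : Submodule R N := I • ⊤
    have h1 : Tor1Zero R N' M := by
      apply ih
      apply Submodule.map_injective_of_injective (Submodule.injective_subtype N')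
      rw [Submodule.map_smul'', Submodule.map_top, Submodule.range_subtype, Submodule.map_bot,
        ← Submodule.mul_smul, ← pow_succ]
      exact h
    have h2 : Tor1Zero R (N ⧸ N') M :=
      tor1Zero_of_algebra_module (R ⧸ I) hT (N ⧸ N')
    exact tor1Zero_of_exact N'.subtype N'.mkQ (Submodule.injective_subtype _)
      (LinearMap.exact_subtype_mkQ N') (Submodule.mkQ_surjective N') h1 h2

/-- Stacks 051C: if `I` is nilpotent, `Tor_1(R/I, M) = 0` and `M/IM` is flat over `R/I` then `M` is
flat over `R`. -/
theorem flat_of_isNilpotent_of_tor1Zero (I : Ideal R) (hI : IsNilpotent I)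
    (hT : Tor1Zero R (R ⧸ I) M) [Module.Flat (R ⧸ I) ((R ⧸ I) ⊗[R] M)] : Module.Flat R M := by
  obtain ⟨n, hn⟩ := hI
  apply flat_of_forall_tor1Zero_quotient
  intro J
  apply tor1Zero_of_pow_smul_eq_bot I hT n
  rw [hn, Ideal.zero_eq_bot, Submodule.bot_smul]

/-- A piece of the long exact sequence: if `Tor_1(N'', M) = 0` and `N' → N → N'' → 0` is exact with
`N' → N` injective, then `M ⊗ N' → M ⊗ N` is injective. -/
theorem lTensor_injective_of_tor1Zero {N' N'' : Type u} [AddCommGroup N'] [Module R N']
    [AddCommGroup N''] [Module R N''] (f : N' →ₗ[R] N) (g : N →ₗ[R] N'') (hf : Injective f)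
    (hfg : Exact f g) (hg : Surjective g) (h'' : Tor1Zero R N'' M) : Injective (f.lTensor M) := by
  obtain ⟨K, F, _, _, _, _, _, i, p, hi, hip, hp⟩ := exists_flat_presentation (R := R) M
  exact lTensor_injective_of_exact_of_exact_of_rTensor_injective hip hp hfg hg
    ((LinearMap.lTensor_inj_iff_rTensor_inj _ _).mp (h'' K F i p hi hip hp))
    (Module.Flat.lTensor_preserves_injective_linearMap f hf)

end Groth.Agent.H2
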