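import Mathlib
import Groth.Agent.H2.CanonDuality
import Groth.Agent.H18.TorSplice

/-!
# `Tor_j(E, M) ≅ Hom(Ext^j(M, A), E)` for finite `M` and injective `E`  (helper2)
-/

set_option autoImplicit false
set_option linter.unusedSectionVars false
set_option linter.style.haveILetI false

namespace Groth.Agent.H2.TorMatlis

universe u

open CategoryTheory CategoryTheory.Limits Abelian TensorProduct MonoidalCategory
  Groth.Agent.H2.Watts Groth.Agent.H2.WattsLC

variable {A : Type u} [CommRing A]
variable (E : Type u) [AddCommGroup E] [Module A E]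

section Beta

/-- the evaluation map `E ⊗ M → Hom(Hom(M, A), E)` -/
noncomputable def β (M : Type u) [AddCommGroup M] [Module A M] :
    E ⊗[A] M →ₗ[A] ((M →ₗ[A] A) →ₗ[A] E) :=
  TensorProduct.lift
    (LinearMap.mk₂ A (fun e m => (LinearMap.toSpanSingleton A E e).comp (LinearMap.applyₗ m))
      (by intro e e' m; ext φ; simp [LinearMap.toSpanSingleton_apply])
      (by intro c e m; ext φ; simp [LinearMap.toSpanSingleton_apply, smul_comm c])
      (by intro e m m'; ext φ; simp [add_smul, LinearMap.toSpanSingleton_apply])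
      (by intro c e m; ext φ; simp [LinearMap.toSpanSingleton_apply, mul_smul, smul_comm c]))

theorem β_tmul (M : Type u) [AddCommGroup M] [Module A M] (e : E) (m : M) (φ : M →ₗ[A] A) :
    β E M (e ⊗ₜ m) φ = φ m • e := rfl

theorem β_naturality {M N : Type u} [AddCommGroup M] [Module A M] [AddCommGroup N] [Module A N]
    (g : M →ₗ[A] N) (z : E ⊗[A] M) :
    β E N (LinearMap.lTensor E g z) = LinearMap.lcomp A E (LinearMap.lcomp A A g) (β E M z) := by
  induction z using TensorProduct.induction_on with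
  | zero => simp
  | tmul e m =>
    ext φ
    rfl
  | add x y hx hy => rw [map_add, map_add, map_add, map_add, hx, hy]

/-- `E ≃ Hom(Hom(A, A), E)` -/
noncomputable def cEquiv : E ≃ₗ[A] (((ModuleCat.of A A : ModuleCat.{u} A) →ₗ[A] A) →ₗ[A] E) where
  toFun e := (LinearMap.toSpanSingleton A E e).comp (LinearMap.applyₗ (1 : A))
  map_add' e e' := by
    ext φ
    simp [LinearMap.toSpanSingleton_apply]
  map_smul' c e := by
    ext φ
    simp [LinearMap.toSpanSingleton_apply, smul_comm c]
  invFun t := t LinearMap.id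
  left_inv e := by
    simp [LinearMap.toSpanSingleton_apply]
  right_inv t := by
    ext φ
    change φ (1 : A) • t LinearMap.id = t φ
    rw [← map_smul]
    congr 1
    ext
    simp

end Beta


section Bij

variable [IsNoetherianRing A] [Module.Injective A E]

theorem β_eq (M : Type u) [AddCommGroup M] [Module A M] :
    β E M = (α (DD (R := A) A E) (ModuleCat.of A M)) ∘ₗ
      (LinearMap.lTensor M (cEquiv E).toLinearMap) ∘ₗ (TensorProduct.comm A E M).toLinearMap := by
  apply TensorProduct.ext'
  intro e m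
  apply LinearMap.ext
  intro φ
  change φ m • e = (DDmap A E (ρ (ModuleCat.of A M) m) (cEquiv E e)) φ
  rw [DDmap_apply]
  change φ m • e = (φ ∘ₗ (ρ (ModuleCat.of A M) m).hom) (1 : A) • e
  rw [LinearMap.comp_apply, ρ_apply, one_smul]

theorem β_bijective (M : Type u) [AddCommGroup M] [Module A M] [Module.Finite A M] :
    Function.Bijective (β (A := A) E M) := by
  rw [β_eq E M]
  have h1 := α_bijective (DD (R := A) A E) (rightExact_DD (R := A) A E) M
  have h2 : Function.Bijective (LinearMap.lTensor M (cEquiv (A := A) E).toLinearMap) :=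
    (LinearEquiv.lTensor M (cEquiv (A := A) E)).bijective
  have h3 : Function.Bijective (TensorProduct.comm A E M).toLinearMap :=
    (TensorProduct.comm A E M).bijective
  exact h1.comp (h2.comp h3)

/-- `E ⊗ M ≃ Hom(Hom(M, A), E)` for finite `M` -/
noncomputable def βEquiv (M : Type u) [AddCommGroup M] [Module A M] [Module.Finite A M] :
    E ⊗[A] M ≃ₗ[A] ((M →ₗ[A] A) →ₗ[A] E) :=
  LinearEquiv.ofBijective (β (A := A) E M) (β_bijective E M)

end Bij


section Main

variable [IsNoetherianRing A] [Module.Injective A E]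

/-- `Tor_j(E, M) ≅ Hom(Ext^j(M, A), E)` for all finite `M` -/
def P (j : ℕ) : Prop :=
  ∀ (M : Type u) [AddCommGroup M] [Module A M] [Module.Finite A M],
    Nonempty ((((Tor (ModuleCat.{u} A) j).obj (ModuleCat.of A E)).obj (ModuleCat.of A M)) ≅
      ModuleCat.of A (Ext (ModuleCat.of A M) (ModuleCat.of A A) j →ₗ[A] E))

/-- `Hom(M, A) ≃ Ext^0(M, A)` -/
noncomputable def homExt₀ (M : Type u) [AddCommGroup M] [Module A M] :
    (M →ₗ[A] A) ≃ₗ[A] Ext (ModuleCat.of A M) (ModuleCat.of A A) 0 :=
  (ModuleCat.homLinearEquiv (S := A) (M := ModuleCat.of A M) (N := ModuleCat.of A A)).symm ≪≫ₗ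
    (Ext.linearEquiv₀ (R := A)).symm

theorem P_zero : P (A := A) E 0 := by
  intro M _ _ _
  let F : ModuleCat.{u} A ⥤ ModuleCat.{u} A :=
    (tensoringLeft (ModuleCat.{u} A)).obj (ModuleCat.of A E)
  have hF : PreservesFiniteColimits F :=
    inferInstanceAs (PreservesFiniteColimits (tensorLeft (ModuleCat.of A E)))
  have e1 : (F.leftDerived 0).obj (ModuleCat.of A M) ≅ F.obj (ModuleCat.of A M) :=
    F.leftDerivedZeroIsoSelf.app (ModuleCat.of A M)
  have e2 : F.obj (ModuleCat.of A M) ≅ ModuleCat.of A ((M →ₗ[A] A) →ₗ[A] E) :=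
    (βEquiv (A := A) E M).toModuleIso
  have e3 : ModuleCat.of A ((M →ₗ[A] A) →ₗ[A] E) ≅
      ModuleCat.of A (Ext (ModuleCat.of A M) (ModuleCat.of A A) 0 →ₗ[A] E) :=
    (LinearEquiv.congrLeft E A (homExt₀ (A := A) M)).toModuleIso
  exact ⟨e1 ≪≫ e2 ≪≫ e3⟩

end Main

end Groth.Agent.H2.TorMatlis
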