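import Mathlib
import Groth.Agent.H2.TorMatlis

/-!
# `Tor_j(E, M) ≅ Hom(Ext^j(M, A), E)`: the induction  (helper2)
-/

set_option autoImplicit false
set_option linter.unusedSectionVars false
set_option linter.style.haveILetI false

namespace Groth.Agent.H2.TorMatlis

universe u

open CategoryTheory CategoryTheory.Limits Abelian TensorProduct MonoidalCategory
  Groth.Agent.H2.Watts Groth.Agent.H2.WattsLC

variable {A : Type u} [CommRing A]
variable (E : Type u) [AddCommGroup E] [Module A E]

section Main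

variable [IsNoetherianRing A] [Module.Injective A E]

theorem βEquiv_apply (M : Type u) [AddCommGroup M] [Module A M] [Module.Finite A M]
    (z : E ⊗[A] M) : βEquiv (A := A) E M z = β (A := A) E M z := rfl

/-- the degree-one step, for an abstract presentation `0 → K → F → M → 0` with `F` projective -/
theorem P_one_aux {K F M : Type u} [AddCommGroup K] [Module A K] [Module.Finite A K]
    [AddCommGroup F] [Module A F] [Module.Finite A F] [AddCommGroup M] [Module A M]
    [Projective (ModuleCat.of A F)]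
    (ι : K →ₗ[A] F) (π : F →ₗ[A] M) (hι : Function.Injective ι) (hπ : Function.Surjective π)
    (hex : Function.Exact ι π) :
    Nonempty ((((Tor (ModuleCat.{u} A) 1).obj (ModuleCat.of A E)).obj (ModuleCat.of A M)) ≅
      ModuleCat.of A (Ext (ModuleCat.of A M) (ModuleCat.of A A) 1 →ₗ[A] E)) := by
  let F' : ModuleCat.{u} A ⥤ ModuleCat.{u} A :=
    (tensoringLeft (ModuleCat.{u} A)).obj (ModuleCat.of A E)
  have hS := Groth.Agent.H58.LC.shortExact_of (R := A) (A := K) (B := F)
    (C := M) ι π hι hπ hex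
  obtain ⟨e1⟩ := Groth.Agent.H18.leftDerived_one_iso_kernel F' hS
  have e2 : kernel (F'.map (ModuleCat.ofHom (R := A) (X := K) (Y := F) ι)) ≅
      ModuleCat.of A (LinearMap.ker (LinearMap.lTensor E ι)) :=
    ModuleCat.kernelIsoKer _
  have hnat : ∀ x : E ⊗[A] K,
      (LinearMap.lcomp A E (LinearMap.lcomp A A ι)) ((βEquiv (A := A) E K) x) =
      (βEquiv (A := A) E F) ((LinearMap.lTensor E ι) x) := by
    intro x
    rw [βEquiv_apply, βEquiv_apply]
    exact (β_naturality E ι x).symm
  obtain ⟨e3⟩ := GorDuality.nonempty_kerEquiv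
    (LinearMap.lTensor E ι) (LinearMap.lcomp A E (LinearMap.lcomp A A ι))
    (βEquiv (A := A) E K) (βEquiv (A := A) E F) hnat
  obtain ⟨e4⟩ := GorDuality.nonempty_extOne_equiv (N := K) (F := F) (M := M)
    (Y := A) E ι π hι hπ hex (fun x => Ext.eq_zero_of_projective x)
  have e5 : ModuleCat.of A (LinearMap.ker (LinearMap.lTensor E ι)) ≅
      ModuleCat.of A (Ext (ModuleCat.of A M) (ModuleCat.of A A) 1 →ₗ[A] E) :=
    (e3 ≪≫ₗ e4.symm).toModuleIso
  exact ⟨e1 ≪≫ e2 ≪≫ e5⟩

theorem P_one : P (A := A) E 1 := by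
  intro M _ _ _
  obtain ⟨σ, hσ, π, hπ⟩ := CanonDuality.exists_presentation' (R := A) M
  haveI : IsNoetherian A (σ →₀ A) := isNoetherian_of_isNoetherianRing_of_finite A _
  haveI : Module.Finite A (LinearMap.ker π) := inferInstance
  haveI : Projective (ModuleCat.of A (σ →₀ A)) :=
    (IsProjective.iff_projective _).mp inferInstance
  exact P_one_aux E (K := LinearMap.ker π) (F := (σ →₀ A)) (M := M) (LinearMap.ker π).subtype π (Submodule.injective_subtype _) hπ
    (LinearMap.exact_subtype_ker_map π)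

/-- the shifting step, for an abstract presentation -/
theorem P_shift_aux (j : ℕ) {K F M : Type u} [AddCommGroup K] [Module A K] [Module.Finite A K]
    [AddCommGroup F] [Module A F] [Module.Finite A F] [AddCommGroup M] [Module A M]
    [Projective (ModuleCat.of A F)]
    (ι : K →ₗ[A] F) (π : F →ₗ[A] M) (hι : Function.Injective ι) (hπ : Function.Surjective π)
    (hex : Function.Exact ι π)
    (ih : Nonempty ((((Tor (ModuleCat.{u} A) (j + 1)).obj (ModuleCat.of A E)).obj
        (ModuleCat.of A K)) ≅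
      ModuleCat.of A (Ext (ModuleCat.of A K) (ModuleCat.of A A) (j + 1) →ₗ[A] E))) :
    Nonempty ((((Tor (ModuleCat.{u} A) (j + 2)).obj (ModuleCat.of A E)).obj (ModuleCat.of A M)) ≅
      ModuleCat.of A (Ext (ModuleCat.of A M) (ModuleCat.of A A) (j + 2) →ₗ[A] E)) := by
  let F' : ModuleCat.{u} A ⥤ ModuleCat.{u} A :=
    (tensoringLeft (ModuleCat.{u} A)).obj (ModuleCat.of A E)
  have hS := Groth.Agent.H58.LC.shortExact_of (R := A) (A := K) (B := F)
    (C := M) ι π hι hπ hex
  obtain ⟨e1⟩ := Groth.Agent.H18.leftDerived_shift F' hS j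
  obtain ⟨e2⟩ := ih
  have h1j : 1 + (j + 1) = j + 2 := by omega
  let δE : Ext (ModuleCat.of A K) (ModuleCat.of A A) (j + 1) →ₗ[A]
      Ext (ModuleCat.of A M) (ModuleCat.of A A) (j + 2) :=
    Ext.precompOfLinear hS.extClass A (ModuleCat.of A A) h1j
  have hδE : Function.Bijective δE := by
    constructor
    · rw [injective_iff_map_eq_zero]
      intro x hx
      obtain ⟨x₂, rfl⟩ := Ext.contravariant_sequence_exact₁ hS _ x h1j hx
      rw [Ext.eq_zero_of_projective x₂, Ext.comp_zero]
    · intro y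
      obtain ⟨x₁, hx₁⟩ := Ext.contravariant_sequence_exact₃ hS _ y
        (Ext.eq_zero_of_projective _) h1j
      exact ⟨x₁, hx₁⟩
  exact ⟨e1 ≪≫ e2 ≪≫
    (LinearEquiv.congrLeft E A (LinearEquiv.ofBijective δE hδE)).toModuleIso⟩

theorem P_shift (j : ℕ) (ih : P (A := A) E (j + 1)) : P (A := A) E (j + 2) := by
  intro M _ _ _
  obtain ⟨σ, hσ, π, hπ⟩ := CanonDuality.exists_presentation' (R := A) M
  haveI : IsNoetherian A (σ →₀ A) := isNoetherian_of_isNoetherianRing_of_finite A _
  haveI : Module.Finite A (LinearMap.ker π) := inferInstance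
  haveI : Projective (ModuleCat.of A (σ →₀ A)) :=
    (IsProjective.iff_projective _).mp inferInstance
  exact P_shift_aux E j (K := LinearMap.ker π) (F := (σ →₀ A)) (M := M) (LinearMap.ker π).subtype π (Submodule.injective_subtype _) hπ
    (LinearMap.exact_subtype_ker_map π) (ih (LinearMap.ker π))

/-- **`Tor_j(E, M) ≅ Hom(Ext^j(M, A), E)`** for finite `M` over a Noetherian ring, `E` injective. -/
theorem tor_iso : ∀ j, P (A := A) E j
  | 0 => P_zero E
  | 1 => P_one E
  | (j + 2) => P_shift E j (tor_iso (j + 1))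

end Main

end Groth.Agent.H2.TorMatlis
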