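import Groth.Prelude.Def_Pi1
import Mathlib.LinearAlgebra.TensorProduct.Finiteness
import Mathlib.LinearAlgebra.TensorProduct.RightExactness
import Mathlib.RingTheory.TensorProduct.Basic
import Mathlib.Algebra.Module.FinitePresentation

set_option autoImplicit false
universe u
open scoped TensorProduct

namespace Groth.Agent.H2

variable {R S : Type u} [CommRing R] [CommRing S] [Algebra R S]

/-- For a universally injective `R → S`, the map `P → S ⊗ P`, `p ↦ 1 ⊗ p` is injective. -/
theorem UnivInjective.injective_one_tmul (h : Pi1.UnivInjective R S)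
    (P : Type u) [AddCommGroup P] [Module R P] :
    Function.Injective (fun p : P => (1 : S) ⊗ₜ[R] p) := by
  have h1 := h P
  have h2 : (fun p : P => (1 : S) ⊗ₜ[R] p) =
      (TensorProduct.comm R P S) ∘ (LinearMap.lTensor P (Algebra.linearMap R S)) ∘
        (TensorProduct.rid R P).symm := by
    funext p
    simp
  rw [h2]
  exact (TensorProduct.comm R P S).injective.comp (h1.comp (TensorProduct.rid R P).symm.injective)

theorem UnivInjective.subsingleton_of_tensor (h : Pi1.UnivInjective R S)
    (P : Type u) [AddCommGroup P] [Module R P] [Subsingleton (S ⊗[R] P)] : Subsingleton P :=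
  (UnivInjective.injective_one_tmul h P).subsingleton

/-- If `N' ⊆ M` is a submodule such that `S ⊗ N' → S ⊗ M` is surjective, then `N' = ⊤`
provided `R → S` is universally injective. -/
theorem UnivInjective.eq_top_of_lTensor_surjective (h : Pi1.UnivInjective R S)
    (M : Type u) [AddCommGroup M] [Module R M] (N' : Submodule R M)
    (hs : Function.Surjective (N'.subtype.lTensor S)) : N' = ⊤ := by
  have hsub : Subsingleton (S ⊗[R] (M ⧸ N')) := by
    refine ⟨fun x y => ?_⟩
    have hz : ∀ x : S ⊗[R] (M ⧸ N'), x = 0 := by
      intro x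
      obtain ⟨y, rfl⟩ := LinearMap.lTensor_surjective S (Submodule.mkQ_surjective N') x
      obtain ⟨z, rfl⟩ := hs y
      rw [← LinearMap.comp_apply, ← LinearMap.lTensor_comp]
      have : N'.mkQ ∘ₗ N'.subtype = 0 := by
        ext n
        simp
      rw [this, LinearMap.lTensor_zero, LinearMap.zero_apply]
    rw [hz x, hz y]
  have := UnivInjective.subsingleton_of_tensor h (M ⧸ N')
  exact Submodule.Quotient.subsingleton_iff.mp this

/-- A finitely generated submodule `N' ⊆ M` with `S ⊗ N' → S ⊗ M` surjective exists whenever
`S ⊗ M` is a finite `S`-module. -/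
theorem exists_fg_lTensor_surjective
    (M : Type u) [AddCommGroup M] [Module R M] [Module.Finite S (S ⊗[R] M)] :
    ∃ N' : Submodule R M, N'.FG ∧ Function.Surjective (N'.subtype.lTensor S) := by
  obtain ⟨s, hs⟩ := (Module.Finite.fg_top : (⊤ : Submodule S (S ⊗[R] M)).FG)
  obtain ⟨N', hN', hsub⟩ :=
    TensorProduct.exists_finite_submodule_right_of_setFinite (s : Set (S ⊗[R] M)) s.finite_toSet
  refine ⟨N', Module.Finite.iff_fg.mp hN', ?_⟩
  have hrange : LinearMap.range (N'.subtype.lTensor S) =
      (LinearMap.range (N'.subtype.baseChange S)).restrictScalars R := by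
    ext x
    simp [LinearMap.baseChange_eq_ltensor]
  have htop : LinearMap.range (N'.subtype.baseChange S) = ⊤ := by
    rw [eq_top_iff, ← hs, Submodule.span_le]
    intro x hx
    have := hsub hx
    rw [hrange] at this
    exact this
  intro x
  have hx : x ∈ LinearMap.range (N'.subtype.baseChange S) := by rw [htop]; trivial
  obtain ⟨y, hy⟩ := hx
  exact ⟨y, by rw [← hy, LinearMap.baseChange_eq_ltensor]⟩

theorem UnivInjective.finite_of_finite_tensor (h : Pi1.UnivInjective R S)
    (M : Type u) [AddCommGroup M] [Module R M] [Module.Finite S (S ⊗[R] M)] :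
    Module.Finite R M := by
  obtain ⟨N', hfg, hsurj⟩ := exists_fg_lTensor_surjective (R := R) (S := S) M
  have := UnivInjective.eq_top_of_lTensor_surjective h M N' hsurj
  rw [this] at hfg
  exact ⟨hfg⟩

/-- Key lemma: if `π : F → M` is surjective and the kernel of its base change to `S` is a finitely
generated `S`-module, then the kernel of `π` is finitely generated, for `R → S` universally
injective. -/
theorem UnivInjective.fg_ker_of_fg_ker_baseChange (h : Pi1.UnivInjective R S)
    {F M : Type u} [AddCommGroup F] [Module R F] [AddCommGroup M] [Module R M]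
    (π : F →ₗ[R] M) (hπ : Function.Surjective π)
    (hK' : (LinearMap.ker (π.baseChange S)).FG) : (LinearMap.ker π).FG := by
  classical
  set K := LinearMap.ker π with hK
  have hex : Function.Exact (K.subtype.lTensor S) (π.lTensor S) :=
    lTensor_exact S (LinearMap.exact_subtype_ker_map π) hπ
  obtain ⟨gens, hgens⟩ := hK'
  -- lift the generators to `S ⊗ K`
  have hlift : ∀ g ∈ gens, ∃ y : S ⊗[R] K, K.subtype.lTensor S y = g := by
    intro g hg
    have hg' : g ∈ LinearMap.ker (π.baseChange S) := by
      rw [← hgens]; exact Submodule.subset_span hg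
    have : π.lTensor S g = 0 := by
      rw [← LinearMap.baseChange_eq_ltensor]; exact hg'
    exact (hex g).mp this
  choose! lift hliftspec using hlift
  obtain ⟨K₁, hK₁fin, hK₁⟩ :=
    TensorProduct.exists_finite_submodule_right_of_setFinite
      ((gens.image lift : Finset (S ⊗[R] K)) : Set (S ⊗[R] K)) (Finset.finite_toSet _)
  -- the image of `K₁` in `F`
  let K₁' : Submodule R F := K₁.map K.subtype
  have hK₁'fg : K₁'.FG := (Module.Finite.iff_fg.mp hK₁fin).map _
  have hK₁'le : K₁' ≤ K := by
    rintro _ ⟨x, -, rfl⟩
    exact x.2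
  -- the quotient map kills the kernel of the base change
  let q : F →ₗ[R] F ⧸ K₁' := K₁'.mkQ
  have hqK₁ : q ∘ₗ K.subtype ∘ₗ K₁.subtype = 0 := by
    ext x
    simp only [LinearMap.coe_comp, Function.comp_apply, Submodule.coe_subtype,
      LinearMap.zero_apply, q, Submodule.mkQ_apply, Submodule.Quotient.mk_eq_zero]
    exact ⟨x.1, x.2, rfl⟩
  have hkill : LinearMap.ker (π.baseChange S) ≤ LinearMap.ker (q.baseChange S) := by
    rw [← hgens, Submodule.span_le]
    intro g hg
    have h1 : lift g ∈ LinearMap.range (K₁.subtype.lTensor S) :=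
      hK₁ (by simp only [Finset.coe_image]; exact ⟨g, hg, rfl⟩)
    obtain ⟨z, hz⟩ := h1
    have h2 : g = (K.subtype ∘ₗ K₁.subtype).lTensor S z := by
      rw [LinearMap.lTensor_comp, LinearMap.comp_apply, hz, hliftspec g hg]
    change q.baseChange S g = 0
    rw [LinearMap.baseChange_eq_ltensor, h2, ← LinearMap.comp_apply, ← LinearMap.lTensor_comp,
      hqK₁, LinearMap.lTensor_zero, LinearMap.zero_apply]
  have hle : K ≤ K₁' := by
    intro k hk
    have h1 : (1 : S) ⊗ₜ[R] k ∈ LinearMap.ker (π.baseChange S) := by
      simp only [LinearMap.mem_ker, LinearMap.baseChange_tmul]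
      rw [show π k = 0 from hk, TensorProduct.tmul_zero]
    have h2 := hkill h1
    simp only [LinearMap.mem_ker, LinearMap.baseChange_tmul] at h2
    have h3 : q k = 0 := by
      apply UnivInjective.injective_one_tmul h (F ⧸ K₁')
      simp only [h2, TensorProduct.tmul_zero]
    simpa [q, Submodule.Quotient.mk_eq_zero] using h3
  rw [show K = K₁' from le_antisymm hle hK₁'le]
  exact hK₁'fg

theorem UnivInjective.finitePresentation_of_finitePresentation_tensor (h : Pi1.UnivInjective R S)
    (M : Type u) [AddCommGroup M] [Module R M] [Module.FinitePresentation S (S ⊗[R] M)] :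
    Module.FinitePresentation R M := by
  have hfin : Module.Finite R M := UnivInjective.finite_of_finite_tensor h M
  obtain ⟨n, π, hπ⟩ := Module.Finite.exists_fin' R M
  have hsurj : Function.Surjective (π.baseChange S) := by
    rw [LinearMap.baseChange_eq_ltensor]
    exact LinearMap.lTensor_surjective S hπ
  have hK' : (LinearMap.ker (π.baseChange S)).FG :=
    Module.FinitePresentation.fg_ker (π.baseChange S) hsurj
  exact Module.finitePresentation_of_free_of_surjective π hπ
    (UnivInjective.fg_ker_of_fg_ker_baseChange h π hπ hK')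

end Groth.Agent.H2
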