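import Mathlib
import Groth.Agent.H2.WattsLC
import Groth.Agent.H58.LCColim3

/-!
# Watts for arbitrary modules, for functors commuting with filtered colimits  (helper2)
-/

set_option autoImplicit false
set_option linter.unusedSectionVars false
set_option linter.style.haveILetI false

namespace Groth.Agent.H2.WattsColim

universe u

open CategoryTheory CategoryTheory.Limits TensorProduct Groth.Agent.H2.Watts
  Groth.Agent.H58.LCColim

variable {R : Type u} [CommRing R]
variable (T : ModuleCat.{u} R ⥤ ModuleCat.{u} R) [T.Additive] [T.Linear R]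

theorem α_bijective_of_fg (M : Type u) [AddCommGroup M] [Module R M]
    [PreservesColimitsOfShape (FGSub (R := R) M) T]
    (h : ∀ N : Submodule R M, N.FG → Function.Bijective (α T (ModuleCat.of R N))) :
    Function.Bijective (α T (ModuleCat.of R M)) := by
  have hc := isColimitOfPreserves T (fgIsColimit (R := R) M)
  constructor
  · rw [injective_iff_map_eq_zero]
    intro z hz
    obtain ⟨N, hNfin, hzN⟩ := TensorProduct.exists_finite_submodule_left_of_setFinite
      ({z} : Set (M ⊗[R] T.obj (ModuleCat.of R R))) (Set.finite_singleton z)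
    obtain ⟨zN, rfl⟩ := hzN (Set.mem_singleton z)
    have hNfg : N.FG := Module.Finite.iff_fg.mp hNfin
    let N₀ : FGSub (R := R) M := ⟨N, hNfg⟩
    -- `T(incl)(α_N z_N) = 0`
    have h1 : (T.map (ModuleCat.ofHom N.subtype)).hom (α T (ModuleCat.of R N) zN) = 0 := by
      rw [α_naturality]; exact hz
    have h2 : ((T.mapCocone (fgCocone (R := R) M)).ι.app N₀).hom
        (α T (ModuleCat.of R N) zN) =
        ((T.mapCocone (fgCocone (R := R) M)).ι.app N₀).hom (0 : T.obj (ModuleCat.of R N)) := by
      exact h1.trans (map_zero _).symm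
    obtain ⟨N', f, g, hfg⟩ := Concrete.isColimit_exists_of_rep_eq
      (fgDiagram (R := R) M ⋙ T) hc _ _ h2
    have h3 : (T.map (ModuleCat.ofHom (Submodule.inclusion (leOfHom f)))).hom
        (α T (ModuleCat.of R N) zN) = 0 := by
      have : ((fgDiagram (R := R) M ⋙ T).map g).hom (0 : T.obj (ModuleCat.of R N)) = 0 :=
        map_zero _
      exact hfg.trans this
    rw [α_naturality] at h3
    have h4 := (h N'.1 N'.2).1 (h3.trans (map_zero _).symm)
    have h5 : N.subtype = N'.1.subtype ∘ₗ Submodule.inclusion (leOfHom f) := by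
      apply LinearMap.ext; intro x; rfl
    rw [h5, LinearMap.rTensor_comp_apply]
    change (N'.1.subtype.rTensor _) ((ModuleCat.ofHom (Submodule.inclusion (leOfHom f))).hom.rTensor
      _ zN) = 0
    rw [h4, map_zero]
  · intro y
    obtain ⟨N, yN, hy⟩ := Concrete.isColimit_exists_rep (fgDiagram (R := R) M ⋙ T) hc y
    obtain ⟨zN, hzN⟩ := (h N.1 N.2).2 yN
    refine ⟨N.1.subtype.rTensor _ zN, ?_⟩
    have := α_naturality T (ModuleCat.ofHom N.1.subtype) zN
    rw [hzN] at this
    rw [← hy]
    exact this.symm

/-- Watts for arbitrary modules -/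
theorem α_bijective_all [IsNoetherianRing R] (hT : RightExact T)
    (hcolim : ∀ (M : Type u) [AddCommGroup M] [Module R M],
      PreservesColimitsOfShape (FGSub (R := R) M) T)
    (M : Type u) [AddCommGroup M] [Module R M] :
    Function.Bijective (α T (ModuleCat.of R M)) := by
  haveI := hcolim M
  apply α_bijective_of_fg T M
  intro N hN
  haveI : Module.Finite R N := Module.Finite.iff_fg.mpr hN
  exact α_bijective T hT N

end Groth.Agent.H2.WattsColim
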